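import Mathlib.Analysis.SpecialFunctions.Log.Basic
import Cfsg.Agent.Lib.BlocksNormal.MajorHeight

/-!
# Totally positive algebraic integers with small average

`eval_eq_one_of_average`: if the values of an integral polynomial at the primitive `N`-th roots of
unity are positive reals with average at most one, they are all one.
-/

set_option autoImplicit false

namespace Cfsg.Agent.Star

open Polynomial Cfsg.Agent.MajorSub

theorem eq_one_of_prod_sum {ι : Type*} {s : Finset ι} {r : ι → ℝ} (hpos : ∀ i ∈ s, 0 < r i)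
    (hprod : 1 ≤ ∏ i ∈ s, r i) (hsum : ∑ i ∈ s, r i ≤ s.card) : ∀ i ∈ s, r i = 1 := by
  by_contra hne
  push Not at hne
  obtain ⟨j, hj, hj1⟩ := hne
  have h2 : 0 ≤ ∑ i ∈ s, Real.log (r i) := by
    rw [← Real.log_prod fun i hi => (hpos i hi).ne']
    exact Real.log_nonneg hprod
  have h3 : ∑ i ∈ s, Real.log (r i) < ∑ i ∈ s, (r i - 1) :=
    Finset.sum_lt_sum (fun i hi => Real.log_le_sub_one_of_pos (hpos i hi))
      ⟨j, hj, Real.log_lt_sub_one_of_pos (hpos j hj) hj1⟩
  rw [Finset.sum_sub_distrib, Finset.sum_const, nsmul_one] at h3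
  linarith

/-- A non-zero integral element whose conjugates are non-negative has conjugate sum at least their
number, with equality only for `1`. -/
theorem le_sum_roots {N : ℕ} [NeZero N] (Q : ℤ[X]) (r : ℂ → ℝ)
    (hr : ∀ z ∈ primitiveRoots N ℂ, aeval z Q = (r z : ℂ))
    (hpos : ∀ z ∈ primitiveRoots N ℂ, 0 < r z) :
    ((primitiveRoots N ℂ).card : ℝ) ≤ ∑ z ∈ primitiveRoots N ℂ, r z ∧
      (∑ z ∈ primitiveRoots N ℂ, r z ≤ (primitiveRoots N ℂ).card →
        ∀ z ∈ primitiveRoots N ℂ, r z = 1) := by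
  classical
  obtain ⟨n, hn⟩ := exists_int_prod (N := N) Q
  have hprod : (1 : ℝ) ≤ ∏ z ∈ primitiveRoots N ℂ, r z := by
    have h : ((∏ z ∈ primitiveRoots N ℂ, r z : ℝ) : ℂ) = ((n : ℝ) : ℂ) := by
      rw [Complex.ofReal_prod, Complex.ofReal_intCast, ← hn]
      exact Finset.prod_congr rfl fun z hz => (hr z hz).symm
    rw [Complex.ofReal_inj] at h
    have h0 : (0 : ℝ) < ∏ z ∈ primitiveRoots N ℂ, r z := Finset.prod_pos hpos
    rw [h] at h0 ⊢
    exact_mod_cast (Int.cast_pos.1 h0)
  refine ⟨?_, eq_one_of_prod_sum hpos hprod⟩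
  have h2 : 0 ≤ ∑ z ∈ primitiveRoots N ℂ, Real.log (r z) := by
    rw [← Real.log_prod fun i hi => (hpos i hi).ne']
    exact Real.log_nonneg hprod
  have h3 := h2.trans (Finset.sum_le_sum fun i hi => Real.log_le_sub_one_of_pos (hpos i hi))
  rw [Finset.sum_sub_distrib, Finset.sum_const, nsmul_one] at h3
  linarith

end Cfsg.Agent.Star
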