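import Cfsg.Agent.Lib.Star.Pieces
import Cfsg.Agent.Lib.Star.Average
import Cfsg.Agent.Lib.BrauerPairs.AbelianDefect
import Cfsg.Agent.Lib.BrauerPairs.Correspondence

/-!
# The characters of a nilpotent block

For a nilpotent block `B` with maximal pair `(P, e)` and a character `χ` of height zero:
`nilpotent_weight_eq_one` (every piece has mean square `1 / |C_P(u)|`) and `exists_irr_equiv`
(the constructions on the irreducible characters of `P` are the characters of `B`).
-/

set_option autoImplicit false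
set_option synthInstance.maxHeartbeats 200000
set_option maxHeartbeats 1000000

open scoped ComplexConjugate

namespace Cfsg.Agent.Star

open Cfsg Cfsg.Agent.Blocks Cfsg.Agent.BrauerPairs Cfsg.Agent.SecondMain

variable {G : Type*} [Group G] [Finite G] {p : ℕ} [Fact p.Prime] {M : Ideal AlgInt}
  (hM : IsPModular p M) {B : Set (IrrCharacter G)} {P : Subgroup G}
  {e : Set (IrrCharacter (Subgroup.centralizer (P : Set G)))}

/-- The subpair of `(P, e)` at the cyclic subgroup of `u`. -/
noncomputable def subAt (p : ℕ) (M : Ideal AlgInt) (P : Subgroup G)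
    (e : Set (IrrCharacter (Subgroup.centralizer (P : Set G)))) (u : G) : BrauerPairIdx G :=
  ⟨Subgroup.zpowers u,
    haveI : Inhabited (Set (IrrCharacter (Subgroup.centralizer (Subgroup.zpowers u : Set G)))) := ⟨∅⟩
    Classical.epsilon fun b => IsPBlock M b ∧ SubpairLE p M (Subgroup.zpowers u) b P e⟩

include hM in
theorem subAt_spec (hmax : IsMaximalBrauerPair p M B P e) {u : G} (hu : u ∈ P) :
    subAt p M P e u ∈ pairsAt M u ∧ SubpairLE p M (subAt p M P e u).1 (subAt p M P e u).2 P e := by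
  obtain ⟨b, hb, hle⟩ := exists_subpair hM (P := P) (e := e) hmax.1.1 (Subgroup.zpowers_le.2 hu)
  haveI : Inhabited (Set (IrrCharacter (Subgroup.centralizer (Subgroup.zpowers u : Set G)))) := ⟨∅⟩
  have h := Classical.epsilon_spec
    (p := fun b => IsPBlock M b ∧ SubpairLE p M (Subgroup.zpowers u) b P e) ⟨b, hb, hle⟩
  exact ⟨mem_pairsAt.2 ⟨rfl, h.1⟩, h.2⟩

include hM in
theorem subAt_unique (hmax : IsMaximalBrauerPair p M B P e) {u : G} (hu : u ∈ P)
    {a : BrauerPairIdx G} (ha : a.1 = Subgroup.zpowers u) (hle : SubpairLE p M a.1 a.2 P e) :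
    a = subAt p M P e u := by
  obtain ⟨V, b⟩ := a
  obtain rfl : V = Subgroup.zpowers u := ha
  have h := subpair_unique hM hmax.1.1 hle (f' := (subAt p M P e u).2) (subAt_spec hM hmax hu).2
  exact congrArg (Sigma.mk (Subgroup.zpowers u)) h

include hM in
theorem subAt_conj (hmax : IsMaximalBrauerPair p M B P e) {u w : G} (hu : u ∈ P) (hw : w ∈ P) :
    conjIdx w (subAt p M P e u) = subAt p M P e (w * u * w⁻¹) := by
  obtain ⟨h1, h2⟩ := subAt_spec hM hmax hu
  refine subAt_unique hM hmax (P.mul_mem (P.mul_mem hw hu) (P.inv_mem hw))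
    ((congrArg (conjSub w) (mem_pairsAt.1 h1).1).trans (MonoidHom.map_zpowers _ u)) ?_
  have hst : w ∈ pairStab M P e :=
    ⟨Subgroup.le_normalizer hw, cj_eq_self_of_suppIn (bIdem_central _ e).1 hw⟩
  have h := subpairLE_conj hM h2 w
  unfold SubpairLE at h ⊢
  rw [show (⟨conjSub w P, conjBlock P w e⟩ : BrauerPairIdx G) = conjIdx w ⟨P, e⟩ from rfl,
    conjIdx_eq_self_of_mem_pairStab hM hmax.1.1.2 hst] at h
  exact h

include hM in
/-- In a nilpotent block conjugations below `(P, e)` are inner. -/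
theorem exists_inner (hmax : IsMaximalBrauerPair p M B P e) (hnil : IsNilpotentBlock p M B)
    {u g : G} (hu : u ∈ P)
    (hg : SubpairLE p M (conjIdx g (subAt p M P e u)).1 (conjIdx g (subAt p M P e u)).2 P e) :
    ∃ w ∈ P, g * u * g⁻¹ = w * u * w⁻¹ := by
  obtain ⟨h1, h2⟩ := subAt_spec hM hmax hu
  obtain ⟨hz, hb⟩ := mem_pairsAt.1 h1
  obtain ⟨w, hw, hc⟩ := mem_coset_centralizer_of_nilpotent hM hmax hnil hb h2 hg
  refine ⟨w, hw, ?_⟩
  have h := Subgroup.mem_centralizer_iff.1 hc u (by rw [hz]; exact Subgroup.mem_zpowers u)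
  calc g * u * g⁻¹ = w * ((w⁻¹ * g) * u) * g⁻¹ := by group
    _ = w * (u * (w⁻¹ * g)) * g⁻¹ := by rw [h]
    _ = w * u * w⁻¹ := by group

include hM in
/-- Every class function of `P` is stable. -/
theorem isStable_of_nilpotent (hmax : IsMaximalBrauerPair p M B P e)
    (hnil : IsNilpotentBlock p M B) {φ : G → ℂ}
    (hφ : ∀ x ∈ P, ∀ w ∈ P, φ (w * x * w⁻¹) = φ x) : IsStable p M P e φ := by
  intro a u x y ha hab hx hy
  have hxu := conjIdx_mem_P (p := p) ha hx
  have hax : conjIdx x a = subAt p M P e (x * u * x⁻¹) :=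
    subAt_unique hM hmax hxu ((congrArg (conjSub x) ha).trans (MonoidHom.map_zpowers _ u)) hx
  obtain ⟨w, hw, he⟩ := exists_inner hM hmax hnil hxu (g := y * x⁻¹) (by
    rw [← hax, conjIdx_conjIdx hM _ _ hab, inv_mul_cancel_right]
    exact hy)
  rw [show y * u * y⁻¹ = (y * x⁻¹) * (x * u * x⁻¹) * (y * x⁻¹)⁻¹ by group, he, hφ _ hxu w hw]

/-- The order of the centraliser in `P`. -/
noncomputable def cP (P : Subgroup G) (u : G) : ℕ :=
  Nat.card (P ⊓ Subgroup.centralizer (Subgroup.zpowers u : Set G) : Subgroup G)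

omit [Fact p.Prime] in
theorem cP_conj {w : G} (hw : w ∈ P) (u : G) : cP P (w * u * w⁻¹) = cP P u := by
  have hz : Subgroup.zpowers (w * u * w⁻¹) = conjSub w (Subgroup.zpowers u) :=
    (MonoidHom.map_zpowers (MulAut.conj w).toMonoidHom u).symm
  rw [cP, cP, ← card_conjSub w (P ⊓ Subgroup.centralizer (Subgroup.zpowers u : Set G))]
  refine congrArg (fun K : Subgroup G => Nat.card K) ?_
  rw [hz, ← conjSub_centralizer_map]
  conv_lhs => rw [← conjSub_eq_self_iff.2 (Subgroup.le_normalizer hw : w ∈ Subgroup.normalizer (P : Set G))]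
  exact (Subgroup.map_inf _ _ (MulAut.conj w).toMonoidHom (MulAut.conj w).injective).symm

include hM in
open scoped Classical in
/-- Sums over the sections of a nilpotent block, reorganised over the elements of `P`. -/
theorem sum_secIdx [Fintype G] [Fintype P] (hmax : IsMaximalBrauerPair p M B P e)
    (hnil : IsNilpotentBlock p M B) (W : G → BrauerPairIdx G → ℂ)
    (hW : ∀ g u : G, ∀ a ∈ pairsAt M u, W (g * u * g⁻¹) (conjIdx g a) = W u a) :
    (Nat.card P : ℂ) * ∑ q ∈ secIdx p M B, W q.1 q.2 =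
      (Nat.card G : ℂ) * ∑ x : P, (cP P (x : G) : ℂ) /
        (Nat.card (Subgroup.centralizer (Subgroup.zpowers (x : G) : Set G)) : ℂ) *
          W (x : G) (subAt p M P e (x : G)) := by
  set f : G × P → (_ : G) × BrauerPairIdx G :=
    fun r => ⟨r.1 * (r.2 : G) * r.1⁻¹, conjIdx r.1 (subAt p M P e (r.2 : G))⟩ with hf
  have hmem : ∀ r : G × P, f r ∈ secIdx p M B := by
    rintro ⟨g, x⟩
    obtain ⟨h1, h2⟩ := subAt_spec hM hmax x.2
    obtain ⟨hz, hb⟩ := mem_pairsAt.1 h1
    refine mem_secIdx.2 ⟨?_, mem_pairsAt.2 ⟨(congrArg (conjSub g) hz).trans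
      (MonoidHom.map_zpowers _ _), isPBlock_conjBlock _ _ hb⟩,
      isBrauerPairOf_conj hM ((isBrauerPairOf_iff_of_le hM hmax.1.2.1 h2).1 hmax.1) g⟩
    show ∃ k, orderOf (g * (x : G) * g⁻¹) = p ^ k
    rw [orderOf_conj]
    exact exists_order_pow hmax.1.1.1 x
  set c : P → ℂ := fun x => (cP P (x : G) : ℂ) /
    (Nat.card (Subgroup.centralizer (Subgroup.zpowers (x : G) : Set G)) : ℂ) with hc
  have hfib : ∀ q ∈ secIdx p M B,
      ∑ r ∈ (Finset.univ : Finset (G × P)).filter (fun r => f r = q), c r.2 = (Nat.card P : ℂ) := by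
    rintro ⟨u, a⟩ hq
    obtain ⟨-, ha, haB⟩ := mem_secIdx.1 hq
    obtain ⟨hz, hb⟩ := mem_pairsAt.1 ha
    obtain ⟨y, hy⟩ := exists_conj_le_maximal hM hmax haB
    set x0 := y * u * y⁻¹ with hx0
    have hx0P : x0 ∈ P := conjIdx_mem_P (p := p) hz hy
    have hay : conjIdx y a = subAt p M P e x0 :=
      subAt_unique hM hmax hx0P ((congrArg (conjSub y) hz).trans (MonoidHom.map_zpowers _ u)) hy
    set C := Subgroup.centralizer (Subgroup.zpowers u : Set G)
    set F := (Finset.univ : Finset (G × P)).filter (fun r => f r = (⟨u, a⟩ : (_ : G) × BrauerPairIdx G))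
    let ψ : P × C → G × P := fun t => ((t.2 : G) * y⁻¹ * (t.1 : G)⁻¹,
      ⟨(t.1 : G) * x0 * (t.1 : G)⁻¹, P.mul_mem (P.mul_mem t.1.2 hx0P) (P.inv_mem t.1.2)⟩)
    have hψmem : ∀ t : P × C, ψ t ∈ F := by
      rintro ⟨w, k⟩
      refine Finset.mem_filter.2 ⟨Finset.mem_univ _, ?_⟩
      have hk : Commute u (k : G) := mem_centralizer_zpowers_iff.1 k.2
      simp only [hf, ψ]
      have e2 : conjIdx ((k : G) * y⁻¹ * (w : G)⁻¹) (subAt p M P e ((w : G) * x0 * (w : G)⁻¹)) = a := by
        rw [← subAt_conj hM hmax hx0P w.2, ← hay,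
          conjIdx_conjIdx hM _ _ (isPBlock_conjBlock _ _ hb), inv_mul_cancel_right,
          conjIdx_conjIdx hM _ _ hb, inv_mul_cancel_right]
        obtain ⟨V, f'⟩ := a
        obtain rfl : V = Subgroup.zpowers u := hz
        exact conjIdx_eq_self_of_mem_pairStab hM hb (centralizer_le_pairStab hM _ _ k.2)
      have e1 : (k : G) * y⁻¹ * (w : G)⁻¹ * ((w : G) * x0 * (w : G)⁻¹) *
          ((k : G) * y⁻¹ * (w : G)⁻¹)⁻¹ = u := by
        calc _ = (k : G) * u * (k : G)⁻¹ := by rw [hx0]; group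
          _ = u := by rw [← hk.eq, mul_inv_cancel_right]
      exact Sigma.ext e1 (heq_of_eq e2)
    -- the fibres of `ψ`
    have hψfib : ∀ r ∈ F,
        ((Finset.univ : Finset (P × C)).filter fun t => ψ t = r).card = cP P x0 := by
      rintro ⟨g, x⟩ hr
      have hrq := (Finset.mem_filter.1 hr).2
      simp only [hf] at hrq
      have e1 : g * (x : G) * g⁻¹ = u := congrArg Sigma.fst hrq
      have e2 : conjIdx g (subAt p M P e (x : G)) = a := by
        rw [hrq.symm.trans rfl |> Sigma.mk.inj_iff.1 |>.2 |> eq_of_heq]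
      obtain ⟨w0, hw0, hwe⟩ := exists_inner hM hmax hnil x.2 (g := y * g) (by
        rw [← conjIdx_conjIdx hM _ _ (mem_pairsAt.1 (subAt_spec hM hmax x.2).1).2, e2]
        exact hy)
      have hx : (x : G) = w0⁻¹ * x0 * w0 := by
        rw [hx0, ← e1, show y * (g * (x : G) * g⁻¹) * y⁻¹ = (y * g) * (x : G) * (y * g)⁻¹ by group,
          hwe]
        group
      rw [cP, Nat.card_eq_fintype_card, ← Finset.card_univ]
      symm
      refine Finset.card_bij (fun z _ => ((⟨w0⁻¹ * (z : G), P.mul_mem (P.inv_mem hw0) z.2.1⟩ : P),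
        (⟨g * (w0⁻¹ * (z : G)) * y, ?_⟩ : C))) (fun z _ => ?_) (fun z _ z' _ h => ?_) (fun t ht => ?_)
      · have hzc : Commute x0 (z : G) := mem_centralizer_zpowers_iff.1 z.2.2
        refine mem_centralizer_zpowers_iff.2 ?_
        show u * _ = _ * u
        rw [hx] at e1
        calc u * (g * (w0⁻¹ * (z : G)) * y) = g * w0⁻¹ * (x0 * (z : G)) * y := by
              conv_lhs => rw [← e1]
              group
          _ = g * w0⁻¹ * ((z : G) * x0) * y := by rw [hzc.eq]
          _ = g * (w0⁻¹ * (z : G)) * y * (y⁻¹ * x0 * y) := by group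
          _ = g * (w0⁻¹ * (z : G)) * y * u := by
              congr 1
              show y⁻¹ * (y * u * y⁻¹) * y = u
              group
      · refine Finset.mem_filter.2 ⟨Finset.mem_univ _, Prod.ext ?_ (Subtype.ext ?_)⟩
        · show g * (w0⁻¹ * (z : G)) * y * y⁻¹ * (w0⁻¹ * (z : G))⁻¹ = g
          group
        · have hzc : Commute x0 (z : G) := mem_centralizer_zpowers_iff.1 z.2.2
          show w0⁻¹ * (z : G) * x0 * (w0⁻¹ * (z : G))⁻¹ = (x : G)
          rw [mul_assoc _ _ x0, ← hzc.eq, hx]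
          group
      · exact Subtype.ext (mul_left_cancel (congrArg (fun t : P × C => (t.1 : G)) h))
      · obtain ⟨w, k⟩ := t
        have hkt := (Finset.mem_filter.1 ht).2
        have hg : (k : G) * y⁻¹ * (w : G)⁻¹ = g := congrArg Prod.fst hkt
        have hxw : (w : G) * x0 * (w : G)⁻¹ = (x : G) :=
          congrArg (fun r : G × P => (r.2 : G)) hkt
        refine ⟨⟨w0 * (w : G), P.mul_mem hw0 w.2, mem_centralizer_zpowers_iff.2 ?_⟩,
          Finset.mem_univ _, ?_⟩
        · show x0 * (w0 * (w : G)) = w0 * (w : G) * x0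
          rw [hx] at hxw
          calc x0 * (w0 * (w : G)) = w0 * (w0⁻¹ * x0 * w0) * (w : G) := by group
            _ = w0 * ((w : G) * x0 * (w : G)⁻¹) * (w : G) := by rw [hxw]
            _ = w0 * (w : G) * x0 := by group
        · refine Prod.ext (Subtype.ext (by simp)) (Subtype.ext ?_)
          show g * (w0⁻¹ * (w0 * (w : G))) * y = (k : G)
          rw [← hg]
          group
    have hcard : Nat.card P * Nat.card C = F.card * cP P x0 := by
      rw [← Nat.card_prod, Nat.card_eq_fintype_card, ← Finset.card_univ,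
        Finset.card_eq_sum_card_fiberwise fun t _ => hψmem t, Finset.sum_congr rfl hψfib,
        Finset.sum_const, smul_eq_mul]
    have hCc : Nat.card (Subgroup.centralizer (Subgroup.zpowers x0 : Set G)) = Nat.card C :=
      card_centralizer_conj y u
    have hconst : ∀ r ∈ F, c r.2 = (cP P x0 : ℂ) / (Nat.card C : ℂ) := by
      intro r hr
      obtain ⟨t, ht⟩ := Finset.card_pos.1 (by rw [hψfib r hr]; exact Nat.card_pos)
      obtain rfl := (Finset.mem_filter.1 ht).2
      simp only [hc, ψ, cP_conj t.1.2, card_centralizer_conj, hCc]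
    rw [Finset.sum_congr rfl hconst, Finset.sum_const, nsmul_eq_mul]
    have hC0 : (Nat.card C : ℂ) ≠ 0 := card_ne_zero_C
    field_simp
    exact_mod_cast hcard.symm.trans (mul_comm _ _)
  calc (Nat.card P : ℂ) * ∑ q ∈ secIdx p M B, W q.1 q.2
      = ∑ q ∈ secIdx p M B, ∑ r ∈ (Finset.univ : Finset (G × P)).filter (fun r => f r = q),
          c r.2 * W q.1 q.2 := by
        rw [Finset.mul_sum]
        exact Finset.sum_congr rfl fun q hq => by rw [← Finset.sum_mul, hfib q hq]
    _ = ∑ r : G × P, c r.2 * W (f r).1 (f r).2 := by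
        rw [← Finset.sum_fiberwise_of_maps_to (s := (Finset.univ : Finset (G × P))) (g := f)
          (t := secIdx p M B) (f := fun r => c r.2 * W (f r).1 (f r).2) fun r _ => hmem r]
        exact Finset.sum_congr rfl fun q _ => Finset.sum_congr rfl fun r hr => by
          rw [(Finset.mem_filter.1 hr).2]
    _ = ∑ g : G, ∑ x : P, c x * W (x : G) (subAt p M P e (x : G)) := by
        rw [Fintype.sum_prod_type]
        refine Finset.sum_congr rfl fun g _ => Finset.sum_congr rfl fun x _ => ?_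
        rw [← hW g (x : G) _ (subAt_spec hM hmax x.2).1]
    _ = _ := by
        rw [Finset.sum_const, Finset.card_univ, ← Nat.card_eq_fintype_card, nsmul_eq_mul]

include hM in
/-- A representative in the `P`-class with `C_P(u)` a defect group of its block. -/
theorem exists_defect_rep (hmax : IsMaximalBrauerPair p M B P e) (hnil : IsNilpotentBlock p M B)
    {u : G} (hu : u ∈ P) : ∃ w ∈ P,
      p ^ blockDefect p (subAt p M P e (w * u * w⁻¹)).2 = cP P (w * u * w⁻¹) := by
  obtain ⟨h1, h2⟩ := subAt_spec hM hmax hu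
  obtain ⟨-, hb⟩ := mem_pairsAt.1 h1
  obtain ⟨x, hx, hdef⟩ := local_defect hM hmax h2 hb (centralizer_le_normalizer hM _) hb rfl
  obtain ⟨w, hw, he⟩ := exists_inner hM hmax hnil hu hx
  refine ⟨w, hw, ?_⟩
  have hu' : w * u * w⁻¹ ∈ P := P.mul_mem (P.mul_mem hw hu) (P.inv_mem hw)
  have hidx : conjIdx x (subAt p M P e u) = subAt p M P e (w * u * w⁻¹) := by
    refine subAt_unique hM hmax hu' ?_ hx
    rw [← he]
    exact MonoidHom.map_zpowers (MulAut.conj x).toMonoidHom u
  have key : ∀ A : BrauerPairIdx G, A = conjIdx x (subAt p M P e u) →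
      p ^ blockDefect p A.2 = Nat.card (P ⊓ Subgroup.centralizer (A.1 : Set G) : Subgroup G) := by
    rintro A rfl
    have hb' := isPBlock_conjBlock (subAt p M P e u).1 x hb
    have hD := hdef _ _ (conjSub_centralizer_map _ x).symm hb' rfl
    show p ^ blockDefect p (conjBlock (subAt p M P e u).1 x (subAt p M P e u).2) = _
    rw [← card_defectGroup hM hb' hD, Nat.card_congr
      (Subgroup.subgroupOfEquivOfLe inf_le_right).toEquiv]
    rfl
  exact key _ hidx.symm

include hM in
/-- Non-zero pieces for a height zero character. -/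
theorem pieceW_subAt_pos (hmax : IsMaximalBrauerPair p M B P e) {χ : IrrCharacter G} (hχ : χ ∈ B)
    (h0 : blockHeight p B (χ : G → ℂ) = 0) {u : G} (hu : u ∈ P) :
    0 < pieceW p (subAt p M P e u) (χ : G → ℂ) u := by
  obtain ⟨h1, h2⟩ := subAt_spec hM hmax hu
  exact pieceW_pos (exists_piece_ne_zero_of_height_zero hM (exists_order_pow hmax.1.1.1 ⟨u, hu⟩) h1
    ((isBrauerPairOf_iff_of_le hM hmax.1.2.1 h2).1 hmax.1) hχ h0)

/-- The normalised weight of a piece. -/
noncomputable def nw (p : ℕ) (M : Ideal AlgInt) (P : Subgroup G)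
    (e : Set (IrrCharacter (Subgroup.centralizer (P : Set G)))) (χ : G → ℂ) (u : G) : ℝ :=
  (cP P u : ℝ) * pieceW p (subAt p M P e u) χ u

include hM in
theorem nw_conj (hmax : IsMaximalBrauerPair p M B P e) {χ : G → ℂ} (hχ : IsClassFunction G χ)
    {u w : G} (hu : u ∈ P) (hw : w ∈ P) :
    nw p M P e χ (w * u * w⁻¹) = nw p M P e χ u := by
  rw [nw, nw, cP_conj hw, ← subAt_conj hM hmax hu hw, pieceW_conj _ hχ]

include hM in
/-- The scalar products of the constructions as sums over `P`. -/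
theorem classInner_gstar_P [Fintype G] [Fintype P] (hmax : IsMaximalBrauerPair p M B P e)
    (hnil : IsNilpotentBlock p M B) {φ φ' : G → ℂ} (hφ : IsStable p M P e φ)
    (hφ' : IsStable p M P e φ') {χ : G → ℂ} (hχ : IsClassFunction G χ) :
    classInner (gstar p M P e φ χ) (gstar p M P e φ' χ) = (Nat.card P : ℂ)⁻¹ *
      ∑ x : P, φ (x : G) * conj (φ' (x : G)) * (nw p M P e χ (x : G) : ℂ) := by
  have h := sum_secIdx hM hmax hnil
    (fun u a => gwgt p M P e φ u a * conj (gwgt p M P e φ' u a) * pieceNorm p a χ u) fun g u a ha => by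
      simp only [gwgt_conj hM hφ g u a ha, gwgt_conj hM hφ' g u a ha, pieceNorm_eq,
        pieceW_conj a hχ, card_centralizer_conj]
  rw [classInner_gstar hM hmax hχ]
  have hP : (Nat.card P : ℂ) ≠ 0 := card_ne_zero_C
  have hG : (Nat.card G : ℂ) ≠ 0 := card_ne_zero_C
  apply mul_left_cancel₀ hP
  rw [mul_left_comm, h, inv_mul_cancel_left₀ hG, mul_inv_cancel_left₀ hP]
  refine Finset.sum_congr rfl fun x _ => ?_
  obtain ⟨h1, h2⟩ := subAt_spec hM hmax x.2
  obtain ⟨hz, hb⟩ := mem_pairsAt.1 h1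
  have hx1 : SubpairLE p M (conjIdx 1 (subAt p M P e (x : G))).1
      (conjIdx 1 (subAt p M P e (x : G))).2 P e := by
    rw [conjIdx_one hM hb]; exact h2
  rw [gwgt_eq hM hφ hz hb hx1, gwgt_eq hM hφ' hz hb hx1, pieceNorm_eq, nw]
  have hC : (Nat.card (Subgroup.centralizer (Subgroup.zpowers (x : G) : Set G)) : ℂ) ≠ 0 := card_ne_zero_C
  simp only [Complex.ofReal_mul, Complex.ofReal_natCast, one_mul, mul_one, inv_one]
  generalize (Nat.card (Subgroup.centralizer (Subgroup.zpowers (x : G) : Set G)) : ℂ) = c at hC ⊢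
  field_simp

theorem zpowers_pow_eq {u : G} {k : ℕ} (h : k.Coprime (orderOf u)) :
    Subgroup.zpowers (u ^ k) = Subgroup.zpowers u := by
  refine le_antisymm (Subgroup.zpowers_le.2 (Subgroup.pow_mem _ (Subgroup.mem_zpowers u) k))
    (Subgroup.zpowers_le.2 ?_)
  obtain ⟨m, hm⟩ := exists_pow_eq_self_of_coprime h
  exact (congrArg (· ∈ Subgroup.zpowers (u ^ k)) hm).mp (Subgroup.pow_mem _ (Subgroup.mem_zpowers _) m)

include hM in
open scoped Classical in
/-- All normalised weights of a height zero character are one. -/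
theorem nilpotent_weight_eq_one [Fintype G] [Fintype P] (hmax : IsMaximalBrauerPair p M B P e)
    (hnil : IsNilpotentBlock p M B) {χ : IrrCharacter G} (hχ : χ ∈ B)
    (h0 : blockHeight p B (χ : G → ℂ) = 0) (x : P) : nw p M P e (χ : G → ℂ) (x : G) = 1 := by
  have hp : p.Prime := Fact.out
  have hsum : ∑ x : P, nw p M P e (χ : G → ℂ) (x : G) = Nat.card P := by
    have h := classInner_gstar_P hM hmax hnil (isStable_one (p := p) (M := M) (P := P) (e := e))
      (isStable_one (p := p) (M := M) (P := P) (e := e)) (irr_class χ)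
    have hone : gstar p M P e (fun _ => (1 : ℂ)) (χ : G → ℂ) = (χ : G → ℂ) := by
      funext g
      obtain ⟨u, s, rfl, hu, hs, hc, -⟩ := exists_parts (p := p) g
      rw [gstar_apply hM hmax _ hu hs hc, ← sum_piece_pairs hM hu hs hc hmax.1.2.1 hχ]
      refine Finset.sum_congr rfl fun a ha => ?_
      obtain ⟨z, hz⟩ := exists_conj_le_maximal hM hmax (Finset.mem_filter.1 ha).2
      rw [gwgt, dif_pos ⟨z, hz⟩, one_mul]
    simp only [hone, Char.classInner_irr_self χ.2, map_one, mul_one, one_mul] at h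
    have hP : (Nat.card P : ℂ) ≠ 0 := card_ne_zero_C
    rw [eq_inv_mul_iff_mul_eq₀ hP, mul_one] at h
    exact_mod_cast h.symm
  set N := Nat.card P * p with hN
  have hN0 : N ≠ 0 := Nat.mul_ne_zero Nat.card_pos.ne' hp.ne_zero
  have : NeZero N := ⟨hN0⟩
  set ζ := GaloisAvg.zeta N
  have hζ : IsPrimitiveRoot ζ N := GaloisAvg.zeta_isPrimitiveRoot hN0
  have hroot : ∀ z ∈ primitiveRoots N ℂ, ∃ k : ℕ, k.Coprime N ∧ ζ ^ k = z := fun z hz => by
    obtain ⟨k, -, hk, hk'⟩ := (hζ.isPrimitiveRoot_iff).1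
      ((mem_primitiveRoots (Nat.pos_of_ne_zero hN0)).1 hz)
    exact ⟨k, hk, hk'⟩
  have hkP : ∀ {k : ℕ}, k.Coprime N → ∀ y : P, k.Coprime (orderOf (y : G)) := fun hk y =>
    Nat.Coprime.coprime_dvd_right (dvd_mul_of_dvd_left (by
      rw [Subgroup.orderOf_coe]; exact orderOf_dvd_natCard y) p) hk
  choose! κ hκ1 hκ2 using hroot
  have hperm : ∀ z ∈ primitiveRoots N ℂ,
      ∑ y : P, nw p M P e (χ : G → ℂ) ((y : G) ^ κ z) = Nat.card P := by
    intro z hz
    rw [← hsum]
    exact Fintype.sum_bijective (fun y : P => y ^ κ z)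
      (powCoprime (G := P)
        (Nat.Coprime.coprime_dvd_right (dvd_mul_right _ p) (hκ1 z hz)).symm).bijective _ _
      fun y => rfl
  have hpoly : ∀ y : P, ∃ Q : Polynomial ℤ, ∀ k : ℕ, k.Coprime N →
      Polynomial.aeval (ζ ^ k) Q = (nw p M P e (χ : G → ℂ) ((y : G) ^ k) : ℂ) := by
    intro y
    obtain ⟨w, hw, hd⟩ := exists_defect_rep hM hmax hnil y.2
    set v := w * (y : G) * w⁻¹ with hv
    have hvP : v ∈ P := P.mul_mem (P.mul_mem hw y.2) (P.inv_mem hw)
    obtain ⟨h1, h2⟩ := subAt_spec hM hmax hvP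
    let b : Set (IrrCharacter (Subgroup.centralizer (Subgroup.zpowers v : Set G))) :=
      (subAt p M P e v).2
    have := Fintype.ofFinite (Subgroup.centralizer (Subgroup.zpowers v : Set G))
    have := Fintype.ofFinite b
    have hb : IsPBlock M b := (mem_pairsAt.1 h1).2
    have hvN : v ^ N = 1 := by
      rw [hN, pow_mul]
      have h : (⟨v, hvP⟩ : P) ^ Nat.card P = 1 := pow_card_eq_one'
      rw [show v ^ Nat.card P = 1 from congrArg Subtype.val h, one_pow]
    obtain ⟨Q, hQ⟩ := MajorSub.exists_poly_pow hM (x := v)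
      (H := Subgroup.centralizer (Subgroup.zpowers v : Set G)) (fun g => mem_centralizer_zpowers_iff)
      (b := b) hb hN0 hvN χ
    refine ⟨Q, fun k hk => ?_⟩
    have hz : Subgroup.zpowers (v ^ k) = Subgroup.zpowers v := zpowers_pow_eq (hkP hk ⟨v, hvP⟩)
    have hH : ∀ g, g ∈ Subgroup.centralizer (Subgroup.zpowers v : Set G) ↔ Commute (v ^ k) g :=
      fun g => by rw [← hz]; exact mem_centralizer_zpowers_iff
    have hs : subAt p M P e v = subAt p M P e (v ^ k) :=
      subAt_unique hM hmax (P.pow_mem hvP k) (hz.symm) h2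
    rw [← hQ k hH, contribution_eq_pieceW hM hH hb χ,
      ← nw_conj hM hmax (irr_class χ) (P.pow_mem y.2 k) hw, ← conj_pow, ← hv, nw, ← hs]
    have hcP : cP P (v ^ k) = cP P v := by rw [cP, cP, hz]
    rw [hcP, ← hd]
    push_cast
    rfl
  choose Q hQ using hpoly
  set R := primitiveRoots N ℂ
  have hle : ∀ y : P, (R.card : ℝ) ≤ ∑ z ∈ R, nw p M P e (χ : G → ℂ) ((y : G) ^ κ z) ∧
      (∑ z ∈ R, nw p M P e (χ : G → ℂ) ((y : G) ^ κ z) ≤ R.card →
        ∀ z ∈ R, nw p M P e (χ : G → ℂ) ((y : G) ^ κ z) = 1) := fun y =>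
    le_sum_roots (Q y) _ (fun z hz => by rw [← hQ y (κ z) (hκ1 z hz), hκ2 z hz]) fun z hz =>
      mul_pos (Nat.cast_pos.2 Nat.card_pos)
        (pieceW_subAt_pos hM hmax hχ h0 (P.pow_mem y.2 _))
  have htot : ∑ y : P, ∑ z ∈ R, nw p M P e (χ : G → ℂ) ((y : G) ^ κ z) = ∑ _y : P, (R.card : ℝ) := by
    rw [Finset.sum_comm, Finset.sum_congr rfl hperm, Finset.sum_const, Finset.sum_const,
      Finset.card_univ, ← Nat.card_eq_fintype_card, nsmul_eq_mul, nsmul_eq_mul, mul_comm]
  have heq := (Finset.sum_eq_sum_iff_of_le fun y _ => (hle y).1).1 htot.symm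
  obtain ⟨z, hz⟩ : R.Nonempty := ⟨ζ, (mem_primitiveRoots (Nat.pos_of_ne_zero hN0)).2 hζ⟩
  obtain ⟨y, hy⟩ := (powCoprime (G := P)
    (Nat.Coprime.coprime_dvd_right (dvd_mul_right _ p) (hκ1 z hz)).symm).surjective x
  rw [← hy]
  exact (hle y).2 (heq y (Finset.mem_univ _)).ge z hz

/-- A function on `P`, extended by zero. -/
noncomputable def pExt (P : Subgroup G) (θ : P → ℂ) (g : G) : ℂ :=
  open scoped Classical in if h : g ∈ P then θ ⟨g, h⟩ else 0

omit [Finite G] [Fact p.Prime] in
theorem pExt_coe (θ : P → ℂ) (x : P) : pExt P θ (x : G) = θ x := by rw [pExt, dif_pos x.2]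

omit [Finite G] [Fact p.Prime] in
theorem pExt_conj {θ : P → ℂ} (hθ : IsClassFunction P θ) :
    ∀ x ∈ P, ∀ w ∈ P, pExt P θ (w * x * w⁻¹) = pExt P θ x := fun x hx w hw => by
  rw [pExt, pExt, dif_pos hx, dif_pos (P.mul_mem (P.mul_mem hw hx) (P.inv_mem hw))]
  exact hθ ⟨x, hx⟩ ⟨w, hw⟩

include hM in
/-- The characters of a nilpotent block are the constructions on the irreducible characters of its
defect group. -/
theorem exists_irr_equiv (hmax : IsMaximalBrauerPair p M B P e) (hnil : IsNilpotentBlock p M B)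
    {χ : IrrCharacter G} (hχ : χ ∈ B) (h0 : blockHeight p B (χ : G → ℂ) = 0) :
    ∃ Ψ : IrrCharacter P ≃ B, ∀ η : IrrCharacter P,
      (((Ψ η : IrrCharacter G) : G → ℂ)) = gstar p M P e (pExt P (η : P → ℂ)) (χ : G → ℂ) ∧
      charDegree ((Ψ η : IrrCharacter G) : G → ℂ) =
        charDegree (η : P → ℂ) * charDegree (χ : G → ℂ) ∧
      ∀ s : G, ¬ p ∣ orderOf s → ((Ψ η : IrrCharacter G) : G → ℂ) s =
        (charDegree (η : P → ℂ) : ℂ) * (χ : G → ℂ) s := by
  classical
  have := Fintype.ofFinite G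
  have := Fintype.ofFinite P
  have := Fintype.ofFinite (IrrCharacter P)
  have := Fintype.ofFinite B
  have hp : p.Prime := Fact.out
  have hB : IsPBlock M B := hmax.1.2.1
  set F := fun η : IrrCharacter P => gstar p M P e (pExt P (η : P → ℂ)) (χ : G → ℂ) with hFdef
  have hst : ∀ η : IrrCharacter P, IsStable p M P e (pExt P (η : P → ℂ)) := fun η =>
    isStable_of_nilpotent hM hmax hnil (pExt_conj (irr_class η))
  have hinner : ∀ η η', classInner (F η) (F η') = classInner (η : P → ℂ) (η' : P → ℂ) := fun η η' => by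
    show classInner (gstar p M P e (pExt P (η : P → ℂ)) (χ : G → ℂ))
      (gstar p M P e (pExt P (η' : P → ℂ)) (χ : G → ℂ)) = _
    rw [classInner_gstar_P hM hmax hnil (hst η) (hst η') (irr_class χ), classInner]
    congr 1
    refine Finset.sum_congr rfl fun x _ => ?_
    rw [nilpotent_weight_eq_one hM hmax hnil hχ h0 x, pExt_coe, pExt_coe, Complex.ofReal_one, mul_one]
  have hreg : ∀ η, ∀ s : G, ¬ p ∣ orderOf s →
      F η s = (charDegree (η : P → ℂ) : ℂ) * (χ : G → ℂ) s := fun η s hs => by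
    show gstar p M P e (pExt P (η : P → ℂ)) (χ : G → ℂ) s = _
    rw [gstar_apply_regular hM hmax hχ hs, ← OneMemClass.coe_one P, pExt_coe, charDegree_cast]
  have h1reg : ¬ p ∣ orderOf (1 : G) := by rw [orderOf_one]; exact hp.one_lt.ne' ∘ Nat.dvd_one.1
  have hirr : ∀ η, ∃ ψ : B, ((ψ : IrrCharacter G) : G → ℂ) = F η := by
    intro η
    have hgen : IsGeneralizedCharacter G (F η) := by
      refine isGeneralizedCharacter_gstar hM hmax (hst η) ?_ (Char.IsIrrCharacter.isCharacter χ.2)
      simp only [pExt_coe]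
      exact Char.isGeneralizedCharacter_of_isCharacter (Char.IsIrrCharacter.isCharacter η.2)
    obtain ⟨ψ, hψ, hpm⟩ := Char.IsGeneralizedCharacter.exists_irr_of_norm_one hgen
      ((hinner η η).trans (Char.classInner_irr_self η.2))
    have hψ1 : (charDegree ψ : ℂ) = ψ 1 := charDegree_cast (⟨ψ, hψ⟩ : IrrCharacter G)
    have hF1 : F η 1 = ((charDegree (η : P → ℂ) * charDegree (χ : G → ℂ) : ℕ) : ℂ) := by
      rw [hreg η 1 h1reg, Nat.cast_mul, charDegree_cast χ]
    have heq : F η = ψ := by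
      refine hpm.resolve_right fun h => ?_
      have h1 : F η 1 = -(ψ 1) := by rw [h]; rfl
      rw [hF1, ← hψ1] at h1
      have h2 : ((charDegree (η : P → ℂ) * charDegree (χ : G → ℂ) + charDegree ψ : ℕ) : ℂ) = 0 := by
        rw [Nat.cast_add, h1]
        ring
      rw [Nat.cast_eq_zero] at h2
      have := Nat.mul_pos (charDegree_pos η) (charDegree_pos χ)
      omega
    refine ⟨⟨⟨ψ, hψ⟩, ?_⟩, heq.symm⟩
    by_contra hn
    have h0' := regInner_eq_zero hM hB hχ (ζ := ⟨ψ, hψ⟩) hn
    rw [regInner_eq_sum] at h0'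
    replace h0' := (mul_eq_zero.1 h0').resolve_left (inv_ne_zero card_ne_zero_C)
    have h1 : (charDegree (η : P → ℂ) : ℂ) *
        ∑ g ∈ Finset.univ.filter (fun g : G => ¬ p ∣ orderOf g),
          (χ : G → ℂ) g * conj ((χ : G → ℂ) g) = 0 := by
      rw [← h0', Finset.mul_sum]
      refine Finset.sum_congr rfl fun g hg => ?_
      show _ = _ * conj (ψ g)
      rw [← heq, hreg η g (Finset.mem_filter.1 hg).2, map_mul, Complex.conj_natCast]
      ring
    replace h1 := (mul_eq_zero.1 h1).resolve_left (Nat.cast_ne_zero.2 (charDegree_pos η).ne')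
    have h2 : ∑ g ∈ Finset.univ.filter (fun g : G => ¬ p ∣ orderOf g),
        Complex.normSq ((χ : G → ℂ) g) = 0 := by
      apply Complex.ofReal_injective
      push_cast
      rw [← h1]
      exact Finset.sum_congr rfl fun s _ => (Complex.mul_conj _).symm
    have h3 := (Finset.sum_eq_zero_iff_of_nonneg fun s _ => Complex.normSq_nonneg _).1 h2 1
      (Finset.mem_filter.2 ⟨Finset.mem_univ _, h1reg⟩)
    exact irr_one_ne_zero χ (Complex.normSq_eq_zero.1 h3)
  choose Ψ hΨ using hirr
  have hbij : Function.Bijective Ψ := by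
    refine ⟨fun η η' h => ?_, fun ψ => ?_⟩
    · by_contra hne
      have h2 := hinner η η'
      rw [← hΨ η, ← hΨ η', h, Char.classInner_irr_self (Ψ η' : IrrCharacter G).2,
        Char.classInner_irr_of_ne η.2 η'.2 fun h => hne (Subtype.ext h)] at h2
      exact one_ne_zero h2
    · by_contra hno
      push Not at hno
      have hne : classInner (pRegularPart p (χ : G → ℂ)) ((ψ : IrrCharacter G) : G → ℂ) ≠ 0 := by
        obtain ⟨c, hc, -, -, hdiv⟩ := RegPart.exists_contribution hM hB
        intro hz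
        have hcz : c ⟨χ, hχ⟩ ψ = 0 := by
          have h := hc ⟨χ, hχ⟩ ψ
          rw [hz, mul_zero] at h
          exact_mod_cast h.symm
        have h := (hdiv ⟨χ, hχ⟩ ψ).2.1 (hcz ▸ dvd_zero _)
        simp [h0] at h
      apply hne
      -- the regular part is a combination of the constructions
      have hcomb : ∀ g, ∑ η : IrrCharacter P, (charDegree (η : P → ℂ) : ℂ) * F η g =
          (Nat.card P : ℂ) * pRegularPart p (χ : G → ℂ) g := by
        intro g
        obtain ⟨u, s, rfl, hu, hs, hc, -⟩ := exists_parts (p := p) g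
        simp only [hFdef, gstar_apply hM hmax _ hu hs hc, Finset.mul_sum]
        rw [Finset.sum_comm]
        by_cases hu1 : u = 1
        · subst hu1
          rw [one_mul, pRegularPart_of_regular hs]
          have key := sum_piece_pairs hM hu hs hc hB hχ
          rw [one_mul] at key
          rw [← key, Finset.mul_sum]
          refine Finset.sum_congr rfl fun a ha => ?_
          obtain ⟨z, hz⟩ := exists_conj_le_maximal hM hmax (Finset.mem_filter.1 ha).2
          have e1 : ∀ η : IrrCharacter P, gwgt p M P e (pExt P (η : P → ℂ)) 1 a = (η : P → ℂ) 1 := by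
            intro η
            rw [gwgt, dif_pos ⟨z, hz⟩, mul_one, mul_inv_cancel, ← OneMemClass.coe_one P, pExt_coe]
          simp only [e1, ← mul_assoc, charDegree_cast, ← Finset.sum_mul]
          congr 1
          rw [Char.sum_degree_mul_apply (G := P) (1 : P), if_pos rfl]
        · have hdvd : p ∣ orderOf (u * s) := by
            obtain ⟨k, hk⟩ := hu
            have hk0 : k ≠ 0 := fun h => hu1 (orderOf_eq_one_iff.1 (by rw [hk, h, pow_zero]))
            have hco : (orderOf u).Coprime (orderOf s) := by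
              rw [hk]; exact (hp.coprime_iff_not_dvd.2 hs).pow_left _
            rw [hc.orderOf_mul_eq_mul_orderOf_of_coprime hco, hk]
            exact dvd_mul_of_dvd_left (dvd_pow_self p hk0) _
          rw [pRegularPart_of_singular hdvd, mul_zero]
          refine Finset.sum_eq_zero fun a ha => ?_
          obtain ⟨z, hz⟩ := exists_conj_le_maximal hM hmax (Finset.mem_filter.1 ha).2
          have hex : ∃ x : G, SubpairLE p M (conjIdx x a).1 (conjIdx x a).2 P e := ⟨z, hz⟩
          have hmP := conjIdx_mem_P (p := p) (mem_pairsAt.1 (Finset.mem_filter.1 ha).1).1 hex.choose_spec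
          have e1 : ∀ η : IrrCharacter P, gwgt p M P e (pExt P (η : P → ℂ)) u a =
              (η : P → ℂ) ⟨_, hmP⟩ := fun η => by
            rw [gwgt, dif_pos hex, pExt, dif_pos hmP]
          simp only [e1, ← mul_assoc, charDegree_cast, ← Finset.sum_mul]
          refine mul_eq_zero_of_left ?_ _
          rw [Char.sum_degree_mul_apply (G := P), if_neg]
          refine fun h => hu1 ?_
          have h' := congrArg (fun x : P => (x : G)) h
          simpa using h'
      have hP : (Nat.card P : ℂ) ≠ 0 := card_ne_zero_C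
      have hzero : classInner (fun g => (Nat.card P : ℂ) * pRegularPart p (χ : G → ℂ) g)
          ((ψ : IrrCharacter G) : G → ℂ) = 0 := by
        rw [show (fun g => (Nat.card P : ℂ) * pRegularPart p (χ : G → ℂ) g) =
          ∑ η : IrrCharacter P, (charDegree (η : P → ℂ) : ℂ) • F η from
          funext fun g => by rw [← hcomb g, Finset.sum_apply]; rfl, Char.classInner_sum_left]
        refine Finset.sum_eq_zero fun η _ => ?_
        rw [Char.classInner_smul_left, ← hΨ η, Char.classInner_irr_of_ne (Ψ η : IrrCharacter G).2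
          (ψ : IrrCharacter G).2 fun h => hno η (Subtype.ext (Subtype.ext h)), mul_zero]
      rw [show (fun g => (Nat.card P : ℂ) * pRegularPart p (χ : G → ℂ) g) =
        (Nat.card P : ℂ) • pRegularPart p (χ : G → ℂ) from rfl, Char.classInner_smul_left] at hzero
      exact (mul_eq_zero.1 hzero).resolve_left hP
  refine ⟨Equiv.ofBijective Ψ hbij, fun η => ⟨hΨ η, ?_, fun s hs => ?_⟩⟩
  · have h : (charDegree ((Ψ η : IrrCharacter G) : G → ℂ) : ℂ) =
        ((charDegree (η : P → ℂ) * charDegree (χ : G → ℂ) : ℕ) : ℂ) := by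
      rw [charDegree_cast, hΨ η, hreg η 1 h1reg, Nat.cast_mul, charDegree_cast χ]
    exact_mod_cast h
  · show ((Ψ η : IrrCharacter G) : G → ℂ) s = _
    rw [hΨ η, hreg η s hs]

include hM in
/-- A defect group carries a maximal pair. -/
theorem exists_maximal_of_defectGroup (hB : IsPBlock M B) (hP : IsDefectGroup p M B P) :
    ∃ e : Set (IrrCharacter (Subgroup.centralizer (P : Set G))), IsMaximalBrauerPair p M B P e := by
  obtain ⟨e, he⟩ := exists_pair_of_defectGroup hM hB hP
  obtain ⟨Q, g, hmax, hle⟩ := exists_maximal_ge hM he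
  obtain ⟨x, hx⟩ := isDefectGroup_conj_eq hM hB hP (maximal_isDefectGroup hM hmax)
  obtain rfl : P = Q := Subgroup.eq_of_le_of_card_ge
    (subgroup_le_of_subpairLE (a := (⟨P, e⟩ : BrauerPairIdx G)) (b := ⟨Q, g⟩) hle)
    (by rw [← hx, card_conjSub])
  exact ⟨g, hmax⟩

include hM in
/-- A character of height zero governs the regular parts of a nilpotent block. -/
theorem nilpotent_summary (hnil : IsNilpotentBlock p M B) (hP : IsDefectGroup p M B P) :
    ∃ χ ∈ B, blockHeight p B (χ : G → ℂ) = 0 ∧ ∃ Ψ : IrrCharacter P ≃ B, ∀ η : IrrCharacter P,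
      blockHeight p B ((Ψ η : IrrCharacter G) : G → ℂ) =
        (charDegree (η : P → ℂ)).factorization p ∧
      ∀ s : G, pRegularPart p ((Ψ η : IrrCharacter G) : G → ℂ) s =
        (charDegree (η : P → ℂ) : ℂ) * pRegularPart p (χ : G → ℂ) s := by
  obtain ⟨e, hmax⟩ := exists_maximal_of_defectGroup hM hnil.1 hP
  obtain ⟨χ, hχ, h0⟩ := Blocks.exists_blockHeight_eq_zero p (isPBlock_nonempty hM hnil.1)
  obtain ⟨Ψ, hΨ⟩ := exists_irr_equiv hM hmax hnil hχ h0
  refine ⟨χ, hχ, h0, Ψ, fun η => ⟨?_, fun s => ?_⟩⟩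
  · have hle : sInf ((fun χ : IrrCharacter G => (charDegree (χ : G → ℂ)).factorization p) '' B) ≤
        (charDegree (χ : G → ℂ)).factorization p := Nat.sInf_le ⟨χ, hχ, rfl⟩
    rw [blockHeight] at h0 ⊢
    rw [(hΨ η).2.1, Nat.factorization_mul (charDegree_pos η).ne' (charDegree_pos χ).ne',
      Finsupp.add_apply]
    omega
  · by_cases hs : p ∣ orderOf s
    · rw [pRegularPart_of_singular hs, pRegularPart_of_singular hs, mul_zero]
    · rw [pRegularPart_of_regular hs, pRegularPart_of_regular hs, (hΨ η).2.2 s hs]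

end Cfsg.Agent.Star
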