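import Cfsg.Agent.Lib.Star.Local
import Cfsg.Agent.Lib.Char.Monomial
import Cfsg.Agent.Lib.Char.Virtual
import Cfsg.Agent.Lib.Char.Linear

/-!
# Integrality of twisted sums over Brauer pairs

For a weight `w` on pairs of cyclic subgroups which is conjugation invariant and linear below
every Brauer pair, `twist_int`: the scalar product with a linear character of a `p`-group `T` of
`u ↦ ∑ a, w u a * psi u a ε` is an integer, `ε` an idempotent fixed by `T`.
-/

set_option autoImplicit false
set_option synthInstance.maxHeartbeats 200000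
set_option maxHeartbeats 1000000

open scoped ComplexConjugate

namespace Cfsg.Agent.Star

open Cfsg Cfsg.Agent.Blocks Cfsg.Agent.BrauerPairs

variable {G : Type*} [Group G] [Finite G] {p : ℕ} [Fact p.Prime] {M : Ideal AlgInt}
  (hM : IsPModular p M)

open scoped Classical in
/-- The pairs at the cyclic subgroup of `u`. -/
noncomputable def pairsAt (M : Ideal AlgInt) (u : G) : Finset (BrauerPairIdx G) :=
  (Set.toFinite {a : BrauerPairIdx G | a.1 = Subgroup.zpowers u ∧ IsPBlock M a.2}).toFinset

theorem mem_pairsAt {u : G} {a : BrauerPairIdx G} :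
    a ∈ pairsAt M u ↔ a.1 = Subgroup.zpowers u ∧ IsPBlock M a.2 := by
  simp [pairsAt]

/-- The twisted sum. -/
noncomputable def phi (χ : G → ℂ) (w : G → BrauerPairIdx G → ℂ) (u : G) (ε : Loc hM G) : ℂ :=
  ∑ a ∈ pairsAt M u, w u a * psi hM χ u (cb M a.1 a.2) ε

open scoped Classical in
/-- The scalar product with a linear character of `T`. -/
noncomputable def twist (χ : G → ℂ) (w : G → BrauerPairIdx G → ℂ) (T : Subgroup G)
    (α : T →* ℂˣ) (ε : Loc hM G) : ℂ :=
  letI := Fintype.ofFinite T
  (Nat.card T : ℂ)⁻¹ * ∑ u : T, (α u : ℂ) * phi hM χ w (u : G) ε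

theorem twist_def (χ : G → ℂ) (w : G → BrauerPairIdx G → ℂ) (T : Subgroup G) [Fintype T]
    (α : T →* ℂˣ) (ε : Loc hM G) : twist hM χ w T α ε =
      (Nat.card T : ℂ)⁻¹ * ∑ u : T, (α u : ℂ) * phi hM χ w (u : G) ε := by
  unfold twist
  congr!

theorem centralIn_of_pair {u : G} {a : BrauerPairIdx G} (ha : a.1 = Subgroup.zpowers u) :
    IsCentralIn (Subgroup.centralizer (Subgroup.zpowers u : Set G)) (cb M a.1 a.2) := by
  rw [← ha]; exact bIdem_central _ a.2

theorem exists_order_pow {T : Subgroup G} (hT : IsPGroup p T) (u : T) :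
    ∃ k, orderOf (u : G) = p ^ k := by
  obtain ⟨k, hk⟩ := IsPGroup.iff_orderOf.1 hT u
  exact ⟨k, by rw [Subgroup.orderOf_coe, hk]⟩

theorem phi_sum {χ : G → ℂ} (hχ : IsClassFunction G χ) (w : G → BrauerPairIdx G → ℂ) {u : G}
    (hu : ∃ k, orderOf u = p ^ k) (s : Finset (Loc hM G))
    (hs : ∀ j ∈ s, Fixed (Subgroup.zpowers u) j ∧ j * j = j)
    (ho : ∀ j ∈ s, ∀ k ∈ s, j ≠ k → j * k = 0) :
    phi hM χ w u (∑ j ∈ s, j) = ∑ j ∈ s, phi hM χ w u j := by
  simp only [phi]
  rw [Finset.sum_comm]
  refine Finset.sum_congr rfl fun a ha => ?_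
  obtain ⟨h1, h2⟩ := mem_pairsAt.1 ha
  rw [psi_sum hM hχ hu (centralIn_of_pair h1) (bIdem_mul_self hM h2) s hs ho, Finset.mul_sum]

theorem twist_sum {χ : G → ℂ} (hχ : IsClassFunction G χ) (w : G → BrauerPairIdx G → ℂ)
    {T : Subgroup G} (hT : IsPGroup p T) (α : T →* ℂˣ) (s : Finset (Loc hM G))
    (hs : ∀ j ∈ s, Fixed T j ∧ j * j = j) (ho : ∀ j ∈ s, ∀ k ∈ s, j ≠ k → j * k = 0) :
    twist hM χ w T α (∑ j ∈ s, j) = ∑ j ∈ s, twist hM χ w T α j := by
  have := Fintype.ofFinite T
  simp only [twist_def]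
  rw [← Finset.mul_sum, Finset.sum_comm]
  congr 1
  refine Finset.sum_congr rfl fun u _ => ?_
  rw [phi_sum hM hχ w (exists_order_pow hT u) s
    (fun j hj => ⟨(hs j hj).1.mono (Subgroup.zpowers_le.2 u.2), (hs j hj).2⟩) ho, Finset.mul_sum]

theorem twist_assoc {χ : G → ℂ} (hχ : IsClassFunction G χ) (w : G → BrauerPairIdx G → ℂ)
    {T : Subgroup G} (hT : IsPGroup p T) (α : T →* ℂˣ) {j k a b : Loc hM G} (hj : IsPrim T j)
    (hk : IsPrim T k) (ha : Fixed T a) (hb : Fixed T b) (ha1 : j * a = a) (hb2 : b * j = b)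
    (hab : a * b = j) (hba : b * a = k) : twist hM χ w T α j = twist hM χ w T α k := by
  have := Fintype.ofFinite T
  simp only [twist_def]
  congr 1
  refine Finset.sum_congr rfl fun u _ => ?_
  congr 1
  refine Finset.sum_congr rfl fun c hc => ?_
  obtain ⟨h1, h2⟩ := mem_pairsAt.1 hc
  have hle : Subgroup.zpowers (u : G) ≤ T := Subgroup.zpowers_le.2 u.2
  rw [psi_assoc hM hχ (exists_order_pow hT u) (centralIn_of_pair h1) (bIdem_mul_self hM h2)
    (hj.1.mono hle) hj.2.1 (hk.1.mono hle) (ha.mono hle) (hb.mono hle) ha1 hb2 hab hba]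

theorem phi_cj {χ : G → ℂ} (hχ : IsClassFunction G χ) {w : G → BrauerPairIdx G → ℂ}
    (hw : ∀ g u : G, ∀ a ∈ pairsAt M u, w (g * u * g⁻¹) (conjIdx g a) = w u a) {u : G}
    (hu : ∃ k, orderOf u = p ^ k) {ε : Loc hM G} (hε : Fixed (Subgroup.zpowers u) ε)
    (hεε : ε * ε = ε) (g : G) :
    phi hM χ w (g * u * g⁻¹) (cj g ε) = phi hM χ w u ε := by
  have hz : ∀ g v : G, conjSub g (Subgroup.zpowers v) = Subgroup.zpowers (g * v * g⁻¹) :=
    fun g v => MonoidHom.map_zpowers _ v
  symm
  refine Finset.sum_nbij' (conjIdx g) (conjIdx g⁻¹) (fun a ha => ?_) (fun a ha => ?_)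
    (fun a ha => ?_) (fun a ha => ?_) fun a ha => ?_
  · obtain ⟨h1, h2⟩ := mem_pairsAt.1 ha
    exact mem_pairsAt.2 ⟨(congrArg (conjSub g) h1).trans (hz g u), isPBlock_conjBlock _ _ h2⟩
  · obtain ⟨h1, h2⟩ := mem_pairsAt.1 ha
    refine mem_pairsAt.2 ⟨((congrArg (conjSub g⁻¹) h1).trans (hz _ _)).trans ?_, isPBlock_conjBlock _ _ h2⟩
    rw [show g⁻¹ * (g * u * g⁻¹) * g⁻¹⁻¹ = u by group]
  · rw [conjIdx_conjIdx hM _ _ (mem_pairsAt.1 ha).2, inv_mul_cancel, conjIdx_one hM (mem_pairsAt.1 ha).2]
  · rw [conjIdx_conjIdx hM _ _ (mem_pairsAt.1 ha).2, mul_inv_cancel, conjIdx_one hM (mem_pairsAt.1 ha).2]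
  · obtain ⟨h1, h2⟩ := mem_pairsAt.1 ha
    rw [hw g u a ha]
    congr 1
    show _ = psi hM χ (g * u * g⁻¹) (cb M (conjSub g a.1) (conjBlock a.1 g a.2)) (cj g ε)
    rw [← cj_cb hM, psi_cj hM hχ hu (centralIn_of_pair h1) (bIdem_mul_self hM h2) hε hεε]

/-- The idempotent of a linear character of `T` cuts a multiplicity out of `trL`. -/
theorem exists_nat_linear {χ : G → ℂ} (hχ : IsCharacter G χ) (T : Subgroup G) [Fintype T]
    (ν : T →* ℂˣ) {i : Loc hM G} (hi : Fixed T i) (hii : i * i = i) :
    ∃ k : ℕ, (Nat.card T : ℂ)⁻¹ * ∑ u : T, (ν u : ℂ) * trL hM χ (el hM (u : G) * i) = k := by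
  classical
  have hle : ∀ u : T, Subgroup.zpowers (u : G) ≤ T := fun u => Subgroup.zpowers_le.2 u.2
  set S := ∑ u : T, (ν u : ℂ) • inc hM (el hM (u : G)) with hS
  have hcomm : Commute (inc hM i) S := Commute.sum_right _ _ _ fun u _ =>
    (((el_commute hM (hi.mono (hle u))).map (inc hM)).symm).smul_right _
  have hS2 : S * S = (Nat.card T : ℂ) • S := by
    have hterm : ∀ v : T, ((ν v : ℂ) • inc hM (el hM (v : G))) * S = S := by
      intro v
      rw [hS, Finset.mul_sum]
      refine Fintype.sum_equiv (Equiv.mulLeft v) _ _ fun u => ?_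
      rw [smul_mul_assoc, mul_smul_comm, smul_smul, ← map_mul (inc hM)]
      simp [el, MonoidAlgebra.single_mul_single]
    conv_lhs => arg 1; rw [hS]
    rw [Finset.sum_mul, Finset.sum_congr rfl fun v _ => hterm v, Finset.sum_const,
      Finset.card_univ, ← Nat.card_eq_fintype_card, ← Nat.cast_smul_eq_nsmul ℂ]
  let z : MonoidAlgebra ℂ G := ((Nat.card T : ℂ)⁻¹ • S) * inc hM i
  have hz : z * z = z := by
    show (((Nat.card T : ℂ)⁻¹ • S) * inc hM i) * (((Nat.card T : ℂ)⁻¹ • S) * inc hM i) = _
    rw [mul_assoc, ← mul_assoc (inc hM i), ((hcomm.smul_right _).eq), mul_assoc ((_ : ℂ) • S),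
      ← map_mul, hii, ← mul_assoc, smul_mul_assoc, mul_smul_comm, smul_smul, hS2, smul_smul,
      mul_assoc (Nat.card T : ℂ)⁻¹, inv_mul_cancel₀ (Nat.cast_ne_zero.2 Nat.card_pos.ne'), mul_one]
  obtain ⟨k, hk⟩ := exists_nat_tr hχ hz
  refine ⟨k, ?_⟩
  rw [← hk]
  simp only [z, S, smul_mul_assoc, Finset.sum_mul, tr_smul, tr_sum, trL, map_mul]

/-- The scalar product of `trL (· * i)` with a generalised character of a `p`-group is an integer. -/
theorem exists_int_char {χ : G → ℂ} (hχ : IsCharacter G χ) (T : Subgroup G) [Fintype T]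
    (hT : IsPGroup p T) {θ : T → ℂ} (hθ : IsGeneralizedCharacter T θ) {i : Loc hM G}
    (hi : Fixed T i) (hii : i * i = i) :
    ∃ m : ℤ, (Nat.card T : ℂ)⁻¹ * ∑ u : T, θ u * trL hM χ (el hM (u : G) * i) = m := by
  classical
  have := Fintype.ofFinite (IrrCharacter T)
  have : Group.IsNilpotent T := hT.isNilpotent
  set f := fun u : T => conj (trL hM χ (el hM (u : G) * i)) with hf
  have hfcl : IsClassFunction T f := fun u t => by
    simp only [hf, Subgroup.coe_mul, Subgroup.coe_inv]
    congr 1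
    rw [← trL_cj hM (Char.IsCharacter.isClassFunction hχ) (t : G) (el hM (u : G) * i), map_mul,
      el_cj, hi t t.2]
  have hirr : ∀ η : IrrCharacter T, ∃ m : ℤ, classInner (η : T → ℂ) f = m := by
    intro η
    obtain ⟨K, lam, hK⟩ := Char.monomial_of_isNilpotent η.2
    have := Fintype.ofFinite K
    rw [hK, Char.frobenius_reciprocity K _ hfcl]
    set L : Subgroup G := K.map T.subtype with hL
    have := Fintype.ofFinite L
    let ψ : K ≃* L := Subgroup.equivMapOfInjective K T.subtype T.subtype_injective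
    obtain ⟨k, hk⟩ := exists_nat_linear hM hχ L (lam.comp ψ.symm.toMonoidHom)
      (hi.mono (Subgroup.map_subtype_le K)) hii
    refine ⟨k, ?_⟩
    rw [Int.cast_natCast, ← hk, classInner, ← Nat.card_congr ψ.toEquiv]
    congr 1
    refine Fintype.sum_equiv ψ.toEquiv _ _ fun x => ?_
    show _ = ((lam (ψ.symm (ψ x)) : ℂˣ) : ℂ) * trL hM χ (el hM ((x : T) : G) * i)
    rw [MulEquiv.symm_apply_apply]
    simp only [hf, Complex.conj_conj]
  choose m hm using hirr
  obtain ⟨n, hn, -, -⟩ := Char.IsGeneralizedCharacter.exists_coeffs hθ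
  refine ⟨∑ η, n η * m η, ?_⟩
  have h : classInner θ f = (Nat.card T : ℂ)⁻¹ * ∑ u : T, θ u * trL hM χ (el hM (u : G) * i) := by
    simp only [classInner, hf, Complex.conj_conj]
  rw [← h, hn, Char.classInner_sum_left]
  push_cast
  exact Finset.sum_congr rfl fun η _ => by rw [Char.classInner_smul_left, hm]

/-- The integrality theorem. -/
theorem twist_int {χ : G → ℂ} (hχ : IsCharacter G χ) {w : G → BrauerPairIdx G → ℂ}
    (hw : ∀ g u : G, ∀ a ∈ pairsAt M u, w (g * u * g⁻¹) (conjIdx g a) = w u a)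
    (hlin : ∀ (T : Subgroup G) (e : Set (IrrCharacter (Subgroup.centralizer (T : Set G)))),
      IsBrauerPair p M T e → ∃ θ : T → ℂ, IsGeneralizedCharacter T θ ∧
        ∀ (u : T) (a : BrauerPairIdx G),
          a ∈ pairsAt M (u : G) → SubpairLE p M a.1 a.2 T e → w (u : G) a = θ u)
    (T : Subgroup G) (hT : IsPGroup p T) (ε : Loc hM G) (hε : Fixed T ε) (hεε : ε * ε = ε)
    (α : T →* ℂˣ) : ∃ n : ℤ, twist hM χ w T α ε = n := by
  classical
  have hcl : IsClassFunction G χ := Char.IsCharacter.isClassFunction hχ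
  have := res_charP hM
  have := Fintype.ofFinite G
  induction hn : Nat.card T using Nat.strong_induction_on generalizing T ε with
  | _ n ih =>
  obtain ⟨s, hs, ho, hsum⟩ := exists_decomp hε hεε
  suffices hprim : ∀ i, IsPrim T i → ∃ m : ℤ, twist hM χ w T α i = m by
    choose m hm using fun j : s => hprim j.1 (hs j.1 j.2).1
    refine ⟨∑ j, m j, ?_⟩
    rw [← hsum, twist_sum hM hcl w hT α s (fun j hj => ⟨(hs j hj).1.1, (hs j hj).1.2.1⟩) ho,
      ← Finset.sum_coe_sort]
    push_cast
    exact Finset.sum_congr rfl fun j _ => hm j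
  intro i hi
  clear hs ho hsum s hε hεε ε
  have := Fintype.ofFinite T
  have hle : ∀ u : T, Subgroup.zpowers (u : G) ≤ T := fun u => Subgroup.zpowers_le.2 u.2
  by_cases hbr : br T (rd hM i) = 0
  · obtain ⟨R, c, hRT, hnorm, hidx, hc, hic⟩ := exists_eq_relTr_of_br_eq_zero hM hT hi hbr
    have := Fintype.ofFinite R
    have hR : IsPGroup p R := hT.to_le hRT
    have hconj : ∀ t ∈ T, ∀ u, u ∈ R ↔ t⁻¹ * u * t ∈ R := by
      intro t ht u
      have hmv : ∀ t ∈ T, ∀ u ∈ R, t * u * t⁻¹ ∈ R := fun t ht u hu => by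
        have := hnorm.conj_mem ⟨u, hRT hu⟩ (Subgroup.mem_subgroupOf.2 hu) ⟨t, ht⟩
        simpa [Subgroup.mem_subgroupOf] using this
      refine ⟨fun hu => by simpa using hmv t⁻¹ (inv_mem ht) u hu, fun hu => ?_⟩
      simpa [mul_assoc] using hmv t ht _ hu
    have hcard : Nat.card T = p * Nat.card R := by
      rw [← Subgroup.index_mul_card (R.subgroupOf T), hidx,
        Nat.card_congr (Subgroup.subgroupOfEquivOfLe hRT).toEquiv]
    have hRlt : Nat.card R < n := by
      rw [← hn, hcard]
      exact lt_mul_of_one_lt_left Nat.card_pos (Fact.out : p.Prime).one_lt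
    -- vanishing off `R`
    have hoff : ∀ u : T, (u : G) ∉ R → phi hM χ w (u : G) i = 0 := by
      intro u hu
      refine Finset.sum_eq_zero fun a _ => mul_eq_zero_of_right _ ?_
      refine psi_zero hM hcl (exists_order_pow hT u) ?_
      rw [hic, rd_relTr, br_relTr_eq_zero (p := p) (hT.to_le (hle u)) (hle u) (fixed_rd hM hc)
        (fun t ht => ⟨u, Subgroup.mem_zpowers _, fun h => hu ((hconj t ht u).2 h)⟩), zero_mul]
    set β : R →* ℂˣ := α.comp (Subgroup.inclusion hRT) with hβ
    have htw : twist hM χ w T α i = (p : ℂ)⁻¹ * twist hM χ w R β i := by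
      rw [twist_def, twist_def, hcard, Nat.cast_mul, mul_inv, mul_assoc]
      congr 2
      symm
      refine (Finset.sum_map Finset.univ ⟨Subgroup.inclusion hRT, Subgroup.inclusion_injective hRT⟩
        (fun u : T => (α u : ℂ) * phi hM χ w (u : G) i)).symm.trans ?_
      refine Finset.sum_subset (Finset.subset_univ _) fun u _ hu => ?_
      rw [hoff u, mul_zero]
      intro huR
      exact hu (Finset.mem_map.2 ⟨⟨(u : G), huR⟩, Finset.mem_univ _, rfl⟩)
    obtain ⟨D, hD, hDo, hDsum⟩ := exists_decomp (hi.1.mono hRT) hi.2.1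
    have hval : ∀ j : Loc hM G, IsPrim R j → ∃ m : ℤ, twist hM χ w R β j = m := fun j hj =>
      ih _ hRlt R hR j hj.1 hj.2.1 β rfl
    choose v hv using hval
    let key : Loc hM G → ℤ := fun j => if h : IsPrim R j then v j h else 0
    have hkey : ∀ j, IsPrim R j → twist hM χ w R β j = key j := fun j hj => by
      simp only [key, dif_pos hj]; exact hv j hj
    -- conjugation does not change the key
    have hkcj : ∀ t ∈ T, ∀ j, IsPrim R j → key (cj t j) = key j := by
      intro t ht j hj
      have hj' : IsPrim R (cj t j) := hj.cj (hconj t ht)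
      have h1 : twist hM χ w R β (cj t j) = twist hM χ w R β j := by
        rw [twist_def, twist_def]
        congr 1
        let σ : R ≃ R :=
          { toFun := fun u => ⟨t⁻¹ * u * t, (hconj t ht u).1 u.2⟩
            invFun := fun u => ⟨t * u * t⁻¹, (hconj t ht _).2 (by simp [mul_assoc])⟩
            left_inv := fun u => Subtype.ext (by simp [mul_assoc])
            right_inv := fun u => Subtype.ext (by simp [mul_assoc]) }
        refine Fintype.sum_equiv σ _ _ fun u => ?_
        have e1 : (σ u : G) = t⁻¹ * u * t := rfl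
        congr 1
        · rw [hβ, MonoidHom.comp_apply, MonoidHom.comp_apply,
            show Subgroup.inclusion hRT (σ u) = (⟨t, ht⟩ : T)⁻¹ * Subgroup.inclusion hRT u * ⟨t, ht⟩
              from Subtype.ext e1,
            map_mul, map_mul, map_inv, mul_comm, ← mul_assoc, mul_inv_cancel, one_mul]
        · rw [e1, ← phi_cj hM hcl hw (u := t⁻¹ * u * t) (e1 ▸ exists_order_pow hR (σ u))
            (hj.1.mono (e1 ▸ Subgroup.zpowers_le.2 (σ u).2)) hj.2.1 t]
          congr 1
          group
      rw [hkey _ hj', hkey _ hj] at h1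
      exact_mod_cast h1
    -- isomorphic idempotents have the same key
    have hkiso : ∀ j k : Loc hM G, IsPrim R j → IsPrim R k → ∀ a b, Fixed R a → Fixed R b →
        j * a = a → a * k = a → k * b = b → b * j = b → tau hM j (a * b) ≠ 0 → key j = key k := by
      intro j k hj hk a b ha hb ha1 ha2 hb1 hb2 hne
      obtain ⟨b', hb', -, hb'2, hab, hba⟩ :=
        exists_assoc_of_tau hM hj hk ha hb ha1 ha2 hb1 hb2 hne
      have := twist_assoc hM hcl w hR β hj hk ha hb' ha1 hb'2 hab hba
      rw [hkey _ hj, hkey _ hk] at this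
      exact_mod_cast this
    -- the sum of `tau` over a class does not depend on the decomposition
    let dec : Finset (Loc hM G) → Prop := fun E => (∀ j ∈ E, IsPrim R j ∧ InCorner i j) ∧
      (∀ j ∈ E, ∀ k ∈ E, j ≠ k → j * k = 0) ∧ ∑ j ∈ E, j = i
    have hindep : ∀ (E E' : Finset (Loc hM G)), dec E → dec E' → ∀ (m : ℤ) (x : Loc hM G),
        Fixed R x → ∑ k ∈ E'.filter (fun k => key k = m), tau hM k x =
          ∑ j ∈ E.filter (fun j => key j = m), tau hM j x := by
      intro E E' hE hE' m x hx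
      have hexp : ∀ (A B : Finset (Loc hM G)), dec A → dec B → ∀ k ∈ A,
          tau hM k x = ∑ j ∈ B, tau hM k (k * x * j * (j * k)) := by
        intro A B hA hB k hk
        obtain ⟨hkp, hkc⟩ := hA.1 k hk
        rw [← tau_sum hM B hkp _ fun j hj => (((hkp.1.mul hx).mul (hB.1 j hj).1.1).mul
          ((hB.1 j hj).1.1.mul hkp.1))]
        refine tau_congr hM ?_
        have h1 : ∀ j ∈ B, k * x * j * (j * k) = k * x * j * k := fun j hj => by
          rw [mul_assoc (k * x) j (j * k), ← mul_assoc j j k, (hB.1 j hj).1.2.1, ← mul_assoc]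
        rw [Finset.sum_congr rfl h1, ← Finset.sum_mul, ← Finset.mul_sum, hB.2.2,
          mul_assoc (k * x) i k, hkc.1, ← mul_assoc k, ← mul_assoc k, hkp.2.1,
          mul_assoc (k * x) k k, hkp.2.1]
      have hswap : ∀ k ∈ E', ∀ j ∈ E, tau hM k (k * x * j * (j * k)) =
          tau hM j (j * k * (k * x * j)) ∧
          (tau hM j (j * k * (k * x * j)) ≠ 0 → key j = key k) := by
        intro k hk j hj
        have hkp := (hE'.1 k hk).1
        have hjp := (hE.1 j hj).1
        have a1 : j * (j * k) = j * k := by rw [← mul_assoc, hjp.2.1]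
        have a2 : j * k * k = j * k := by rw [mul_assoc, hkp.2.1]
        have b1 : k * (k * x * j) = k * x * j := by simp only [← mul_assoc, hkp.2.1]
        have b2 : k * x * j * j = k * x * j := by rw [mul_assoc, hjp.2.1]
        have haf := hjp.1.mul hkp.1
        have hbf := (hkp.1.mul hx).mul hjp.1
        exact ⟨(tau_mul_comm hM hjp hkp haf hbf a1 a2 b1 b2).symm,
          hkiso j k hjp hkp _ _ haf hbf a1 a2 b1 b2⟩
      calc ∑ k ∈ E'.filter (fun k => key k = m), tau hM k x
          = ∑ k ∈ E'.filter (fun k => key k = m), ∑ j ∈ E.filter (fun j => key j = m),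
              tau hM j (j * k * (k * x * j)) := by
            refine Finset.sum_congr rfl fun k hk => ?_
            obtain ⟨hk, hkm⟩ := Finset.mem_filter.1 hk
            rw [hexp E' E hE' hE k hk, Finset.sum_congr rfl fun j hj => (hswap k hk j hj).1,
              Finset.sum_filter]
            refine Finset.sum_congr rfl fun j hj => ?_
            split_ifs with h
            · rfl
            · by_contra h0
              exact h (((hswap k hk j hj).2 h0).trans hkm)
        _ = ∑ j ∈ E.filter (fun j => key j = m), ∑ k ∈ E'.filter (fun k => key k = m),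
              tau hM j (j * k * (k * x * j)) := Finset.sum_comm
        _ = _ := by
            refine Finset.sum_congr rfl fun j hj => ?_
            obtain ⟨hj, hjm⟩ := Finset.mem_filter.1 hj
            obtain ⟨hjp, hjc⟩ := hE.1 j hj
            rw [Finset.sum_filter]
            have h1 : ∑ k ∈ E', tau hM j (j * k * (k * x * j)) = tau hM j x := by
              rw [← tau_sum hM E' hjp _ fun k hk => ((hjp.1.mul (hE'.1 k hk).1.1).mul
                (((hE'.1 k hk).1.1.mul hx).mul hjp.1))]
              refine tau_congr hM ?_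
              have h2 : ∀ k ∈ E', j * k * (k * x * j) = j * k * (x * j) := fun k hk => by
                rw [mul_assoc k x j, ← mul_assoc (j * k) k, mul_assoc j k k, (hE'.1 k hk).1.2.1]
              rw [Finset.sum_congr rfl h2, ← Finset.sum_mul, ← Finset.mul_sum, hE'.2.2, hjc.2]
              simp only [← mul_assoc, hjp.2.1]
              rw [mul_assoc (j * x) j j, hjp.2.1]
            rw [← h1]
            refine Finset.sum_congr rfl fun k hk => ?_
            split_ifs with h
            · rfl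
            · by_contra h0
              exact h (((hswap k hk j hj).2 (Ne.symm h0)).symm.trans hjm)
    -- each class has cardinality divisible by `p`
    have hdvd : ∀ m : ℤ, (p : ℤ) ∣ ((D.filter fun j => key j = m).card : ℤ) := by
      intro m
      have hDdec : dec D := ⟨hD, hDo, hDsum⟩
      have hcfix : ∀ t ∈ T, Fixed R (cj t c) := fun t ht => fixed_conj hc fun u hu => (hconj t ht u).1 hu
      have hstep : ∀ t ∈ T, ∑ j ∈ D.filter (fun j => key j = m), tau hM j (cj t c) =
          ∑ j ∈ D.filter (fun j => key j = m), tau hM j c := by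
        intro t ht
        have hD' : dec (D.image (cj t)) := by
          refine ⟨fun j hj => ?_, fun j hj k hk hne => ?_, ?_⟩
          · obtain ⟨j0, hj0, rfl⟩ := Finset.mem_image.1 hj
            refine ⟨(hD j0 hj0).1.cj (hconj t ht), ?_⟩
            have := (hD j0 hj0).2.cj t
            rwa [hi.1 t ht] at this
          · obtain ⟨j0, hj0, rfl⟩ := Finset.mem_image.1 hj
            obtain ⟨k0, hk0, rfl⟩ := Finset.mem_image.1 hk
            rw [← map_mul, hDo j0 hj0 k0 hk0 fun h => hne (by rw [h]), map_zero]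
          · rw [Finset.sum_image (cj t).injective.injOn, ← map_sum, hDsum, hi.1 t ht]
        rw [← hindep D (D.image (cj t)) hDdec hD' m (cj t c) (hcfix t ht), Finset.filter_image,
          Finset.sum_image (cj t).injective.injOn]
        refine Finset.sum_congr (Finset.filter_congr fun j hj => by rw [hkcj t ht j (hD j hj).1])
          fun j hj => ?_
        exact tau_cj hM (hD j (Finset.mem_filter.1 hj).1).1 hc (hconj t ht)
      have h1 : ((D.filter fun j => key j = m).card : Res M) =
          ∑ j ∈ D.filter (fun j => key j = m), tau hM j i := by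
        rw [← nsmul_one, ← Finset.sum_const]
        refine Finset.sum_congr rfl fun j hj => ?_
        obtain ⟨hjp, hjc⟩ := hD j (Finset.mem_filter.1 hj).1
        rw [tau_congr hM (y := j) (by rw [hjc.2, hjp.2.1, hjp.2.1]), tau_self hM hjp]
      have := Fintype.ofFinite (T ⧸ R.subgroupOf T)
      have h2 : ∑ j ∈ D.filter (fun j => key j = m), tau hM j i =
          ∑ q : T ⧸ R.subgroupOf T, ∑ j ∈ D.filter (fun j => key j = m), tau hM j c := by
        rw [Finset.sum_congr rfl fun j hj => show tau hM j i = ∑ q : T ⧸ R.subgroupOf T,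
            tau hM j (cj ((q.out : T) : G) c) from ?_, Finset.sum_comm]
        · exact Finset.sum_congr rfl fun q _ => hstep _ (q.out).2
        · rw [hic, relTr_def, tau_sum hM _ (hD j (Finset.mem_filter.1 hj).1).1 _
            fun q _ => hcfix _ (q.out).2]
      rw [← CharP.intCast_eq_zero_iff (Res M) p, Int.cast_natCast,
        h1, h2, Finset.sum_const, Finset.card_univ, ← Nat.card_eq_fintype_card,
        ← Subgroup.index_eq_card, hidx, nsmul_eq_mul, CharP.cast_eq_zero, zero_mul]
    choose d hd using hdvd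
    refine ⟨∑ m ∈ D.image key, d m * m, ?_⟩
    have hfin : twist hM χ w R β i = (p : ℂ) * ((∑ m ∈ D.image key, d m * m : ℤ) : ℂ) := by
      rw [← hDsum, twist_sum hM hcl w hR β D (fun j hj => ⟨(hD j hj).1.1, (hD j hj).1.2.1⟩) hDo,
        Finset.sum_congr rfl fun j hj => hkey j (hD j hj).1]
      have h3 : (∑ j ∈ D, key j : ℤ) = (p : ℤ) * ∑ m ∈ D.image key, d m * m := by
        rw [← Finset.sum_fiberwise_of_maps_to (g := key) (t := D.image key)
          (fun j hj => Finset.mem_image_of_mem _ hj), Finset.mul_sum]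
        refine Finset.sum_congr rfl fun m _ => ?_
        rw [Finset.sum_congr rfl (fun j hj => (Finset.mem_filter.1 hj).2), Finset.sum_const,
          nsmul_eq_mul, ← mul_assoc, ← hd m]
      exact_mod_cast congrArg (fun z : ℤ => (z : ℂ)) h3
    rw [htw, hfin, ← mul_assoc, inv_mul_cancel₀ (Nat.cast_ne_zero.2 (Fact.out : p.Prime).ne_zero),
      one_mul]
  · obtain ⟨e, he, hne⟩ := exists_block_mul_ne_zero hM (Subgroup.centralizer (T : Set G)) hbr
    obtain ⟨θ, hθ, hcμ⟩ := hlin T e ⟨hT, he⟩
    have hphi : ∀ u : T, phi hM χ w (u : G) i =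
        θ u * trL hM χ (el hM (u : G) * i) := by
      intro u
      set U := Subgroup.zpowers (u : G) with hU
      obtain ⟨f, hf, hfle⟩ := exists_subpair hM (P := T) (e := e) ⟨hT, he⟩ (hle u)
      let a₀ : BrauerPairIdx G := ⟨U, f⟩
      have ha₀ : a₀ ∈ pairsAt M (u : G) := mem_pairsAt.2 ⟨rfl, hf⟩
      have honly : ∀ g : Set (IrrCharacter (Subgroup.centralizer (U : Set G))), IsPBlock M g →
          g ≠ f → br U (rd hM i) * cb M U g = 0 := by
        intro g hg hgf
        by_contra h
        exact hgf (subpair_unique hM ⟨hT, he⟩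
          (subpairLE_of_br_ne_zero hM hT hi he hne (hle u) hg h) hfle)
      rw [phi, Finset.sum_eq_single a₀]
      · rw [hcμ u a₀ ha₀ hfle, psi_eq hM hcl (exists_order_pow hT u) (f := i)]
        refine ⟨hi.1.mono (hle u), hi.2.1, ?_⟩
        show br U (rd hM i) = br U (rd hM i) * cb M U f
        conv_lhs => rw [← mul_one (br U (rd hM i)),
          ← sum_bIdem hM (Subgroup.centralizer (U : Set G)), Finset.mul_sum]
        rw [Finset.sum_eq_single f]
        · exact fun g hg hgf => honly g (mem_blocks.1 hg) hgf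
        · exact fun h => absurd (mem_blocks.2 hf) h
      · rintro ⟨V, g⟩ ha hne'
        obtain ⟨hV, hg⟩ := mem_pairsAt.1 ha
        obtain rfl : V = U := hV
        rw [psi_zero hM hcl (exists_order_pow hT u) (honly g hg fun h => hne' (by rw [h])), mul_zero]
      · exact fun h => absurd ha₀ h
    obtain ⟨m, hm⟩ := exists_int_char hM hχ T hT
      (Char.IsGeneralizedCharacter.mul (Char.isGeneralizedCharacter_of_isCharacter
        (Char.IsIrrCharacter.isCharacter ((Char.linearCharEquiv T α).1).2)) hθ) hi.1 hi.2.1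
    refine ⟨m, ?_⟩
    rw [twist_def, ← hm]
    congr 1
    refine Finset.sum_congr rfl fun u _ => ?_
    rw [hphi u, Pi.mul_apply, mul_assoc]
    rfl

end Cfsg.Agent.Star
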