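import Cfsg.Agent.Lib.Star.Tau
import Cfsg.Agent.Lib.SecondMain.Trace
import Cfsg.Agent.Lib.Transfer.Residual

/-!
# Twisted traces of idempotents over the local ring

* `tr χ`, `trL χ` (linear extension of a class function), `el`;
* `exists_nat_tr` (an idempotent has a natural number as trace);
* `trL_el_eq_zero`, `trL_el_eq_of_congr` (only the Brauer image matters);
* `IsPiece`, `psi` with `psi_eq`, `exists_piece`, `psi_sum`, `psi_zero`, `psi_assoc`, `psi_cj`.
-/

set_option autoImplicit false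
set_option synthInstance.maxHeartbeats 200000
set_option maxHeartbeats 1000000

namespace Cfsg.Agent.Star

open Cfsg Cfsg.Agent.Blocks Cfsg.Agent.BrauerPairs

variable {G : Type*} [Group G] [Finite G]

section complex

open scoped Classical in
/-- The linear extension of a function on `G`. -/
noncomputable def tr (χ : G → ℂ) (z : MonoidAlgebra ℂ G) : ℂ :=
  letI := Fintype.ofFinite G
  ∑ g, z.coeff g * χ g

theorem tr_def [Fintype G] (χ : G → ℂ) (z : MonoidAlgebra ℂ G) :
    tr χ z = ∑ g, z.coeff g * χ g := by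
  unfold tr
  congr!

theorem tr_add (χ : G → ℂ) (z w : MonoidAlgebra ℂ G) : tr χ (z + w) = tr χ z + tr χ w := by
  have := Fintype.ofFinite G
  simp [tr_def, add_mul, Finset.sum_add_distrib]

theorem tr_smul (χ : G → ℂ) (c : ℂ) (z : MonoidAlgebra ℂ G) : tr χ (c • z) = c * tr χ z := by
  have := Fintype.ofFinite G
  simp [tr_def, Finset.mul_sum, mul_assoc]

theorem tr_zero (χ : G → ℂ) : tr χ 0 = 0 := by
  have := Fintype.ofFinite G
  simp [tr_def]

theorem tr_sum (χ : G → ℂ) {ι : Type*} (s : Finset ι) (f : ι → MonoidAlgebra ℂ G) :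
    tr χ (∑ i ∈ s, f i) = ∑ i ∈ s, tr χ (f i) :=
  map_sum ({ toFun := tr χ, map_zero' := tr_zero χ, map_add' := tr_add χ } :
    MonoidAlgebra ℂ G →+ ℂ) f s

theorem tr_mul [Fintype G] (χ : G → ℂ) (z w : MonoidAlgebra ℂ G) :
    tr χ (z * w) = ∑ a, ∑ b, z.coeff a * w.coeff b * χ (a * b) := by
  rw [tr_def]
  have h1 : ∀ x, (z * w).coeff x = ∑ a, z.coeff a * w.coeff (a⁻¹ * x) := fun x => by
    rw [MonoidAlgebra.coeff_mul_apply_left, Finsupp.sum_fintype _ _ (fun _ => by simp)]
  simp only [h1, Finset.sum_mul]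
  rw [Finset.sum_comm]
  refine Finset.sum_congr rfl fun a _ => ?_
  exact (Fintype.sum_equiv (Equiv.mulLeft a) _ _ fun b => by simp).symm

theorem tr_mul_comm {χ : G → ℂ} (hχ : IsClassFunction G χ) (z w : MonoidAlgebra ℂ G) :
    tr χ (z * w) = tr χ (w * z) := by
  have := Fintype.ofFinite G
  rw [tr_mul, tr_mul, Finset.sum_comm]
  refine Finset.sum_congr rfl fun a _ => Finset.sum_congr rfl fun b _ => ?_
  rw [mul_comm (z.coeff b), isClassFunction_comm hχ b a]

theorem tr_eq_trace {n : ℕ} (ρ : Representation ℂ G (Fin n → ℂ)) (z : MonoidAlgebra ℂ G) :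
    tr ρ.character z = LinearMap.trace ℂ _ (ρ.asAlgebraHom z) := by
  have := Fintype.ofFinite G
  induction z using MonoidAlgebra.induction_linear with
  | zero => simp [tr_zero]
  | add a b ha hb => rw [tr_add, map_add, map_add, ha, hb]
  | single g r =>
    rw [tr_def, Finset.sum_eq_single g]
    · simp [Representation.character]
    · intro b _ hb; simp [MonoidAlgebra.coeff_single, Ne.symm hb]
    · simp

/-- An idempotent has a natural number as trace. -/
theorem exists_nat_tr {χ : G → ℂ} (hχ : IsCharacter G χ) {z : MonoidAlgebra ℂ G} (hz : z * z = z) :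
    ∃ n : ℕ, tr χ z = n := by
  obtain ⟨m, ρ, rfl⟩ := hχ
  have h : IsIdempotentElem (ρ.asAlgebraHom z) := by rw [IsIdempotentElem, ← map_mul, hz]
  exact ⟨_, (tr_eq_trace ρ z).trans
    (LinearMap.IsProj.trace ((LinearMap.isProj_range_iff_isIdempotentElem _).2 h))⟩

end complex

variable {p : ℕ} {M : Ideal AlgInt} (hM : IsPModular p M)

/-- The inclusion of the local group algebra into the complex one. -/
noncomputable def inc : Loc hM G →+* MonoidAlgebra ℂ G :=
  MonoidAlgebra.mapRingHom G (locRing hM).subtype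

theorem coeff_inc (a : Loc hM G) (x : G) : (inc hM a).coeff x = (a.coeff x : ℂ) := by
  simp [inc]

/-- The trace of an element of the local group algebra. -/
noncomputable def trL (χ : G → ℂ) (a : Loc hM G) : ℂ := tr χ (inc hM a)

theorem trL_mul_comm {χ : G → ℂ} (hχ : IsClassFunction G χ) (a b : Loc hM G) :
    trL hM χ (a * b) = trL hM χ (b * a) := by
  simp only [trL, map_mul, tr_mul_comm hχ]

/-- A group element in the local group algebra. -/
noncomputable def el (g : G) : Loc hM G := MonoidAlgebra.single g 1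

theorem trL_el_mul [Fintype G] (χ : G → ℂ) (u : G) (a : Loc hM G) :
    trL hM χ (el hM u * a) = ∑ n, (a.coeff n : ℂ) * χ (u * n) := by
  rw [trL, map_mul, tr_mul]
  simp only [coeff_inc, el, MonoidAlgebra.coeff_single]
  rw [Finset.sum_eq_single u]
  · simp
  · intro b _ hb; simp [Ne.symm hb]
  · simp

theorem el_commute {u : G} {a : Loc hM G} (ha : Fixed (Subgroup.zpowers u) a) :
    Commute (el hM u) a := by
  have := Fintype.ofFinite G
  refine (ha.commute (b := el hM u) ?_).symm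
  intro x hx
  simp only [el, MonoidAlgebra.coeff_single]
  rw [Finsupp.single_eq_of_ne]
  rintro rfl
  exact hx (Subgroup.mem_zpowers x)

theorem el_cj (g u : G) : cj g (el hM u) = el hM (g * u * g⁻¹) := cj_single g u 1

variable [hp : Fact p.Prime]

open scoped IsMulCommutative in
/-- The twisted trace vanishes on idempotents killed by the Brauer map: the kernel form. -/
theorem sum_idem_twist_eq_zero' [Fintype G] (hM : IsPModular p M) {d : G → ℂ}
    (hdR : ∀ g, MemLocalRing M (d g)) (hdd : conv d d = d) {x : G}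
    (hd : ∀ g, d (x⁻¹ * g * x) = d g) (hdI : ∀ g, Commute x g → MemLocalIdeal M (d g))
    (hx : ∃ k, orderOf x = p ^ k) (g : G) :
    ∑ a, d (x⁻¹ * a * g * a⁻¹) = 0 := by
  classical
  obtain ⟨s, u, rfl, hs, hu, ⟨j, hj⟩, huo⟩ := Transfer.exists_pPart_mul (p := p) g
  have hup : ¬ p ∣ orderOf u := (hM.1.coprime_iff_not_dvd).mp huo.symm
  have hsu : Commute s u := by
    obtain ⟨i, hi⟩ := Subgroup.mem_zpowers_iff.mp hs
    obtain ⟨i', hi'⟩ := Subgroup.mem_zpowers_iff.mp hu
    have h := (Commute.refl (s * u)).zpow_zpow i i'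
    rwa [hi, hi'] at h
  let Λ : Subgroup G := Subgroup.zpowers u
  haveI : NeZero (Monoid.exponent Λ : ℂ) :=
    ⟨Nat.cast_ne_zero.mpr Monoid.exponent_ne_zero_of_finite⟩
  have hΛ : ¬ p ∣ Nat.card Λ := by rwa [Nat.card_zpowers]
  have hΛc : ∀ l : Λ, Commute s (l : G) := by
    intro l
    obtain ⟨i, hi⟩ := Subgroup.mem_zpowers_iff.mp l.2
    rw [← hi]
    exact hsu.zpow_right i
  let c : ℂ := (Nat.card Λ : ℂ)⁻¹
  have hval : ∀ (φ : Λ →* ℂˣ) (l : Λ), MemLocalRing M (φ l : ℂ) := by
    intro φ l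
    have h1 : (φ l : ℂ) ^ Nat.card Λ = 1 := by
      rw [← Units.val_pow_eq_pow_val, ← map_pow, pow_card_eq_one', map_one, Units.val_one]
    exact memR_of_isIntegral hM (IsIntegral.of_pow Nat.card_pos (h1 ▸ isIntegral_one))
  let E : (Λ →* ℂˣ) → G → G → ℂ := fun φ a b => c * ∑ l : Λ, (φ l : ℂ) * d (a * l * b⁻¹)
  have hidem : ∀ φ a b, ∑ m, E φ a m * E φ m b = E φ a b := by
    intro φ a b
    have hterm : ∀ l k : Λ, ∑ m, (d (a * l * m⁻¹) * d (m * k * b⁻¹)) = d (a * (l * k : Λ) * b⁻¹) := by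
      intro l k
      conv_rhs => rw [← hdd, conv_eq_sum]
      refine Fintype.sum_bijective (fun m => a * l * m⁻¹)
        ((Group.mulLeft_bijective _).comp inv_involutive.bijective) _ _ fun m => ?_
      congr 2
      simp only [Subgroup.coe_mul]
      group
    calc ∑ m, E φ a m * E φ m b
        = c * (c * ∑ l : Λ, ∑ k : Λ, (φ (l * k) : ℂ) * d (a * (l * k : Λ) * b⁻¹)) := by
          simp only [E, mul_mul_mul_comm c, ← Finset.mul_sum, ← mul_assoc c c]
          congr 1
          simp only [Finset.sum_mul_sum]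
          rw [Finset.sum_comm]
          refine Finset.sum_congr rfl fun l _ => ?_
          rw [Finset.sum_comm]
          refine Finset.sum_congr rfl fun k _ => ?_
          rw [← hterm l k, Finset.mul_sum, map_mul, Units.val_mul]
          exact Finset.sum_congr rfl fun m _ => by ring
      _ = E φ a b := by
          simp only [E]
          congr 1
          have h1 : ∀ l : Λ, ∑ k : Λ, (φ (l * k) : ℂ) * d (a * (l * k : Λ) * b⁻¹)
            = ∑ k : Λ, (φ k : ℂ) * d (a * k * b⁻¹) :=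
            fun l => Fintype.sum_equiv (Equiv.mulLeft l) _ _ fun k => rfl
          simp only [h1, Finset.sum_const, nsmul_eq_mul, Finset.card_univ]
          rw [← mul_assoc, ← Nat.card_eq_fintype_card, inv_mul_cancel₀
            (Nat.cast_ne_zero.mpr Nat.card_pos.ne'), one_mul]
  have hR : ∀ φ a b, MemLocalRing M (E φ a b) := fun φ a b =>
    memR_mul hM (memR_natCast_inv hM hΛ) (memR_sum hM _ fun l _ => memR_mul hM (hval φ l) (hdR _))
  let σ : Equiv.Perm G := Equiv.mulLeft x⁻¹ * Equiv.mulRight s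
  have hσ : ∀ a, σ a = x⁻¹ * a * s := fun a => (mul_assoc _ _ _).symm
  have harg : ∀ (a b : G) (l : Λ), σ a * l * (σ b)⁻¹ = x⁻¹ * (a * l * b⁻¹) * x := by
    intro a b l
    have h1 : s * (l : G) * s⁻¹ = l := by rw [(hΛc l).eq, mul_inv_cancel_right]
    calc σ a * l * (σ b)⁻¹ = x⁻¹ * (a * (s * l * s⁻¹) * b⁻¹) * x := by rw [hσ, hσ]; group
      _ = _ := by rw [h1]
  have hinv : ∀ φ a b, E φ (σ a) (σ b) = E φ a b := by
    intro φ a b
    simp only [E]
    congr 1
    refine Finset.sum_congr rfl fun l _ => ?_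
    rw [harg, hd]
  have hfix : ∀ φ a b, σ a = a → σ b = b → MemLocalIdeal M (E φ a b) := by
    intro φ a b ha hb
    refine memI_mul_left hM (memR_natCast_inv hM hΛ) (memI_sum hM _ fun l _ =>
      memI_mul_left hM (hval φ l) (hdI _ ?_))
    have h := harg a b l
    rw [ha, hb] at h
    show x * (a * l * b⁻¹) = a * l * b⁻¹ * x
    conv_lhs => rw [h]
    group
  obtain ⟨i, hi⟩ := hx
  have hσk : σ ^ p ^ (i + j) = 1 := by
    have hpow : ∀ (n : ℕ) (a : G), (σ ^ n) a = x⁻¹ ^ n * a * s ^ n := by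
      intro n
      induction n with
      | zero => simp
      | succ n ih =>
        intro a
        rw [pow_succ', Equiv.Perm.mul_apply, ih, hσ, pow_succ', pow_succ]
        simp only [mul_assoc]
    have hx1 : x⁻¹ ^ p ^ (i + j) = 1 := by
      rw [inv_pow, pow_add, pow_mul, ← hi, pow_orderOf_eq_one, one_pow, inv_one]
    have hs1 : s ^ p ^ (i + j) = 1 := by
      rw [pow_add, mul_comm, pow_mul, ← hj, pow_orderOf_eq_one, one_pow]
    exact Equiv.ext fun a => by rw [hpow, hx1, hs1, one_mul, mul_one, Equiv.Perm.one_apply]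
  have hzero : ∀ φ, ∑ a, E φ (σ a) a = 0 := fun φ =>
    SecondMain.sum_perm_eq_zero_of_fixed hM σ hσk (E φ) (hR φ) (hinv φ) (hidem φ) (hfix φ)
  letI : Fintype (Λ →* ℂˣ) := by
    haveI : Finite (Λ →* ℂˣ) := Finite.of_equiv Λ
      (CommGroup.monoidHom_mulEquiv_of_hasEnoughRootsOfUnity Λ ℂ).some.symm.toEquiv
    exact Fintype.ofFinite _
  have horth : ∀ l : Λ, l ≠ 1 → ∑ φ : Λ →* ℂˣ, (φ l : ℂ) = 0 := by
    intro l hne
    obtain ⟨ψ, hψ⟩ := CommGroup.exists_apply_ne_one_of_hasEnoughRootsOfUnity Λ ℂ hne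
    have h1 : ∑ φ : Λ →* ℂˣ, (φ l : ℂ) = (ψ l : ℂ) * ∑ φ : Λ →* ℂˣ, (φ l : ℂ) := by
      rw [Finset.mul_sum]
      exact (Fintype.sum_equiv (Equiv.mulLeft ψ) _ _ fun φ => by simp).symm
    by_contra h0
    exact hψ (Units.val_eq_one.mp (mul_eq_right₀ h0 |>.mp h1.symm))
  let l₀ : Λ := ⟨u, Subgroup.mem_zpowers _⟩
  have h1 : ∑ φ : Λ →* ℂˣ, (φ l₀⁻¹ : ℂ) * ∑ a, E φ (σ a) a = 0 := by simp [hzero]
  simp only [E, ← Finset.mul_sum, mul_left_comm _ c] at h1
  have h2 := (mul_eq_zero.mp h1).resolve_left (inv_ne_zero (Nat.cast_ne_zero.mpr Nat.card_pos.ne'))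
  simp only [Finset.mul_sum] at h2
  rw [Finset.sum_comm] at h2
  simp only [Finset.sum_comm (γ := Λ →* ℂˣ) (α := Λ)] at h2
  have h3 : ∀ a, ∑ l : Λ, ∑ φ : Λ →* ℂˣ, (φ l₀⁻¹ : ℂ) * ((φ l : ℂ) * d (σ a * l * a⁻¹))
      = (Fintype.card (Λ →* ℂˣ) : ℂ) * d (x⁻¹ * a * (s * u) * a⁻¹) := by
    intro a
    rw [Finset.sum_eq_single l₀]
    · simp only [← mul_assoc ((_ : ℂˣ) : ℂ), ← Units.val_mul, ← map_mul, inv_mul_cancel, map_one,
        Units.val_one, one_mul, Finset.sum_const, nsmul_eq_mul, Finset.card_univ, l₀, hσ, mul_assoc]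
    · intro l _ hne
      simp only [← mul_assoc ((_ : ℂˣ) : ℂ), ← Units.val_mul, ← map_mul, ← Finset.sum_mul]
      rw [horth _ (by rwa [ne_eq, inv_mul_eq_one, eq_comm]), zero_mul]
    · simp
  simp only [h3, ← Finset.mul_sum] at h2
  exact (mul_eq_zero.mp h2).resolve_left (Nat.cast_ne_zero.mpr Fintype.card_ne_zero)

/-- The twisted trace of an idempotent killed by the Brauer map vanishes. -/
theorem trL_el_eq_zero {χ : G → ℂ} (hχ : IsClassFunction G χ) {u : G}
    (hu : ∃ k, orderOf u = p ^ k) {d : Loc hM G} (hdf : Fixed (Subgroup.zpowers u) d)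
    (hdd : d * d = d) (h0 : br (Subgroup.zpowers u) (rd hM d) = 0) :
    trL hM χ (el hM u * d) = 0 := by
  have := Fintype.ofFinite G
  let δ : G → ℂ := fun g => (d.coeff g : ℂ)
  have hδδ : conv δ δ = δ := by
    funext g
    show conv δ δ g = ((d.coeff g : locRing hM) : ℂ)
    conv_rhs => rw [← hdd]
    rw [MonoidAlgebra.coeff_mul_apply_left, Finsupp.sum_fintype _ _ (fun _ => zero_mul _), conv_eq_sum]
    push_cast
    rfl
  have hinv : ∀ g, δ (u⁻¹ * g * u) = δ g := fun g => by
    have := coeff_conj_of_fixed hdf (inv_mem (Subgroup.mem_zpowers u)) g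
    rw [inv_inv] at this
    exact congrArg (fun z : locRing hM => (z : ℂ)) this
  have hI : ∀ g, Commute u g → MemLocalIdeal M (δ g) := fun g hg => by
    have hgC : g ∈ Subgroup.centralizer (Subgroup.zpowers u : Set G) := by
      rw [Subgroup.mem_centralizer_iff]
      intro w hw
      obtain ⟨i, rfl⟩ := Subgroup.mem_zpowers_iff.1 hw
      exact (hg.zpow_left i).eq
    have := congrArg (fun w : MonoidAlgebra (Res M) G => w.coeff g) h0
    simp only [coeff_br, hgC, if_true, coeff_rd, MonoidAlgebra.coeff_zero, Finsupp.zero_apply] at this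
    exact (res_eq_zero_iff hM (d.coeff g).2).1 this
  have key := sum_idem_twist_eq_zero' hM (fun g => (d.coeff g).2) hδδ hinv hI hu
  have h1 : ∑ a : G, ∑ g, χ g * δ (u⁻¹ * a * g * a⁻¹) = 0 := by
    rw [Finset.sum_comm]
    refine Finset.sum_eq_zero fun g _ => ?_
    rw [← Finset.mul_sum]
    exact mul_eq_zero_of_right _ (key g)
  have h2 : ∀ a : G, ∑ g, χ g * δ (u⁻¹ * a * g * a⁻¹) = trL hM χ (el hM u * d) := by
    intro a
    rw [trL_el_mul]
    refine Fintype.sum_equiv ((MulAut.conj a).toEquiv.trans (Equiv.mulLeft u⁻¹)) _ _ fun g => ?_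
    have e1 : ((MulAut.conj a).toEquiv.trans (Equiv.mulLeft u⁻¹)) g = u⁻¹ * a * g * a⁻¹ := by
      show u⁻¹ * (a * g * a⁻¹) = _
      group
    rw [e1, mul_comm]
    congr 1
    refine classFunction_eq_of_isConj hχ (isConj_iff.mpr ⟨a, ?_⟩)
    group
  simp only [h2, Finset.sum_const, nsmul_eq_mul] at h1
  exact (mul_eq_zero.mp h1).resolve_left (by simp)

/-- Only the Brauer image of an idempotent matters for the twisted trace. -/
theorem trL_el_eq_of_congr {χ : G → ℂ} (hχ : IsClassFunction G χ) {u : G}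
    (hu : ∃ k, orderOf u = p ^ k) {P Q : Loc hM G} (hPf : Fixed (Subgroup.zpowers u) P)
    (hPP : P * P = P) (hQf : Fixed (Subgroup.zpowers u) Q) (hQQ : Q * Q = Q)
    (h : br (Subgroup.zpowers u) (rd hM P) = br (Subgroup.zpowers u) (rd hM Q)) :
    trL hM χ (el hM u * P) = trL hM χ (el hM u * Q) := by
  classical
  have := res_charP hM
  have := Fintype.ofFinite G
  set U := Subgroup.zpowers u with hU
  have hUp : IsPGroup p U := by
    obtain ⟨k, hk⟩ := hu
    exact IsPGroup.of_card (n := k) (by rw [hU, Nat.card_zpowers, hk])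
  set e := br U (rd hM Q) with he
  have hee : e * e = e := by
    rw [he, ← br_mul (p := p) hUp (fixed_rd hM hQf) (fixed_rd hM hQf), ← map_mul, hQQ]
  have hwf : Fixed U (Q * P * Q) := (hQf.mul hPf).mul hQf
  obtain ⟨y, m, hy, hcom, hc, hππ, hn⟩ := exists_corner_spectral hwf (InCorner.sandwich hQQ P)
  set w := Q * P * Q with hw
  have hbw : br U (rd hM w) = e := by
    rw [hw, map_mul, map_mul, br_mul (p := p) hUp ((fixed_rd hM hQf).mul (fixed_rd hM hPf))
      (fixed_rd hM hQf), br_mul (p := p) hUp (fixed_rd hM hQf) (fixed_rd hM hPf), h, hee, hee]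
  set π := w * y with hπ
  have hπf : Fixed U π := hwf.mul hy
  have hbπ : br U (rd hM π) = e := by
    have hpow : ∀ n : ℕ, e ^ (n + 1) = e := fun n => by
      induction n with
      | zero => rw [pow_one]
      | succ n ih => rw [pow_succ, ih, hee]
    have h3 := congrArg (br U) hn
    rw [br_zero, br_mul (p := p) hUp (fun v hv => by rw [map_pow, fixed_rd hM hwf v hv])
        (fixed_sub Fixed.one (fixed_rd hM hπf)), br_pow (p := p) hUp (fixed_rd hM hwf), hbw, hpow,
      br_sub, br_one, mul_sub, mul_one, sub_eq_zero] at h3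
    rw [h3, hπ, map_mul, br_mul (p := p) hUp (fixed_rd hM hwf) (fixed_rd hM hy), hbw, ← mul_assoc, hee]
  -- the isomorphic idempotent below `P`
  set a := π * P with ha
  set b := P * Q * y * π with hb
  have hab : a * b = π := by
    have h1 : π * P * Q = π * w := by
      conv_lhs => rw [← hc.2]
      rw [hw]; simp only [mul_assoc]
    calc a * b = π * (P * P) * Q * y * π := by rw [ha, hb]; simp only [mul_assoc]
      _ = π * π * π := by rw [hPP, h1, mul_assoc π w y, ← hπ]
      _ = π := by rw [hππ, hππ]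
  set P' := b * a with hP'
  have hbf : Fixed U b := ((hPf.mul hQf).mul hy).mul hπf
  have haf : Fixed U a := hπf.mul hPf
  have hP'f : Fixed U P' := hbf.mul haf
  have hbπ' : b * π = b := by rw [hb, mul_assoc _ π π, hππ]
  have hP'P' : P' * P' = P' := by
    calc P' * P' = b * (a * b) * a := by rw [hP']; simp only [mul_assoc]
      _ = P' := by rw [hab, hbπ', hP']
  have hP'P : InCorner P P' := by
    refine ⟨?_, ?_⟩
    · rw [hP', hb]; simp only [← mul_assoc, hPP]
    · rw [hP', ha]; simp only [mul_assoc, hPP]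
  have hbP' : br U (rd hM P') = e := by
    have e1 : br U (rd hM y) * e = e := by
      have hcy : Commute (br U (rd hM w)) (br U (rd hM y)) := by
        show _ * _ = _ * _
        rw [← br_mul (p := p) hUp (fixed_rd hM hwf) (fixed_rd hM hy),
          ← br_mul (p := p) hUp (fixed_rd hM hy) (fixed_rd hM hwf), ← map_mul, ← map_mul, hcom.eq]
      rw [hbw] at hcy
      rw [← hcy.eq]
      conv_lhs => rw [← hbw]
      rw [← br_mul (p := p) hUp (fixed_rd hM hwf) (fixed_rd hM hy), ← map_mul, ← hπ, hbπ]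
    have hba : br U (rd hM b) = e := by
      rw [hb, map_mul, map_mul, map_mul,
        br_mul (p := p) hUp (((fixed_rd hM hPf).mul (fixed_rd hM hQf)).mul (fixed_rd hM hy))
          (fixed_rd hM hπf),
        br_mul (p := p) hUp ((fixed_rd hM hPf).mul (fixed_rd hM hQf)) (fixed_rd hM hy),
        br_mul (p := p) hUp (fixed_rd hM hPf) (fixed_rd hM hQf), h, hbπ, hee, mul_assoc, e1,
        hee]
    rw [hP', map_mul, br_mul (p := p) hUp (fixed_rd hM hbf) (fixed_rd hM haf), hba, ha, map_mul,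
      br_mul (p := p) hUp (fixed_rd hM hπf) (fixed_rd hM hPf), hbπ, h, hee, hee]
  have hrest : ∀ {X X' : Loc hM G}, Fixed U X → Fixed U X' → X * X = X → X' * X' = X' →
      InCorner X X' → br U (rd hM X') = br U (rd hM X) →
      trL hM χ (el hM u * X) = trL hM χ (el hM u * X') := by
    intro X X' hX hX' hXX hX'X' hXc hbX
    have hd : (X - X') * (X - X') = X - X' := by
      rw [mul_sub, sub_mul, sub_mul, hXX, hX'X', hXc.1, hXc.2, sub_self, sub_zero]
    have h0 := trL_el_eq_zero hM hχ hu (fixed_sub hX hX') hd (by rw [map_sub, br_sub, hbX, sub_self])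
    rw [← sub_add_cancel X X', mul_add]
    show tr χ (inc hM (el hM u * (X - X') + el hM u * X')) = _
    rw [map_add, tr_add]
    exact (congrArg (· + _) h0).trans (zero_add _)
  rw [hrest hPf hP'f hPP hP'P' hP'P (by rw [hbP', h, he]),
    hrest hQf hπf hQQ hππ hc (by rw [hbπ, he]), hP', ← hab, ← mul_assoc (el hM u) a,
    ← mul_assoc (el hM u) b, (el_commute hM hbf).eq, mul_assoc, trL_mul_comm hM hχ, mul_assoc]

/-- `f` is a piece of `ε` at `u` for the central idempotent `e` of the residue algebra of `C(u)`. -/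
def IsPiece (u : G) (e : MonoidAlgebra (Res M) G) (ε f : Loc hM G) : Prop :=
  Fixed (Subgroup.zpowers u) f ∧ f * f = f ∧
    br (Subgroup.zpowers u) (rd hM f) = br (Subgroup.zpowers u) (rd hM ε) * e

open scoped Classical in
/-- The twisted trace of a piece. -/
noncomputable def psi (χ : G → ℂ) (u : G) (e : MonoidAlgebra (Res M) G) (ε : Loc hM G) : ℂ :=
  if h : ∃ f, IsPiece hM u e ε f then trL hM χ (el hM u * h.choose) else 0

theorem psi_eq {χ : G → ℂ} (hχ : IsClassFunction G χ) {u : G} (hu : ∃ k, orderOf u = p ^ k)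
    {e : MonoidAlgebra (Res M) G} {ε f : Loc hM G} (hf : IsPiece hM u e ε f) :
    psi hM χ u e ε = trL hM χ (el hM u * f) := by
  unfold psi
  rw [dif_pos ⟨f, hf⟩]
  exact trL_el_eq_of_congr hM hχ hu (Exists.choose_spec ⟨f, hf⟩).1 (Exists.choose_spec ⟨f, hf⟩).2.1
    hf.1 hf.2.1 ((Exists.choose_spec ⟨f, hf⟩).2.2.trans hf.2.2.symm)

theorem psi_zero {χ : G → ℂ} (hχ : IsClassFunction G χ) {u : G} (hu : ∃ k, orderOf u = p ^ k)
    {e : MonoidAlgebra (Res M) G} {ε : Loc hM G}
    (h : br (Subgroup.zpowers u) (rd hM ε) * e = 0) : psi hM χ u e ε = 0 := by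
  rw [psi_eq hM hχ hu (f := 0) ⟨fixed_zero, mul_zero _, by rw [map_zero, br_zero, h]⟩, mul_zero, trL,
    map_zero, tr_zero]

theorem exists_piece {u : G} (hu : ∃ k, orderOf u = p ^ k) {e : MonoidAlgebra (Res M) G}
    (he : IsCentralIn (Subgroup.centralizer (Subgroup.zpowers u : Set G)) e) (hee : e * e = e)
    {ε : Loc hM G} (hε : Fixed (Subgroup.zpowers u) ε) (hεε : ε * ε = ε) :
    ∃ f, IsPiece hM u e ε f ∧ InCorner ε f := by
  have := res_charP hM
  have := Fintype.ofFinite G
  set U := Subgroup.zpowers u with hU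
  have hUp : IsPGroup p U := by
    obtain ⟨k, hk⟩ := hu
    exact IsPGroup.of_card (n := k) (by rw [hU, Nat.card_zpowers, hk])
  have hUC : U ≤ Subgroup.centralizer (U : Set G) := by
    intro x hx
    rw [Subgroup.mem_centralizer_iff]
    intro w hw
    obtain ⟨i, rfl⟩ := Subgroup.mem_zpowers_iff.1 hx
    obtain ⟨i', rfl⟩ := Subgroup.mem_zpowers_iff.1 hw
    exact ((Commute.refl u).zpow_zpow i' i).eq
  set bε := br U (rd hM ε) with hbε
  have hcom : Commute e bε := he.2.commute (suppIn_br U _)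
  have hbb : bε * bε = bε := by
    rw [hbε, ← br_mul (p := p) hUp (fixed_rd hM hε) (fixed_rd hM hε), ← map_mul, hεε]
  have hf : Fixed U (bε * e) :=
    (Fixed.br (fixed_rd hM hε) Subgroup.le_normalizer).mul (he.2.mono hUC)
  obtain ⟨f, h1, h2, h3, h4⟩ := exists_lift_br hUp hε hεε hf ((suppIn_br U _).mul he.1)
    (by rw [← mul_assoc, mul_assoc bε e bε, hcom.eq, ← mul_assoc, hbb, mul_assoc, hee])
    (by rw [← hbε, ← mul_assoc, hbb]) (by rw [← hbε, mul_assoc, hcom.eq, ← mul_assoc, hbb])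
  exact ⟨f, ⟨h1, h2, h4⟩, h3⟩

theorem psi_sum {χ : G → ℂ} (hχ : IsClassFunction G χ) {u : G} (hu : ∃ k, orderOf u = p ^ k)
    {e : MonoidAlgebra (Res M) G}
    (he : IsCentralIn (Subgroup.centralizer (Subgroup.zpowers u : Set G)) e) (hee : e * e = e)
    (s : Finset (Loc hM G)) (hs : ∀ j ∈ s, Fixed (Subgroup.zpowers u) j ∧ j * j = j)
    (ho : ∀ j ∈ s, ∀ k ∈ s, j ≠ k → j * k = 0) :
    psi hM χ u e (∑ j ∈ s, j) = ∑ j ∈ s, psi hM χ u e j := by
  classical
  choose f hf hfc using fun (j : s) => exists_piece hM hu he hee (hs j.1 j.2).1 (hs j.1 j.2).2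
  have hsum : IsPiece hM u e (∑ j ∈ s, j) (∑ j : s, f j) := by
    refine ⟨Fixed.sum _ fun j _ => (hf j).1, ?_, ?_⟩
    · rw [Finset.sum_mul]
      refine Finset.sum_congr rfl fun j _ => ?_
      rw [Finset.mul_sum, Finset.sum_eq_single j, (hf j).2.1]
      · intro k _ hkj
        rw [← (hfc j).2, ← (hfc k).1, mul_assoc, ← mul_assoc (j : Loc hM G),
          ho j.1 j.2 k.1 k.2 (fun h => hkj (Subtype.ext h.symm)), zero_mul, mul_zero]
      · simp
    · rw [map_sum, br_sum, map_sum, br_sum, Finset.sum_mul,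
        ← Finset.sum_coe_sort s (fun j => br (Subgroup.zpowers u) (rd hM j) * e)]
      exact Finset.sum_congr rfl fun j _ => (hf j).2.2
  rw [psi_eq hM hχ hu hsum, Finset.mul_sum, trL, map_sum, tr_sum,
    ← Finset.sum_coe_sort s (fun j => psi hM χ u e j)]
  exact Finset.sum_congr rfl fun j _ => (psi_eq hM hχ hu (hf j)).symm

theorem psi_assoc {χ : G → ℂ} (hχ : IsClassFunction G χ) {u : G} (hu : ∃ k, orderOf u = p ^ k)
    {e : MonoidAlgebra (Res M) G}
    (he : IsCentralIn (Subgroup.centralizer (Subgroup.zpowers u : Set G)) e) (hee : e * e = e)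
    {j k a b : Loc hM G} (hj : Fixed (Subgroup.zpowers u) j) (hjj : j * j = j)
    (hk : Fixed (Subgroup.zpowers u) k)
    (ha : Fixed (Subgroup.zpowers u) a) (hb : Fixed (Subgroup.zpowers u) b)
    (ha1 : j * a = a) (hb2 : b * j = b) (hab : a * b = j) (hba : b * a = k) :
    psi hM χ u e j = psi hM χ u e k := by
  have := res_charP hM
  have := Fintype.ofFinite G
  obtain ⟨f, ⟨hf1, hf2, hf3⟩, hfc⟩ := exists_piece hM hu he hee hj hjj
  have hUp : IsPGroup p (Subgroup.zpowers u) := by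
    obtain ⟨n, hn⟩ := hu
    exact IsPGroup.of_card (n := n) (by rw [Nat.card_zpowers, hn])
  have hg : IsPiece hM u e k (b * f * a) := by
    refine ⟨(hb.mul hf1).mul ha, ?_, ?_⟩
    · calc b * f * a * (b * f * a) = b * f * (a * b) * f * a := by simp only [mul_assoc]
        _ = b * f * a := by rw [hab, mul_assoc b f j, hfc.2, mul_assoc b f f, hf2]
    · rw [map_mul, map_mul, br_mul (p := p) hUp ((fixed_rd hM hb).mul (fixed_rd hM hf1))
          (fixed_rd hM ha), br_mul (p := p) hUp (fixed_rd hM hb) (fixed_rd hM hf1), hf3]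
      set A := br (Subgroup.zpowers u) (rd hM a)
      have hcom : e * A = A * e := he.2.commute (suppIn_br _ _)
      rw [← mul_assoc, mul_assoc (br (Subgroup.zpowers u) (rd hM b) * _) e A, hcom, ← mul_assoc,
        ← br_mul (p := p) hUp (fixed_rd hM hb) (fixed_rd hM hj), ← map_mul, hb2,
        ← br_mul (p := p) hUp (fixed_rd hM hb) (fixed_rd hM ha), ← map_mul, hba]
  rw [psi_eq hM hχ hu ⟨hf1, hf2, hf3⟩, psi_eq hM hχ hu hg, trL_mul_comm hM hχ (el hM u) (b * f * a)]
  have h1 : b * f * a * el hM u = (b * f) * (el hM u * a) := by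
    rw [mul_assoc, (el_commute hM ha).eq]
  rw [h1, trL_mul_comm hM hχ (b * f)]
  congr 1
  calc el hM u * f = el hM u * (j * f) := by rw [hfc.1]
    _ = el hM u * a * (b * f) := by rw [← hab]; simp only [mul_assoc]

theorem trL_cj {χ : G → ℂ} (hχ : IsClassFunction G χ) (g : G) (a : Loc hM G) :
    trL hM χ (cj g a) = trL hM χ a := by
  have := Fintype.ofFinite G
  simp only [trL, tr_def, coeff_inc, coeff_cj]
  refine Fintype.sum_equiv (MulAut.conj g⁻¹).toEquiv _ _ fun x => ?_
  have e1 : (MulAut.conj g⁻¹).toEquiv x = g⁻¹ * x * g := by simp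
  rw [e1]
  congr 1
  exact classFunction_eq_of_isConj hχ (isConj_iff.mpr ⟨g⁻¹, by group⟩)

theorem psi_cj {χ : G → ℂ} (hχ : IsClassFunction G χ) {u : G} (hu : ∃ k, orderOf u = p ^ k)
    {e : MonoidAlgebra (Res M) G}
    (he : IsCentralIn (Subgroup.centralizer (Subgroup.zpowers u : Set G)) e) (hee : e * e = e)
    {ε : Loc hM G} (hε : Fixed (Subgroup.zpowers u) ε) (hεε : ε * ε = ε) (g : G) :
    psi hM χ (g * u * g⁻¹) (cj g e) (cj g ε) = psi hM χ u e ε := by
  obtain ⟨f, hf, -⟩ := exists_piece hM hu he hee hε hεε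
  have hz : conjSub g (Subgroup.zpowers u) = Subgroup.zpowers (g * u * g⁻¹) :=
    MonoidHom.map_zpowers _ u
  have hu' : ∃ k, orderOf (g * u * g⁻¹) = p ^ k := by
    obtain ⟨k, hk⟩ := hu
    exact ⟨k, by rw [← hk]; exact (MulAut.conj g).orderOf_eq u⟩
  have hf' : IsPiece hM (g * u * g⁻¹) (cj g e) (cj g ε) (cj g f) := by
    refine ⟨fixed_conj hf.1 fun v hv => ?_, by rw [← map_mul, hf.2.1], ?_⟩
    · rw [← hz, mem_conjSub] at hv
      exact hv
    · rw [← hz, rd_cj, ← cj_br, rd_cj, ← cj_br, ← map_mul, hf.2.2]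
  rw [psi_eq hM hχ hu' hf', psi_eq hM hχ hu hf, ← el_cj, ← map_mul, trL_cj hM hχ]

end Cfsg.Agent.Star
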