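import Cfsg.Agent.Lib.Star.Action
import Cfsg.Agent.Lib.Blocks.HeightZeroValues
import Cfsg.Agent.Lib.CharApp.FongReynolds
import Cfsg.Agent.Lib.BrauerPairs.LocalDefect

/-!
# Non-vanishing of pieces, and counting characters of a given height

* `exists_piece_ne_zero_of_height_zero`: for a character of height zero every piece is non-zero;
* `exists_piece_ne_zero_of_major`: at a major subsection every piece is non-zero;
* `dvd_card_height`: the divisibility of the number of characters of each height.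
-/

set_option autoImplicit false
set_option synthInstance.maxHeartbeats 200000
set_option maxHeartbeats 1000000

open scoped ComplexConjugate

namespace Cfsg.Agent.Star

open Cfsg Cfsg.Agent.Blocks Cfsg.Agent.BrauerPairs Cfsg.Agent.SecondMain

variable {G : Type*} [Group G] [Finite G] {p : ℕ} [Fact p.Prime] {M : Ideal AlgInt}
  (hM : IsPModular p M) {B : Set (IrrCharacter G)}

/-- The sum of `θ * conj η` over the `p'`-elements of `C(u)`. -/
noncomputable def secSum (p : ℕ) (u : G) (χ : G → ℂ)
    (η : Subgroup.centralizer (Subgroup.zpowers u : Set G) → ℂ) : ℂ :=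
  ∑ᶠ s : Subgroup.centralizer (Subgroup.zpowers u : Set G),
    pRegularPart p (fun c : Subgroup.centralizer (Subgroup.zpowers u : Set G) =>
      χ (u * (c : G)) * conj (η c)) s

omit [Fact p.Prime] in
open scoped Classical in
theorem secSum_def {u : G} [Fintype (Subgroup.centralizer (Subgroup.zpowers u : Set G))] (χ : G → ℂ)
    (η : Subgroup.centralizer (Subgroup.zpowers u : Set G) → ℂ) :
    secSum p u χ η = ∑ s ∈ (Finset.univ :
        Finset (Subgroup.centralizer (Subgroup.zpowers u : Set G))).filter (fun s => ¬ p ∣ orderOf s),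
      χ (u * (s : G)) * conj (η s) := by
  rw [secSum, finsum_eq_sum_of_fintype, Finset.sum_filter]
  refine Finset.sum_congr rfl fun s _ => ?_
  by_cases h : p ∣ orderOf s
  · rw [pRegularPart_of_singular h, if_neg (not_not_intro h)]
  · rw [pRegularPart_of_regular h, if_pos h]

include hM in
/-- If the piece vanishes, so does the section sum against the block. -/
theorem secSum_eq_zero_of_piece {u : G} {χ : G → ℂ} (hχ : IsClassFunction G χ)
    {b : Set (IrrCharacter (Subgroup.centralizer (Subgroup.zpowers u : Set G)))} (hb : IsPBlock M b)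
    {η : IrrCharacter (Subgroup.centralizer (Subgroup.zpowers u : Set G))} (hη : η ∈ b)
    (h0 : ∀ s ∈ regSet p u, piece ⟨Subgroup.zpowers u, b⟩ χ (u * s) = 0) :
    secSum p u χ (η : Subgroup.centralizer (Subgroup.zpowers u : Set G) → ℂ) = 0 := by
  classical
  have := Fintype.ofFinite (Subgroup.centralizer (Subgroup.zpowers u : Set G))
  have := Fintype.ofFinite (IrrCharacter (Subgroup.centralizer (Subgroup.zpowers u : Set G)))
  set θ := fun c : Subgroup.centralizer (Subgroup.zpowers u : Set G) => χ (u * (c : G)) with hθdef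
  have hθ : IsClassFunction _ θ :=
    isClassFunction_shift (fun h hh => mem_centralizer_zpowers_iff.1 hh) hχ
  rw [secSum_def]
  set F := (Finset.univ : Finset (Subgroup.centralizer (Subgroup.zpowers u : Set G))).filter
    (fun s => ¬ p ∣ orderOf s) with hF
  have horth : ∀ ζ, ζ ∉ b → ∑ s ∈ F, (ζ : Subgroup.centralizer (Subgroup.zpowers u : Set G) → ℂ) s *
      conj ((η : Subgroup.centralizer (Subgroup.zpowers u : Set G) → ℂ) s) = 0 := by
    intro ζ hζ
    have h := regInner_eq_zero hM hb hη hζ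
    have h2 := congrArg conj h
    rw [conj_regInner, map_zero, regInner_eq_sum] at h2
    exact (mul_eq_zero.1 h2).resolve_left (inv_ne_zero card_ne_zero_C)
  have h1 : ∑ s ∈ F, θ s * conj ((η : Subgroup.centralizer (Subgroup.zpowers u : Set G) → ℂ) s) =
      ∑ s ∈ F, blockPart b θ s * conj ((η : Subgroup.centralizer (Subgroup.zpowers u : Set G) → ℂ) s) := by
    conv_lhs => rw [Char.classFunction_eq_sum hθ]
    simp only [blockPart_apply, finsum_mem_eq_toFinset_sum, Finset.sum_apply, Pi.smul_apply,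
      smul_eq_mul, Finset.sum_mul]
    rw [Finset.sum_comm]
    conv_rhs => rw [Finset.sum_comm]
    refine (Finset.sum_subset (Finset.subset_univ _) fun ζ _ hζ => ?_).symm
    simp only [mul_assoc, ← Finset.mul_sum]
    rw [horth ζ fun h => hζ (Set.mem_toFinset.2 h), mul_zero]
  rw [h1]
  refine Finset.sum_eq_zero fun s hs => ?_
  rw [← piece_eq_blockPart b hχ s, h0 (s : G) (mem_regSet.2 ⟨mem_centralizer_zpowers_iff.1 s.2,
    by rw [Subgroup.orderOf_coe]; exact (Finset.mem_filter.1 hs).2⟩), zero_mul]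

omit [Fact p.Prime] in
/-- The class function of `C(u)` whose central character at `η` gives the section sum. -/
noncomputable def secFun (p : ℕ) (u : G) (χ : G → ℂ) :
    Subgroup.centralizer (Subgroup.zpowers u : Set G) → ℂ :=
  pRegularPart p fun c : Subgroup.centralizer (Subgroup.zpowers u : Set G) => χ (u * (c : G)⁻¹)

include hM in
/-- At a character of height zero the normalised section sums are units. -/
theorem not_memI_omega_secFun {u : G} (hu : ∃ k, orderOf u = p ^ k)
    {b : Set (IrrCharacter (Subgroup.centralizer (Subgroup.zpowers u : Set G)))}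
    (hb : IsInducedBlock M (Subgroup.centralizer (Subgroup.zpowers u : Set G)) b B)
    {χ : IrrCharacter G} (hχ : χ ∈ B) (h0 : blockHeight p B (χ : G → ℂ) = 0)
    {η : IrrCharacter (Subgroup.centralizer (Subgroup.zpowers u : Set G))} (hη : η ∈ b) :
    ¬ MemLocalIdeal M (omega (η : Subgroup.centralizer (Subgroup.zpowers u : Set G) → ℂ)
        (secFun p u (χ : G → ℂ))) := by
  classical
  have := Fintype.ofFinite (Subgroup.centralizer (Subgroup.zpowers u : Set G))
  intro hI
  set z0 : Subgroup.centralizer (Subgroup.zpowers u : Set G) → ℂ :=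
    fun c => Blocks.regConj p (χ : G → ℂ) (c : G) with hz0
  have hz0c : IsClassFunction _ z0 := fun a c => by
    simpa [hz0] using Blocks.isClassFunction_regConj (irr_class χ) (a : G) (c : G)
  have hzc : IsClassFunction _ (secFun p u (χ : G → ℂ)) := by
    refine BrauerPairs.isClassFunction_pRegularPart fun a c => ?_
    show (χ : G → ℂ) (u * ((c * a * c⁻¹ : Subgroup.centralizer _) : G)⁻¹) = (χ : G → ℂ) (u * (a : G)⁻¹)
    have h := isClassFunction_shift (fun h hh => mem_centralizer_zpowers_iff.1 hh)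
      (H := Subgroup.centralizer (Subgroup.zpowers u : Set G)) (irr_class χ) a⁻¹ c
    simpa [mul_assoc] using h
  have hdiff : ∀ c, MemLocalIdeal M ((secFun p u (χ : G → ℂ) - z0) c) := by
    intro c
    simp only [Pi.sub_apply, secFun, hz0, Blocks.regConj]
    by_cases hc : p ∣ orderOf c
    · rw [pRegularPart_of_singular hc, pRegularPart_of_singular (g := (c : G))
        (by rwa [Subgroup.orderOf_coe]), map_zero, sub_zero]
      exact memI_zero hM
    · rw [pRegularPart_of_regular hc, pRegularPart_of_regular (g := (c : G))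
        (by rwa [Subgroup.orderOf_coe])]
      show MemLocalIdeal M ((χ : G → ℂ) (u * (c : G)⁻¹) - conj ((χ : G → ℂ) (c : G)))
      rw [← Char.IsCharacter.apply_inv (Char.IsIrrCharacter.isCharacter χ.2)]
      exact memI_apply_mul_sub hM hu (mem_centralizer_zpowers_iff.1 c.2).inv_right
  have hdc : IsClassFunction _ (secFun p u (χ : G → ℂ) - z0) := fun a c => by
    simp only [Pi.sub_apply, hzc a c, hz0c a c]
  have h1 := memI_omega hM hdc hdiff η
  have h2 : omega (η : Subgroup.centralizer (Subgroup.zpowers u : Set G) → ℂ)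
      (secFun p u (χ : G → ℂ) - z0) = omega (η : Subgroup.centralizer _ → ℂ) (secFun p u (χ : G → ℂ)) -
        omega (η : Subgroup.centralizer _ → ℂ) z0 := by
    simp only [omega_eq_sum, Pi.sub_apply, sub_mul, Finset.sum_sub_distrib, sub_div]
  rw [h2] at h1
  have h3 := (memI_iff_of_sub hM h1).1 hI
  have h4 := omega_restrict_congr hM hb hη hχ (Blocks.isClassFunction_regConj (irr_class χ))
    (Blocks.memR_regConj hM χ)
  exact not_memI_omega_regConj hM hb.2.1 hχ h0 hχ ((memI_iff_of_sub hM h4).1 h3)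

theorem omega_secFun {u : G} (χ : G → ℂ)
    (η : IrrCharacter (Subgroup.centralizer (Subgroup.zpowers u : Set G))) :
    omega (η : Subgroup.centralizer (Subgroup.zpowers u : Set G) → ℂ) (secFun p u χ) =
      secSum p u χ (η : Subgroup.centralizer (Subgroup.zpowers u : Set G) → ℂ) /
        (η : Subgroup.centralizer (Subgroup.zpowers u : Set G) → ℂ) 1 := by
  have := Fintype.ofFinite (Subgroup.centralizer (Subgroup.zpowers u : Set G))
  rw [omega_eq_sum, secSum, finsum_eq_sum_of_fintype]
  congr 1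
  refine Fintype.sum_equiv (Equiv.inv _) _ _ fun c => ?_
  show _ = pRegularPart p _ c⁻¹
  by_cases hc : p ∣ orderOf c
  · rw [secFun, pRegularPart_of_singular hc, zero_mul,
      pRegularPart_of_singular (g := c⁻¹) (by rwa [orderOf_inv])]
  · rw [secFun, pRegularPart_of_regular hc, pRegularPart_of_regular (g := c⁻¹) (by rwa [orderOf_inv]),
      Char.IsCharacter.apply_inv (Char.IsIrrCharacter.isCharacter η.2), Complex.conj_conj]
    simp

include hM in
/-- For a character of height zero every piece is non-zero. -/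
theorem exists_piece_ne_zero_of_height_zero {u : G} (hu : ∃ k, orderOf u = p ^ k)
    {a : BrauerPairIdx G} (ha : a ∈ pairsAt M u) (haB : IsBrauerPairOf p M B a.1 a.2)
    {χ : IrrCharacter G} (hχ : χ ∈ B) (h0 : blockHeight p B (χ : G → ℂ) = 0) :
    ∃ s ∈ regSet p u, piece a (χ : G → ℂ) (u * s) ≠ 0 := by
  obtain ⟨h1, h2⟩ := mem_pairsAt.1 ha
  obtain ⟨V, b⟩ := a
  obtain rfl : V = Subgroup.zpowers u := h1
  by_contra hno
  push Not at hno
  obtain ⟨η, hη⟩ := isPBlock_nonempty hM h2
  refine not_memI_omega_secFun hM hu (induced_of_brauerPair hM hu haB) hχ h0 hη ?_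
  rw [omega_secFun, secSum_eq_zero_of_piece hM (irr_class χ) h2 hη hno, zero_div]
  exact memI_zero hM

open scoped Classical in
/-- A class function on `C(u)` concentrated on the section of `u`. -/
noncomputable def secLift (p : ℕ) (u : G)
    (η : Subgroup.centralizer (Subgroup.zpowers u : Set G) → ℂ)
    (c : Subgroup.centralizer (Subgroup.zpowers u : Set G)) : ℂ :=
  if (c : G) ^ ppExp p G = u then
    conj (η (⟨u⁻¹ * (c : G), Subgroup.mul_mem _ (Subgroup.inv_mem _
      (mem_centralizer_zpowers_iff.2 (Commute.refl u))) c.2⟩)) else 0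

include hM in
/-- At a subsection of full defect every piece is non-zero. -/
theorem exists_piece_ne_zero_of_defect {u : G} (hu : ∃ k, orderOf u = p ^ k)
    {a : BrauerPairIdx G} (ha : a ∈ pairsAt M u) (haB : IsBrauerPairOf p M B a.1 a.2)
    (hd : blockDefect p a.2 = blockDefect p B)
    {χ : IrrCharacter G} (hχ : χ ∈ B) :
    ∃ s ∈ regSet p u, piece a (χ : G → ℂ) (u * s) ≠ 0 := by
  classical
  obtain ⟨h1, hb⟩ := mem_pairsAt.1 ha
  obtain ⟨V, b⟩ := a
  obtain rfl : V = Subgroup.zpowers u := h1
  by_contra hno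
  push Not at hno
  have hind := induced_of_brauerPair hM hu haB
  have hB : IsPBlock M B := hind.2.1
  obtain ⟨η, hη, hη0⟩ := exists_height_zero hM hb (p := p)
  obtain ⟨ψ, hψ, hψ0⟩ := exists_height_zero hM hB (p := p)
  have := Fintype.ofFinite G
  have := Fintype.ofFinite (Subgroup.centralizer (Subgroup.zpowers u : Set G))
  set ζ := secLift p u (η : Subgroup.centralizer (Subgroup.zpowers u : Set G) → ℂ) with hζdef
  have huC : u ∈ Subgroup.centralizer (Subgroup.zpowers u : Set G) :=
    mem_centralizer_zpowers_iff.2 (Commute.refl u)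
  have hζ : IsClassFunction _ ζ := by
    intro c d
    have hdu : Commute u (d : G) := mem_centralizer_zpowers_iff.1 d.2
    have hpow : ((d * c * d⁻¹ : Subgroup.centralizer _) : G) ^ ppExp p G =
        (d : G) * (c : G) ^ ppExp p G * (d : G)⁻¹ := by
      simp [conj_pow]
    simp only [hζdef, secLift, hpow]
    have hiff : (d : G) * (c : G) ^ ppExp p G * (d : G)⁻¹ = u ↔ (c : G) ^ ppExp p G = u := by
      rw [mul_inv_eq_iff_eq_mul, hdu.eq]
      exact mul_right_inj _
    by_cases h : (c : G) ^ ppExp p G = u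
    · rw [if_pos (hiff.2 h), if_pos h]
      congr 1
      have e := irr_class η (⟨u⁻¹ * (c : G), Subgroup.mul_mem _ (Subgroup.inv_mem _ huC) c.2⟩) d
      refine Eq.trans ?_ e
      refine congrArg η.1 (Subtype.ext ?_)
      simp only [Subgroup.coe_mul, Subgroup.coe_inv]
      rw [← mul_assoc (d : G) u⁻¹, ← hdu.inv_left.eq]
      simp only [mul_assoc]
    · rw [if_neg fun h' => h (hiff.1 h'), if_neg h]
  have hζR : ∀ c, MemLocalRing M (ζ c) := fun c => by
    simp only [hζdef, secLift]
    split_ifs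
    · exact memR_of_isIntegral hM
        ((isIntegral_irr η _).map ((starRingEnd ℂ).toIntAlgHom : ℂ →ₐ[ℤ] ℂ))
    · exact memR_zero hM
  -- the sum over `C(u)`
  have hsum : ∀ φ : G → ℂ, ∑ c, ζ c * φ (c : G) =
      secSum p u φ (η : Subgroup.centralizer (Subgroup.zpowers u : Set G) → ℂ) := by
    intro φ
    rw [secSum_def]
    have hne : ∀ c, ζ c ≠ 0 → (c : G) ^ ppExp p G = u := fun c hc => by
      by_contra h
      exact hc (by simp only [hζdef, secLift, if_neg h])
    rw [← Finset.sum_filter_of_ne (p := fun c => ((c : Subgroup.centralizer _) : G) ^ ppExp p G = u)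
      fun c _ hc => hne c (left_ne_zero_of_mul hc)]
    symm
    refine Finset.sum_nbij (fun s => (⟨u, huC⟩ : Subgroup.centralizer _) * s) (fun s hs => ?_)
      (mul_right_injective _).injOn (fun c hc => ?_) fun s hs => ?_
    · refine Finset.mem_filter.2 ⟨Finset.mem_univ _, ?_⟩
      rw [Subgroup.coe_mul]
      exact pow_ppExp hu (by rw [Subgroup.orderOf_coe]; exact (Finset.mem_filter.1 hs).2)
        (mem_centralizer_zpowers_iff.1 s.2)
    · obtain ⟨v, s, hcv, hv, hs, hvs, he⟩ := exists_parts (p := p) (c : G)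
      have : v = u := he.symm.trans (Finset.mem_filter.1 hc).2
      subst this
      refine ⟨⟨s, mem_centralizer_zpowers_iff.2 hvs⟩, ?_, Subtype.ext hcv.symm⟩
      refine Finset.mem_filter.2 ⟨Finset.mem_univ _, ?_⟩
      rw [← Subgroup.orderOf_coe]
      exact hs
    · have hp1 : (u * (s : G)) ^ ppExp p G = u :=
        pow_ppExp hu (by rw [Subgroup.orderOf_coe]; exact (Finset.mem_filter.1 hs).2)
          (mem_centralizer_zpowers_iff.1 s.2)
      simp only [hζdef, secLift, Subgroup.coe_mul, if_pos hp1, inv_mul_cancel_left]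
      exact mul_comm _ _
  set Z := Cfsg.indFun (Subgroup.centralizer (Subgroup.zpowers u : Set G)) ζ with hZdef
  have hZ : IsClassFunction G Z := Char.indFun_isClassFunction _ _
  have hZR : ∀ g, MemLocalRing M (Z g) := FongReynolds.memR_indFun hM _ hζ hζR
  have homega : ∀ φ : IrrCharacter G, omega (φ : G → ℂ) Z =
      (Nat.card G : ℂ) / ((Nat.card (Subgroup.centralizer (Subgroup.zpowers u : Set G)) : ℂ) *
        (φ : G → ℂ) 1) *
        secSum p u (φ : G → ℂ) (η : Subgroup.centralizer (Subgroup.zpowers u : Set G) → ℂ) := by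
    intro φ
    have hfr := Char.frobenius_reciprocity (Subgroup.centralizer (Subgroup.zpowers u : Set G)) ζ
      (χ := fun g => conj ((φ : G → ℂ) g)) (fun g h => congrArg conj (irr_class φ g h))
    simp only [classInner, Complex.conj_conj] at hfr
    rw [hsum (φ : G → ℂ), ← hZdef] at hfr
    rw [omega_eq_sum]
    have hG : (Nat.card G : ℂ) ≠ 0 := card_ne_zero_C
    have hH : (Nat.card (Subgroup.centralizer (Subgroup.zpowers u : Set G)) : ℂ) ≠ 0 := card_ne_zero_C
    have h1 := irr_one_ne_zero φ
    field_simp at hfr ⊢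
    linear_combination hfr
  have hχ0 : omega (χ : G → ℂ) Z = 0 := by
    rw [homega, secSum_eq_zero_of_piece hM (irr_class χ) hb hη hno, mul_zero]
  have hψI : MemLocalIdeal M (omega (ψ : G → ℂ) Z) := by
    have h := intRing_congr hM (omega_mem_intRing hM hZ hZR) (sameBlock_of_mem hM hB hψ hχ)
    simpa [omegaFun, hχ0] using h
  -- but this value is a unit
  have hS : secSum p u (ψ : G → ℂ) (η : Subgroup.centralizer (Subgroup.zpowers u : Set G) → ℂ) =
      omega (η : Subgroup.centralizer (Subgroup.zpowers u : Set G) → ℂ) (secFun p u (ψ : G → ℂ)) *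
        (η : Subgroup.centralizer (Subgroup.zpowers u : Set G) → ℂ) 1 := by
    rw [omega_secFun, div_mul_cancel₀ _ (irr_one_ne_zero η)]
  rw [homega, hS] at hψI
  obtain ⟨m, n, hm, hn, hdψ⟩ := exists_degree_eq (G := G) hM.1 hψ
  obtain ⟨m', n', hm', hn', hdη⟩ := exists_degree_eq hM.1 hη
  rw [hψ0, pow_zero, one_mul] at hdψ
  rw [hη0, pow_zero, one_mul, hd] at hdη
  set w := omega (η : Subgroup.centralizer (Subgroup.zpowers u : Set G) → ℂ) (secFun p u (ψ : G → ℂ))
  have hw : ¬ MemLocalIdeal M w := not_memI_omega_secFun hM hu hind hψ hψ0 hη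
  have hn0 : (n : ℂ) ≠ 0 := Nat.cast_ne_zero.2 fun h => hn (h ▸ dvd_zero p)
  have hm0 : (m : ℂ) ≠ 0 := Nat.cast_ne_zero.2 fun h => hm (h ▸ dvd_zero p)
  have hn0' : (n' : ℂ) ≠ 0 := Nat.cast_ne_zero.2 fun h => hn' (h ▸ dvd_zero p)
  have hp0 : ((p : ℂ) ^ blockDefect p B) ≠ 0 :=
    pow_ne_zero _ (Nat.cast_ne_zero.2 (Fact.out : p.Prime).ne_zero)
  have hG : (Nat.card G : ℂ) ≠ 0 := card_ne_zero_C
  have hH : (Nat.card (Subgroup.centralizer (Subgroup.zpowers u : Set G)) : ℂ) ≠ 0 := card_ne_zero_C
  have h1 := irr_one_ne_zero ψ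
  have hkey : (Nat.card G : ℂ) / ((Nat.card (Subgroup.centralizer (Subgroup.zpowers u : Set G)) : ℂ) *
      (ψ : G → ℂ) 1) * (w * (η : Subgroup.centralizer (Subgroup.zpowers u : Set G) → ℂ) 1) *
      ((m * n' : ℕ) : ℂ) = w * ((m' * n : ℕ) : ℂ) := by
    generalize (Nat.card (Subgroup.centralizer (Subgroup.zpowers u : Set G)) : ℂ) = c at hdη hH ⊢
    push_cast
    field_simp at hdψ hdη ⊢
    generalize (η : Subgroup.centralizer (Subgroup.zpowers u : Set G) → ℂ) 1 = y at hdη ⊢
    apply mul_left_cancel₀ hp0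
    linear_combination (w * (Nat.card G : ℂ) * (m : ℂ)) * hdη -
      (w * (m' : ℂ) * c) * hdψ
  have hI := memI_mul_right hM hψI (memR_natCast hM (m * n'))
  rw [hkey] at hI
  refine not_memI_mul hM (memR_omega hM ?_ ?_ η) (memR_natCast hM _) hw ?_ hI
  · refine BrauerPairs.isClassFunction_pRegularPart fun c d => ?_
    show (ψ : G → ℂ) (u * ((d * c * d⁻¹ : Subgroup.centralizer _) : G)⁻¹) = (ψ : G → ℂ) (u * (c : G)⁻¹)
    have h := isClassFunction_shift (fun h hh => mem_centralizer_zpowers_iff.1 hh)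
      (H := Subgroup.centralizer (Subgroup.zpowers u : Set G)) (irr_class ψ) c⁻¹ d
    simpa [mul_assoc] using h
  · intro c
    simp only [secFun, pRegularPart]
    split_ifs
    · exact memR_of_isIntegral hM (isIntegral_irr ψ _)
    · exact memR_zero hM
  · intro h
    exact (hM.1.dvd_mul.1 ((memI_natCast hM).1 h)).elim hm' hn

variable {P : Subgroup G} {e : Set (IrrCharacter (Subgroup.centralizer (P : Set G)))}
  {F : FusionSystem P}

include hM in
/-- A block of the centraliser of a central element of the maximal pair has full defect. -/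
theorem blockDefect_eq_of_major (hmax : IsMaximalBrauerPair p M B P e) {u : G}
    (hu : ∃ k, orderOf u = p ^ k) {a : BrauerPairIdx G} (ha : a ∈ pairsAt M u)
    (hle : SubpairLE p M a.1 a.2 P e) (hcen : ∀ y ∈ P, Commute u y) :
    blockDefect p a.2 = blockDefect p B := by
  obtain ⟨h1, hb⟩ := mem_pairsAt.1 ha
  obtain ⟨V, b⟩ := a
  obtain rfl : V = Subgroup.zpowers u := h1
  have hp : p.Prime := Fact.out
  have hPH : P ≤ Subgroup.centralizer (Subgroup.zpowers u : Set G) :=
    fun y hy => mem_centralizer_zpowers_iff.2 (hcen y hy)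
  have hPN : P ≤ Subgroup.normalizer (Subgroup.zpowers u : Set G) :=
    hPH.trans (centralizer_le_normalizer hM _)
  have hbr := (br_cb_ne_zero_of_le hM hmax.1.1 hle le_rfl hPN).2
  obtain ⟨D, hD, hPD⟩ := sub_exists_defectGroup_ge hM hb hPH hmax.1.1.1 hbr
  have hind := induced_of_brauerPair hM hu
    ((isBrauerPairOf_iff_of_le hM hmax.1.2.1 hle).1 hmax.1)
  obtain ⟨E, hE, hDE⟩ := exists_defectGroup_ge_of_induced hM hind hD
  have hPc : Nat.card P = p ^ blockDefect p B :=
    card_defectGroup hM hmax.1.2.1 (maximal_isDefectGroup hM hmax)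
  have h3 : Nat.card P ≤ Nat.card D := by
    rw [← Nat.card_congr (Subgroup.subgroupOfEquivOfLe hPH).toEquiv]
    exact Subgroup.card_le_of_le hPD
  have h4 : Nat.card D ≤ Nat.card E := by
    rw [Nat.card_congr (Subgroup.equivMapOfInjective D _ (Subgroup.subtype_injective _)).toEquiv]
    exact Subgroup.card_le_of_le hDE
  rw [card_defectGroup hM hb hD, hPc] at h3
  rw [card_defectGroup hM hb hD, card_defectGroup hM hmax.1.2.1 hE] at h4
  exact le_antisymm ((Nat.pow_le_pow_iff_right hp.one_lt).1 h4)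
    ((Nat.pow_le_pow_iff_right hp.one_lt).1 h3)

theorem dvd_card_of_stab {Γ Δ X : Type*} [Group Γ] [Finite Γ] [Group Δ] [MulAction Γ X] [Finite X]
    (r : Γ →* Δ) (hr : Function.Surjective r) (h : ∀ (g : Γ) (x : X), g • x = x → r g = 1) :
    Nat.card Δ ∣ Nat.card X := by
  classical
  have := Fintype.ofFinite X
  have hone : ∀ x : X, Nat.card Δ ∣ Nat.card (MulAction.orbit Γ x) := by
    intro x
    rw [Nat.card_congr (MulAction.orbitEquivQuotientStabilizer Γ x), ← Subgroup.index_eq_card]
    have hle : MulAction.stabilizer Γ x ≤ r.ker := fun g hg => h g x hg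
    refine dvd_trans ?_ (Subgroup.index_dvd_of_le hle)
    rw [Subgroup.index_ker, MonoidHom.range_eq_top.2 hr, Subgroup.card_top]
  rw [Nat.card_congr (MulAction.selfEquivSigmaOrbits Γ X), Nat.card_sigma]
  exact Finset.dvd_sum fun q _ => hone q.out

include hM in
/-- If each piece at the elements of `Z` is non-zero, the index of `foc` in `Z` divides the number
of characters of height `h`. -/
theorem dvd_card_height (hmax : IsMaximalBrauerPair p M B P e)
    (hF : IsBlockFusionSystemOn p M B P e F) (h : ℕ) (Z : Subgroup G) (hZP : Z ≤ P)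
    (hpiece : ∀ χ : IrrCharacter G, χ ∈ B → blockHeight p B (χ : G → ℂ) = h → ∀ z ∈ Z,
      ∀ a ∈ pairsAt M z, SubpairLE p M a.1 a.2 P e →
        ∃ s ∈ regSet p z, piece a (χ : G → ℂ) (z * s) ≠ 0) :
    ((Z ⊓ F.focalSubgroup).subgroupOf Z).index ∣
      Nat.card {χ : IrrCharacter G // χ ∈ B ∧ blockHeight p B (χ : G → ℂ) = h} := by
  classical
  have hP : IsPGroup p P := hmax.1.1.1
  set K := F.focalSubgroup.subgroupOf P with hK
  have hcomm : ∀ x y : P, x * y * x⁻¹ * y⁻¹ ∈ K := by
    intro x y
    rw [hK, Subgroup.mem_subgroupOf]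
    refine Subgroup.subset_closure ⟨P, conjHom P (y : G), x⁻¹, F.conj_mem le_rfl y.2, ?_⟩
    show _ = ((x⁻¹ : P) : G)⁻¹ * ((y : G) * ((x⁻¹ : P) : G) * (y : G)⁻¹)
    push_cast
    group
  have hKn : K.Normal := ⟨fun k hk g => by
    simpa using K.mul_mem (hcomm g k) hk⟩
  have hQc : ∀ a b : P ⧸ K, a * b = b * a := by
    intro a b
    induction a using QuotientGroup.induction_on with | H x =>
    induction b using QuotientGroup.induction_on with | H y =>
    rw [← QuotientGroup.mk_mul, ← QuotientGroup.mk_mul, QuotientGroup.eq]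
    simpa [mul_assoc] using hcomm y⁻¹ x⁻¹
  let _ : CommGroup (P ⧸ K) := { (inferInstance : Group (P ⧸ K)) with mul_comm := hQc }
  let Z' : Subgroup (P ⧸ K) := (Z.subgroupOf P).map (QuotientGroup.mk' K)
  haveI : NeZero (Monoid.exponent (P ⧸ K) : ℂ) :=
    ⟨Nat.cast_ne_zero.mpr Monoid.exponent_ne_zero_of_finite⟩
  haveI : NeZero (Monoid.exponent Z' : ℂ) :=
    ⟨Nat.cast_ne_zero.mpr Monoid.exponent_ne_zero_of_finite⟩
  haveI : Finite ((P ⧸ K) →* ℂˣ) := Finite.of_equiv (P ⧸ K)
    (CommGroup.monoidHom_mulEquiv_of_hasEnoughRootsOfUnity (P ⧸ K) ℂ).some.symm.toEquiv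
  let lof : ((P ⧸ K) →* ℂˣ) → (P →* ℂˣ) := fun γ => γ.comp (QuotientGroup.mk' K)
  have hlof : ∀ γ, IsFocTrivial F (lof γ) := fun γ x hx => by
    show γ (QuotientGroup.mk x) = 1
    rw [(QuotientGroup.eq_one_iff x).2 (Subgroup.mem_subgroupOf.2 hx), map_one]
  let X := {χ : IrrCharacter G // χ ∈ B ∧ blockHeight p B (χ : G → ℂ) = h}
  have hex : ∀ (γ : (P ⧸ K) →* ℂˣ) (x : X), ∃ y : X,
      ((y : IrrCharacter G) : G → ℂ) = star p M P e (lof γ) ((x : IrrCharacter G) : G → ℂ) := by
    intro γ x
    obtain ⟨ψ, h1, h2, h3⟩ := exists_star_irr hM hmax hF (hlof γ) x.2.1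
    exact ⟨⟨ψ, h2, h3.trans x.2.2⟩, h1⟩
  choose act hact using hex
  letI : MulAction ((P ⧸ K) →* ℂˣ) X :=
    { smul := act
      one_smul := fun x => Subtype.ext (Subtype.ext (by
        show ((act 1 x : X) : IrrCharacter G).1 = _
        rw [hact, show lof 1 = 1 from MonoidHom.one_comp _, star_one hM hmax hF x.2.1]))
      mul_smul := fun γ δ x => Subtype.ext (Subtype.ext (by
        show ((act (γ * δ) x : X) : IrrCharacter G).1 = ((act γ (act δ x) : X) : IrrCharacter G).1
        rw [hact, hact, hact, star_star hM hmax hF (hlof γ) (hlof δ),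
          show lof (γ * δ) = lof γ * lof δ from MonoidHom.mul_comp _ _ _])) }
  have hsurj : Function.Surjective
      (MonoidHom.domRestrictHom Z' ℂˣ : ((P ⧸ K) →* ℂˣ) →* (Z' →* ℂˣ)) :=
    MonoidHom.domRestrict_surjective ℂ Z'
  have key := dvd_card_of_stab (X := X) _ hsurj (fun γ x hx => ?_)
  · rw [Nat.card_congr (CommGroup.monoidHom_mulEquiv_of_hasEnoughRootsOfUnity Z' ℂ).some.toEquiv]
      at key
    refine dvd_trans (dvd_of_eq ?_) key
    let φ : Z →* P ⧸ K := (QuotientGroup.mk' K).comp (Subgroup.inclusion hZP)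
    have hker : φ.ker = (Z ⊓ F.focalSubgroup).subgroupOf Z := by
      ext z
      simp only [φ, MonoidHom.mem_ker, MonoidHom.comp_apply, QuotientGroup.mk'_apply,
        QuotientGroup.eq_one_iff, hK, Subgroup.mem_subgroupOf, Subgroup.mem_inf, SetLike.coe_mem,
        true_and, Subgroup.coe_inclusion]
    have hrange : φ.range = Z' := by
      rw [MonoidHom.range_comp, Subgroup.inclusion_range]
    rw [← hker, Subgroup.index_ker, hrange]
  · apply MonoidHom.ext
    rintro ⟨q, hq⟩
    obtain ⟨z, hz, rfl⟩ := hq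
    have hzG : (z : G) ∈ Z := Subgroup.mem_subgroupOf.1 hz
    obtain ⟨b, hb, hble⟩ := exists_subpair hM (P := P) (e := e) hmax.1.1
      (Subgroup.zpowers_le.2 z.2)
    let a : BrauerPairIdx G := ⟨Subgroup.zpowers (z : G), b⟩
    have ha : a ∈ pairsAt M (z : G) := mem_pairsAt.2 ⟨rfl, hb⟩
    have hzp : ∃ k, orderOf (z : G) = p ^ k := exists_order_pow hP z
    have hfix : star p M P e (lof γ) ((x : IrrCharacter G) : G → ℂ) =
        ((x : IrrCharacter G) : G → ℂ) :=
      (hact γ x).symm.trans (congrArg (fun y : X => ((y : IrrCharacter G) : G → ℂ)) hx)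
    have hw := wgt_eq_one_of_fixed hM hmax hF (hlof γ) x.2.1 hfix hzp ha
      ((isBrauerPairOf_iff_of_le hM hmax.1.2.1 hble).1 hmax.1) (hpiece _ x.2.1 x.2.2 _ hzG a ha hble)
    have hx1 : SubpairLE p M (conjIdx 1 a).1 (conjIdx 1 a).2 P e := by
      rw [conjIdx_one hM (a := a) hb]; exact hble
    rw [wgt_eq hM hF (hlof γ) rfl hb hx1, one_mul, inv_one, mul_one, lval_coe] at hw
    exact Units.val_eq_one.1 hw

end Cfsg.Agent.Star
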