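import Cfsg.Agent.Lib.Star.LocalAlgebra
import Cfsg.Agent.Lib.BurnsideBasis.Basic

/-!
# Primitive idempotents of fixed-point algebras

* `InCorner`, `exists_corner_spectral`, `exists_lift_br` (lifting idempotents along the Brauer map);
* `IsPrim`, `exists_decomp`, `prim_dichotomy`, the residue scalar `tau` with `tau_mul_comm`,
  `exists_assoc_of_tau`, `tau_cj`;
* `relTr` (relative trace), `br_relTr_eq_zero`, `br_relTr_self`, `exists_relTr`,
  `exists_eq_relTr_of_br_eq_zero` (Rosenberg's lemma for the Brauer kernel).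
-/

set_option autoImplicit false

open Polynomial

namespace Cfsg.Agent.Star

open Cfsg Cfsg.Agent.Blocks Cfsg.Agent.BrauerPairs

variable {G : Type*} [Group G]

section trace

variable {k : Type*} [CommRing k]

/-- `x` lies in the corner of `ε`. -/
def InCorner (ε x : MonoidAlgebra k G) : Prop := ε * x = x ∧ x * ε = x

theorem InCorner.self {ε : MonoidAlgebra k G} (h : ε * ε = ε) : InCorner ε ε := ⟨h, h⟩

theorem InCorner.sandwich {ε : MonoidAlgebra k G} (h : ε * ε = ε) (x : MonoidAlgebra k G) :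
    InCorner ε (ε * x * ε) :=
  ⟨by rw [← mul_assoc, ← mul_assoc, h], by rw [mul_assoc, h]⟩

theorem InCorner.eq {ε x : MonoidAlgebra k G} (h : InCorner ε x) : ε * x * ε = x := by
  rw [h.1, h.2]

theorem InCorner.mul {ε x y : MonoidAlgebra k G} (hx : InCorner ε x) (hy : InCorner ε y) :
    InCorner ε (x * y) :=
  ⟨by rw [← mul_assoc, hx.1], by rw [mul_assoc, hy.2]⟩

theorem InCorner.add {ε x y : MonoidAlgebra k G} (hx : InCorner ε x) (hy : InCorner ε y) :
    InCorner ε (x + y) :=
  ⟨by rw [mul_add, hx.1, hy.1], by rw [add_mul, hx.2, hy.2]⟩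

theorem InCorner.trans {ε f x : MonoidAlgebra k G} (hf : InCorner ε f) (hx : InCorner f x) :
    InCorner ε x :=
  ⟨by rw [← hx.1, ← mul_assoc, hf.1], by rw [← hx.2, mul_assoc, hf.2]⟩

theorem InCorner.cj {ε x : MonoidAlgebra k G} (h : InCorner ε x) (g : G) :
    InCorner (cj g ε) (cj g x) :=
  ⟨by rw [← map_mul, h.1], by rw [← map_mul, h.2]⟩

theorem cj_smul (g : G) (c : k) (a : MonoidAlgebra k G) : cj g (c • a) = c • cj g a := by
  ext x
  simp [coeff_cj]

theorem fixed_smul {S : Subgroup G} {a : MonoidAlgebra k G} (ha : Fixed S a) (c : k) :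
    Fixed S (c • a) := fun u hu => by rw [cj_smul, ha u hu]

theorem fixed_sub {S : Subgroup G} {a b : MonoidAlgebra k G} (ha : Fixed S a) (hb : Fixed S b) :
    Fixed S (a - b) := fun u hu => by rw [map_sub, ha u hu, hb u hu]

theorem fixed_zero {S : Subgroup G} : Fixed S (0 : MonoidAlgebra k G) := fun _ _ => map_zero _

theorem fixed_conj {S S' : Subgroup G} {a : MonoidAlgebra k G} (ha : Fixed S a) {g : G}
    (h : ∀ u ∈ S', g⁻¹ * u * g ∈ S) : Fixed S' (BrauerPairs.cj g a) := fun u hu => by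
  conv_rhs => rw [← ha _ (h u hu), ← cj_mul]
  rw [← cj_mul]
  congr 2
  group

theorem br_sub (P : Subgroup G) (a b : MonoidAlgebra k G) : br P (a - b) = br P a - br P b :=
  map_sub ({ toFun := br P, map_zero' := br_zero P, map_add' := br_add P } :
    MonoidAlgebra k G →+ MonoidAlgebra k G) a b

theorem br_pow {p : ℕ} [Fact p.Prime] [CharP k p] [Fintype G] {P : Subgroup G} (hP : IsPGroup p P)
    {a : MonoidAlgebra k G} (ha : Fixed P a) (n : ℕ) : br P (a ^ n) = br P a ^ n := by
  induction n with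
  | zero => rw [pow_zero, pow_zero, br_one]
  | succ n ih =>
    rw [pow_succ, pow_succ, br_mul (p := p) hP (fun u hu => by rw [map_pow, ha u hu]) ha, ih]

variable [Finite G]

open scoped Classical in
/-- The relative trace from `R` to `T`. -/
noncomputable def relTr (R T : Subgroup G) (c : MonoidAlgebra k G) : MonoidAlgebra k G :=
  letI := Fintype.ofFinite (T ⧸ R.subgroupOf T)
  ∑ q : T ⧸ R.subgroupOf T, cj ((q.out : T) : G) c

theorem relTr_def (R T : Subgroup G) (c : MonoidAlgebra k G) [Fintype (T ⧸ R.subgroupOf T)] :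
    relTr R T c = ∑ q : T ⧸ R.subgroupOf T, cj ((q.out : T) : G) c := by
  unfold relTr
  congr!

omit [Finite G] in
theorem cj_out {R T : Subgroup G} {c : MonoidAlgebra k G} (hc : Fixed R c) (t : T) :
    cj (((QuotientGroup.mk t : T ⧸ R.subgroupOf T).out : T) : G) c = cj (t : G) c := by
  obtain ⟨r, hr⟩ := QuotientGroup.mk_out_eq_mul (R.subgroupOf T) t
  rw [hr, Subgroup.coe_mul, cj_mul, hc _ (Subgroup.mem_subgroupOf.1 r.2)]

theorem fixed_relTr {R T : Subgroup G} {c : MonoidAlgebra k G} (hc : Fixed R c) :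
    Fixed T (relTr R T c) := fun u hu => by
  have := Fintype.ofFinite (T ⧸ R.subgroupOf T)
  rw [relTr_def, map_sum]
  refine Fintype.sum_equiv (MulAction.toPerm (⟨u, hu⟩ : T)) _ _ fun q => ?_
  induction q using QuotientGroup.induction_on with
  | H t =>
    rw [cj_out hc, MulAction.toPerm_apply, MulAction.Quotient.smul_mk, cj_out hc, smul_eq_mul,
      Subgroup.coe_mul, cj_mul]

theorem mul_relTr {R T : Subgroup G} {x : MonoidAlgebra k G} (hx : Fixed T x)
    (c : MonoidAlgebra k G) : x * relTr R T c = relTr R T (x * c) := by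
  have := Fintype.ofFinite (T ⧸ R.subgroupOf T)
  rw [relTr_def, relTr_def, Finset.mul_sum]
  refine Finset.sum_congr rfl fun q _ => ?_
  rw [map_mul, hx _ (q.out).2]

theorem relTr_mul {R T : Subgroup G} {x : MonoidAlgebra k G} (hx : Fixed T x)
    (c : MonoidAlgebra k G) : relTr R T c * x = relTr R T (c * x) := by
  have := Fintype.ofFinite (T ⧸ R.subgroupOf T)
  rw [relTr_def, relTr_def, Finset.sum_mul]
  refine Finset.sum_congr rfl fun q _ => ?_
  rw [map_mul, hx _ (q.out).2]

variable {p : ℕ} [Fact p.Prime] [CharP k p]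

/-- No fixed coset: the relative trace dies under the Brauer map. -/
theorem br_relTr_eq_zero {R T S : Subgroup G} (hS : IsPGroup p S) (hST : S ≤ T)
    {c : MonoidAlgebra k G} (hc : Fixed R c)
    (hno : ∀ t ∈ T, ∃ s ∈ S, t⁻¹ * s * t ∉ R) : br S (relTr R T c) = 0 := by
  classical
  have := Fintype.ofFinite (T ⧸ R.subgroupOf T)
  letI : MulAction S (T ⧸ R.subgroupOf T) := MulAction.compHom _ (Subgroup.inclusion hST)
  rw [relTr_def]
  refine br_sum_eq_zero_of_no_fixed (p := p) hS _ (fun s q => ?_) fun q hq => absurd hq ?_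
  · induction q using QuotientGroup.induction_on with
    | H t =>
      show cj (((Subgroup.inclusion hST s • (QuotientGroup.mk t : T ⧸ R.subgroupOf T)).out : T) : G) c = _
      rw [MulAction.Quotient.smul_mk, cj_out hc, cj_out hc, smul_eq_mul, Subgroup.coe_mul, cj_mul]
      rfl
  · induction q using QuotientGroup.induction_on with
    | H t =>
      intro hfix
      obtain ⟨s, hs, hns⟩ := hno t t.2
      have h1 : Subgroup.inclusion hST ⟨s, hs⟩ • (QuotientGroup.mk t : T ⧸ R.subgroupOf T) =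
          QuotientGroup.mk t := hfix ⟨s, hs⟩
      rw [MulAction.Quotient.smul_mk, smul_eq_mul, eq_comm, QuotientGroup.eq,
        Subgroup.mem_subgroupOf] at h1
      apply hns
      simpa [mul_assoc] using h1

/-- The Brauer map at `Q` of a relative trace from `Q`. -/
theorem br_relTr_self {Q T : Subgroup G} (hQ : IsPGroup p Q) (hQT : Q ≤ T)
    {c : MonoidAlgebra k G} (hc : Fixed Q c) :
    br Q (relTr Q T c) = relTr Q (T ⊓ Subgroup.normalizer (Q : Set G)) (br Q c) := by
  classical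
  set N := T ⊓ Subgroup.normalizer (Q : Set G) with hN
  have := Fintype.ofFinite (T ⧸ Q.subgroupOf T)
  have := Fintype.ofFinite (N ⧸ Q.subgroupOf N)
  have hbc : Fixed Q (br Q c) := Fixed.br hc Subgroup.le_normalizer
  letI : MulAction Q (T ⧸ Q.subgroupOf T) := MulAction.compHom _ (Subgroup.inclusion hQT)
  let Fix : T ⧸ Q.subgroupOf T → Prop := fun q => q ∈ MulAction.fixedPoints Q (T ⧸ Q.subgroupOf T)
  have hdie : br Q (∑ q : T ⧸ Q.subgroupOf T, if Fix q then 0 else cj ((q.out : T) : G) c) = 0 := by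
    refine br_sum_eq_zero_of_no_fixed (p := p) hQ _ (fun s q => ?_) fun q hq => if_pos hq
    by_cases hq : Fix q
    · have h : s • q = q := hq s
      rw [h, if_pos hq, map_zero]
    · rw [if_neg hq, if_neg fun h : Fix (s • q) => hq ?_]
      · induction q using QuotientGroup.induction_on with
        | H t =>
          show cj (((Subgroup.inclusion hQT s • (QuotientGroup.mk t : T ⧸ Q.subgroupOf T)).out : T) : G) c = _
          rw [MulAction.Quotient.smul_mk, cj_out hc, cj_out hc, smul_eq_mul, Subgroup.coe_mul, cj_mul]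
          rfl
      · intro u
        have h1 : (s * (s⁻¹ * u * s)) • q = s • q := by
          rw [show s * (s⁻¹ * u * s) = u * s by group, mul_smul]
          exact h u
        have h2 : (s⁻¹ * u * s) • q = q := MulAction.injective s (by simpa [mul_smul] using h1)
        have key : ∀ v : Q, v • q = q := fun v => by
          have h3 : ∀ w : Q, (s⁻¹ * w * s) • q = q := fun w => by
            have h4 : (s * (s⁻¹ * w * s)) • q = s • q := by
              rw [show s * (s⁻¹ * w * s) = w * s by group, mul_smul]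
              exact h w
            exact MulAction.injective s (by simpa [mul_smul] using h4)
          simpa [mul_assoc] using h3 (s * v * s⁻¹)
        exact key u
  have hfix : ∀ t : T, Fix (QuotientGroup.mk t) ↔ (t : G) ∈ N := by
    intro t
    constructor
    · intro h
      suffices hmem : (t : G)⁻¹ ∈ Subgroup.normalizer (Q : Set G) by
        refine Subgroup.mem_inf.2 ⟨t.2, ?_⟩
        simpa using Subgroup.inv_mem _ hmem
      refine conjSub_eq_self_iff.1 (Subgroup.eq_of_le_of_card_ge ?_ (card_conjSub _ Q).ge)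
      intro w hw
      rw [mem_conjSub, inv_inv] at hw
      set s := (t : G) * w * (t : G)⁻¹ with hsdef
      have hs : s ∈ Q := hw
      have h1 : Subgroup.inclusion hQT ⟨s, hs⟩ • (QuotientGroup.mk t : T ⧸ Q.subgroupOf T) =
          QuotientGroup.mk t := h ⟨s, hs⟩
      rw [MulAction.Quotient.smul_mk, smul_eq_mul, eq_comm, QuotientGroup.eq,
        Subgroup.mem_subgroupOf] at h1
      simpa [hsdef, mul_assoc] using h1
    · intro h s
      show Subgroup.inclusion hQT s • (QuotientGroup.mk t : T ⧸ Q.subgroupOf T) = QuotientGroup.mk t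
      rw [MulAction.Quotient.smul_mk, smul_eq_mul, eq_comm, QuotientGroup.eq, Subgroup.mem_subgroupOf]
      have := (Subgroup.mem_normalizer_iff.1 (inv_mem h.2) (s : G)).1 s.2
      simpa [mul_assoc] using this
  have hsplit : relTr Q T c = (∑ q : T ⧸ Q.subgroupOf T, if Fix q then 0 else cj ((q.out : T) : G) c)
      + ∑ q ∈ Finset.univ.filter Fix, cj ((q.out : T) : G) c := by
    rw [relTr_def, Finset.sum_filter, ← Finset.sum_add_distrib]
    refine Finset.sum_congr rfl fun q _ => ?_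
    split_ifs <;> simp
  rw [hsplit, br_add, hdie, zero_add, br_sum, relTr_def]
  symm
  refine Finset.sum_bij (fun (n : N ⧸ Q.subgroupOf N) _ =>
    (QuotientGroup.mk (Subgroup.inclusion (inf_le_left : N ≤ T) n.out) : T ⧸ Q.subgroupOf T))
    (fun n _ => Finset.mem_filter.2 ⟨Finset.mem_univ _, (hfix _).2 n.out.2⟩) ?_ ?_ ?_
  · intro a _ b _ h
    rw [← a.out_eq, ← b.out_eq]
    show (QuotientGroup.mk a.out : N ⧸ _) = QuotientGroup.mk b.out
    rw [QuotientGroup.eq, Subgroup.mem_subgroupOf] at h ⊢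
    exact h
  · intro q hq
    induction q using QuotientGroup.induction_on with
    | H t =>
      have ht := (hfix t).1 (Finset.mem_filter.1 hq).2
      refine ⟨QuotientGroup.mk (⟨t, ht⟩ : N), Finset.mem_univ _, ?_⟩
      obtain ⟨r, hr⟩ := QuotientGroup.mk_out_eq_mul (Q.subgroupOf N) (⟨t, ht⟩ : N)
      rw [hr, QuotientGroup.eq, Subgroup.mem_subgroupOf]
      simpa using inv_mem (Subgroup.mem_subgroupOf.1 r.2)
  · intro n _
    rw [cj_out hc]
    show _ = br Q (cj ((n.out : N) : G) c)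
    rw [cj_br, conjSub_eq_self_iff.2 n.out.2.2]

omit [Fact p.Prime] [CharP k p] in
/-- An invariant element whose support has all stabilisers in `R` is a relative trace from `R`. -/
theorem exists_relTr {R T : Subgroup G} {z : MonoidAlgebra k G}
    (hz : Fixed T z) (hRT : R ≤ T)
    (hstab : ∀ x, z.coeff x ≠ 0 → ∀ t ∈ T, t * x * t⁻¹ = x → t ∈ R) :
    ∃ c : MonoidAlgebra k G, Fixed R c ∧ relTr R T c = z ∧
      ∀ x, z.coeff x = 0 → c.coeff x = 0 := by
  classical
  have := Fintype.ofFinite (T ⧸ R.subgroupOf T)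
  let rel : Setoid G := ⟨fun x y => ∃ t ∈ T, t * x * t⁻¹ = y, ⟨fun x => ⟨1, T.one_mem, by simp⟩,
    fun {x y} ⟨t, ht, h⟩ => ⟨t⁻¹, inv_mem ht, by rw [← h]; group⟩,
    fun {x y w} ⟨t, ht, h⟩ ⟨u, hu, h'⟩ => ⟨u * t, mul_mem hu ht, by rw [← h', ← h]; group⟩⟩⟩
  let rep : G → G := fun x => (Quotient.mk rel x).out
  have hrep : ∀ t ∈ T, ∀ x, rep (t * x * t⁻¹) = rep x := fun t ht x =>
    congrArg Quotient.out (Quotient.sound (s := rel) ⟨t⁻¹, inv_mem ht, by group⟩)
  have hrel : ∀ x, ∃ t ∈ T, t * rep x * t⁻¹ = x := fun x =>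
    Quotient.exact (s := rel) (Quotient.out_eq (Quotient.mk rel x))
  let Pc : G → Prop := fun x => ∃ r ∈ R, r * rep x * r⁻¹ = x
  let c : MonoidAlgebra k G := MonoidAlgebra.ofCoeff (Finsupp.equivFunOnFinite.symm fun x =>
    if Pc x then z.coeff x else 0)
  have hc : ∀ x, c.coeff x = if Pc x then z.coeff x else 0 := fun x => by simp [c]
  refine ⟨c, ?_, ?_, fun x hx => by rw [hc, hx, ite_self]⟩
  · intro u hu
    ext x
    rw [coeff_cj, hc, hc]
    have h1 : z.coeff (u⁻¹ * x * u) = z.coeff x := by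
      simpa using coeff_conj_of_fixed hz (inv_mem (hRT hu)) x
    have h2 : Pc (u⁻¹ * x * u) ↔ Pc x := by
      have h3 : rep (u⁻¹ * x * u) = rep x := by simpa using hrep _ (inv_mem (hRT hu)) x
      constructor
      · rintro ⟨r, hr, h⟩
        refine ⟨u * r, mul_mem hu hr, ?_⟩
        rw [h3] at h
        calc u * r * rep x * (u * r)⁻¹ = u * (r * rep x * r⁻¹) * u⁻¹ := by group
          _ = x := by rw [h]; group
      · rintro ⟨r, hr, h⟩
        refine ⟨u⁻¹ * r, mul_mem (inv_mem hu) hr, ?_⟩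
        rw [h3]
        calc u⁻¹ * r * rep x * (u⁻¹ * r)⁻¹ = u⁻¹ * (r * rep x * r⁻¹) * u := by group
          _ = _ := by rw [h]
    simp only [h1, h2]
  · ext x
    rw [relTr_def, MonoidAlgebra.coeff_sum, Finsupp.finsetSum_apply]
    simp only [coeff_cj]
    obtain ⟨t₀, ht₀, hx⟩ := hrel x
    rw [Finset.sum_eq_single (QuotientGroup.mk (⟨t₀, ht₀⟩ : T) : T ⧸ R.subgroupOf T)]
    · obtain ⟨r, hr⟩ := QuotientGroup.mk_out_eq_mul (R.subgroupOf T) (⟨t₀, ht₀⟩ : T)
      rw [hr, hc]
      push_cast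
      have hr' : ((r : T) : G) ∈ R := Subgroup.mem_subgroupOf.1 r.2
      have h1 : z.coeff ((t₀ * (r : T))⁻¹ * x * (t₀ * (r : T))) = z.coeff x := by
        simpa using coeff_conj_of_fixed hz (inv_mem (mul_mem ht₀ (hRT hr'))) x
      rw [if_pos, h1]
      refine ⟨((r : T) : G)⁻¹, inv_mem hr', ?_⟩
      have h2 : rep ((t₀ * (r : T))⁻¹ * x * (t₀ * (r : T))) = rep x := by
        simpa using hrep _ (inv_mem (mul_mem ht₀ (hRT hr'))) x
      rw [h2]
      conv_rhs => rw [← hx]
      group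
    · intro q _ hne
      induction q using QuotientGroup.induction_on with
      | H t =>
        set v := ((QuotientGroup.mk t : T ⧸ R.subgroupOf T).out : T) with hv
        rw [hc]
        by_cases hzx : z.coeff x = 0
        · have : z.coeff ((v : G)⁻¹ * x * v) = z.coeff x := by
            simpa using coeff_conj_of_fixed hz (inv_mem v.2) x
          rw [this, hzx, ite_self]
        rw [if_neg]
        rintro ⟨r, hr, h⟩
        apply hne
        rw [show rep ((v : G)⁻¹ * x * v) = rep x by simpa using hrep _ (inv_mem v.2) x] at h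
        have hzr : z.coeff (rep x) ≠ 0 := by
          rwa [← coeff_conj_of_fixed hz ht₀, hx]
        have hs : r⁻¹ * (v : G)⁻¹ * t₀ * rep x * (r⁻¹ * (v : G)⁻¹ * t₀)⁻¹ = rep x := by
          calc r⁻¹ * (v : G)⁻¹ * t₀ * rep x * (r⁻¹ * (v : G)⁻¹ * t₀)⁻¹
              = r⁻¹ * ((v : G)⁻¹ * (t₀ * rep x * t₀⁻¹) * v) * r := by group
            _ = rep x := by rw [hx, ← h]; group
        have hmem := hstab _ hzr _ (mul_mem (mul_mem (inv_mem (hRT hr)) (inv_mem v.2)) ht₀) hs
        have hmem' : (v : G)⁻¹ * t₀ ∈ R := by simpa [mul_assoc] using mul_mem hr hmem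
        rw [← QuotientGroup.out_eq' (QuotientGroup.mk t : T ⧸ R.subgroupOf T), ← hv,
          QuotientGroup.eq, Subgroup.mem_subgroupOf]
        simpa using hmem'
    · simp

end trace

variable [Finite G] {p : ℕ} {M : Ideal AlgInt} {hM : IsPModular p M}

theorem rd_smul (r : locRing hM) (a : Loc hM G) : rd hM (r • a) = res M (r : ℂ) • rd hM a := by
  ext x
  simp only [coeff_rd, MonoidAlgebra.coeff_smul, Finsupp.smul_apply, smul_eq_mul, Subring.coe_mul]
  exact res_mul hM r.2 (a.coeff x).2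

theorem rd_relTr (R T : Subgroup G) (c : Loc hM G) : rd hM (relTr R T c) = relTr R T (rd hM c) := by
  have := Fintype.ofFinite (T ⧸ R.subgroupOf T)
  rw [relTr_def, relTr_def, map_sum]
  simp only [rd_cj]

theorem exists_corner_spectral {T : Subgroup G} {ε w : Loc hM G} (hw : Fixed T w)
    (hc : InCorner ε w) : ∃ (y : Loc hM G) (m : ℕ), Fixed T y ∧ Commute w y ∧
      InCorner ε (w * y) ∧ (w * y) * (w * y) = w * y ∧
      rd hM w ^ (m + 1) * (1 - rd hM (w * y)) = 0 := by
  obtain ⟨q, m, h1, h2⟩ := exists_spectral hM w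
  have hcom : Commute w (aeval w q) := by
    show w * aeval w q = aeval w q * w
    conv_lhs => arg 1; rw [← aeval_X (R := locRing hM) w]
    conv_rhs => arg 2; rw [← aeval_X (R := locRing hM) w]
    rw [← map_mul, ← map_mul, mul_comm]
  refine ⟨aeval w q, m, fixed_aeval hM hw q, hcom, ⟨by rw [← mul_assoc, hc.1], ?_⟩, h1, ?_⟩
  · rw [hcom.eq, mul_assoc, hc.2]
  · rw [pow_succ', mul_assoc, h2, mul_zero]

/-- Idempotents lift along the Brauer map inside a corner. -/
theorem exists_lift_br [Fact p.Prime] {T : Subgroup G} (hT : IsPGroup p T) {ε : Loc hM G}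
    (hε : Fixed T ε) (hεε : ε * ε = ε) {e : MonoidAlgebra (Res M) G} (he : Fixed T e)
    (hes : SuppIn (Subgroup.centralizer (T : Set G)) e) (hee : e * e = e)
    (hl : br T (rd hM ε) * e = e) (hr : e * br T (rd hM ε) = e) :
    ∃ f : Loc hM G, Fixed T f ∧ f * f = f ∧ InCorner ε f ∧ br T (rd hM f) = e := by
  have := res_charP hM
  have := Fintype.ofFinite G
  have hw : Fixed T (ε * liftEl hM e * ε) := (hε.mul (fixed_liftEl hM he)).mul hε
  obtain ⟨y, m, hy, hcom, hc, h1, h2⟩ := exists_corner_spectral hw (InCorner.sandwich hεε _)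
  set w := ε * liftEl hM e * ε with hwdef
  have hbw : br T (rd hM w) = e := by
    rw [hwdef, map_mul, map_mul, rd_liftEl,
      br_mul (p := p) hT ((fixed_rd hM hε).mul he) (fixed_rd hM hε),
      br_mul (p := p) hT (fixed_rd hM hε) he, br_eq_self hes, hl, hr]
  refine ⟨w * y, hw.mul hy, h1, hc, ?_⟩
  have hpow : ∀ n : ℕ, e ^ (n + 1) = e := fun n => by
    induction n with
    | zero => rw [pow_one]
    | succ n ih => rw [pow_succ, ih, hee]
  have h3 := congrArg (br T) h2
  rw [br_zero, br_mul (p := p) hT (fun u hu => by rw [map_pow, fixed_rd hM hw u hu])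
      (fixed_sub Fixed.one (fixed_rd hM (hw.mul hy))), br_pow (p := p) hT (fixed_rd hM hw), hbw,
    hpow, br_sub, br_one, mul_sub, mul_one, sub_eq_zero] at h3
  rw [h3, map_mul, br_mul (p := p) hT (fixed_rd hM hw) (fixed_rd hM hy), hbw, ← mul_assoc, hee]

/-- Primitive idempotents of the algebra of `T`-fixed points. -/
def IsPrim (T : Subgroup G) (j : Loc hM G) : Prop :=
  Fixed T j ∧ j * j = j ∧ j ≠ 0 ∧
    ∀ f, Fixed T f → f * f = f → InCorner j f → f = 0 ∨ f = j

theorem IsPrim.cj {T T' : Subgroup G} {j : Loc hM G} (hj : IsPrim T j) {g : G}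
    (h : ∀ u, u ∈ T' ↔ g⁻¹ * u * g ∈ T) : IsPrim T' (BrauerPairs.cj g j) := by
  obtain ⟨h1, h2, h3, h4⟩ := hj
  refine ⟨fixed_conj h1 fun u hu => (h u).1 hu, by rw [← map_mul, h2],
    fun h0 => h3 ((BrauerPairs.cj g).injective (by rw [h0, map_zero])), fun f hf hff hc => ?_⟩
  have hc' := hc.cj g⁻¹
  rw [cj_inv_cj] at hc'
  rcases h4 (BrauerPairs.cj g⁻¹ f) (fixed_conj hf fun u hu => (h _).2 (by simpa [mul_assoc] using hu))
    (by rw [← map_mul, hff]) hc' with h' | h'
  · exact Or.inl (by simpa [cj_cj_inv] using congrArg (BrauerPairs.cj g) h')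
  · exact Or.inr (by simpa [cj_cj_inv] using congrArg (BrauerPairs.cj g) h')

open scoped Classical in
/-- Every idempotent is an orthogonal sum of primitive ones. -/
theorem exists_decomp {T : Subgroup G} {ε : Loc hM G} (hε : Fixed T ε) (hεε : ε * ε = ε) :
    ∃ s : Finset (Loc hM G), (∀ j ∈ s, IsPrim T j ∧ InCorner ε j) ∧
      (∀ j ∈ s, ∀ j' ∈ s, j ≠ j' → j * j' = 0) ∧ ∑ j ∈ s, j = ε := by
  let inc : Loc hM G →+* MonoidAlgebra ℂ G := MonoidAlgebra.mapRingHom G (locRing hM).subtype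
  let rk : Loc hM G → ℕ := fun f =>
    Module.finrank ℂ (LinearMap.range (LinearMap.mulLeft ℂ (inc f)))
  have hinc : Function.Injective inc := fun a b h => by
    ext x
    have := congrArg (fun w : MonoidAlgebra ℂ G => w.coeff x) h
    simpa [inc] using this
  have hlt : ∀ ε' f : Loc hM G, ε' * ε' = ε' → f * f = f → InCorner ε' f → f ≠ ε' →
      rk f < rk ε' := by
    intro ε' f he hf hc hne
    refine Submodule.finrank_lt_finrank_of_lt (lt_of_le_of_ne ?_ fun heq => hne ?_)
    · rintro _ ⟨v, rfl⟩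
      refine ⟨inc f * v, ?_⟩
      simp only [LinearMap.mulLeft_apply]
      rw [← mul_assoc, ← map_mul, hc.1]
    · have hmem : inc ε' ∈ LinearMap.range (LinearMap.mulLeft ℂ (inc f)) := by
        rw [heq]
        exact ⟨inc ε', by rw [LinearMap.mulLeft_apply, ← map_mul, he]⟩
      obtain ⟨v, hv⟩ := hmem
      simp only [LinearMap.mulLeft_apply] at hv
      apply hinc
      calc inc f = inc (f * ε') := by rw [hc.2]
        _ = inc f * (inc f * v) := by rw [map_mul, hv]
        _ = inc ε' := by rw [← mul_assoc, ← map_mul, hf, hv]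
  induction hn : rk ε using Nat.strong_induction_on generalizing ε with
  | _ n ih =>
  by_cases h0 : ε = 0
  · exact ⟨∅, by simp, by simp, by simp [h0]⟩
  by_cases hp : IsPrim T ε
  · exact ⟨{ε}, by simpa using ⟨hp, InCorner.self hεε⟩, by simp, by simp⟩
  obtain ⟨f, hf, hff, hc, hf0, hfε⟩ : ∃ f, Fixed T f ∧ f * f = f ∧ InCorner ε f ∧ f ≠ 0 ∧ f ≠ ε := by
    by_contra hno
    push Not at hno
    exact hp ⟨hε, hεε, h0, fun f hf hff hc => or_iff_not_imp_left.2 (hno f hf hff hc)⟩
  have hc' : InCorner ε (ε - f) := ⟨by rw [mul_sub, hεε, hc.1], by rw [sub_mul, hεε, hc.2]⟩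
  have hgg : (ε - f) * (ε - f) = ε - f := by rw [mul_sub, hc'.2, sub_mul, hc.1, hff, sub_self, sub_zero]
  have hne : ε - f ≠ ε := fun h => hf0 (sub_eq_self.1 h)
  obtain ⟨s₁, h₁, o₁, e₁⟩ := ih _ (hn ▸ hlt ε f hεε hff hc hfε) hf hff rfl
  obtain ⟨s₂, h₂, o₂, e₂⟩ := ih _ (hn ▸ hlt ε _ hεε hgg hc' hne) (fixed_sub hε hf) hgg rfl
  have hz1 : f * (ε - f) = 0 := by rw [mul_sub, hc.2, hff, sub_self]
  have hz2 : (ε - f) * f = 0 := by rw [sub_mul, hc.1, hff, sub_self]
  have hcross : ∀ a ∈ s₁, ∀ b ∈ s₂, a * b = 0 ∧ b * a = 0 := fun a ha b hb => by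
    refine ⟨?_, ?_⟩
    · rw [← (h₁ a ha).2.2, ← (h₂ b hb).2.1, mul_assoc, ← mul_assoc f, hz1, zero_mul, mul_zero]
    · rw [← (h₂ b hb).2.2, ← (h₁ a ha).2.1, mul_assoc, ← mul_assoc (ε - f), hz2, zero_mul, mul_zero]
  have hdisj : Disjoint s₁ s₂ := Finset.disjoint_left.2 fun a ha ha' =>
    (h₁ a ha).1.2.2.1 (by rw [← (h₁ a ha).1.2.1]; exact (hcross a ha a ha').1)
  refine ⟨s₁ ∪ s₂, fun j hj => ?_, fun j hj j' hj' hne' => ?_, ?_⟩
  · rcases Finset.mem_union.1 hj with hj | hj
    · exact ⟨(h₁ j hj).1, hc.trans (h₁ j hj).2⟩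
    · exact ⟨(h₂ j hj).1, hc'.trans (h₂ j hj).2⟩
  · rcases Finset.mem_union.1 hj with hj | hj <;> rcases Finset.mem_union.1 hj' with hj' | hj'
    · exact o₁ j hj j' hj' hne'
    · exact (hcross j hj j' hj').1
    · exact (hcross j' hj' j hj).2
    · exact o₂ j hj j' hj' hne'
  · rw [Finset.sum_union hdisj, e₁, e₂, add_sub_cancel]

theorem prim_rd_ne_zero {T : Subgroup G} {j : Loc hM G} (hj : IsPrim T j) : rd hM j ≠ 0 :=
  fun h => hj.2.2.1 (eq_zero_of_rd_eq_zero hM hj.2.1 h)

theorem prim_not_nilpotent {T : Subgroup G} {j : Loc hM G} (hj : IsPrim T j) :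
    ¬ IsNilpotent (rd hM j) := by
  rintro ⟨n, hn⟩
  have h : IsIdempotentElem (rd hM j) := by rw [IsIdempotentElem, ← map_mul, hj.2.1]
  cases n with
  | zero => exact prim_rd_ne_zero hj (by rw [← one_mul (rd hM j), ← pow_zero (rd hM j), hn, zero_mul])
  | succ n => exact prim_rd_ne_zero hj (h.pow_succ_eq n ▸ hn)

/-- In the corner of a primitive idempotent: nilpotent modulo `M`, or invertible. -/
theorem prim_dichotomy {T : Subgroup G} {j x : Loc hM G} (hj : IsPrim T j) (hx : Fixed T x)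
    (hc : InCorner j x) : IsNilpotent (rd hM x) ∨
      ∃ y, Fixed T y ∧ InCorner j y ∧ x * y = j ∧ y * x = j := by
  obtain ⟨y, m, hy, hcom, hcy, hyy, h⟩ := exists_corner_spectral hx hc
  rcases hj.2.2.2 (x * y) (hx.mul hy) hyy hcy with h0 | h1
  · refine Or.inl ⟨m + 1, ?_⟩
    rwa [h0, map_zero, sub_zero, mul_one] at h
  · refine Or.inr ⟨j * y * j, (hj.1.mul hy).mul hj.1, InCorner.sandwich hj.2.1 _, ?_, ?_⟩
    · rw [← mul_assoc, ← mul_assoc, hc.2, h1, hj.2.1]
    · rw [mul_assoc, hc.1, mul_assoc, ← hcom.eq, h1, hj.2.1]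

theorem corner_not_invertible {T : Subgroup G} {j x y : Loc hM G} (hj : IsPrim T j)
    (hc : InCorner j x) (hx : IsNilpotent (rd hM x)) : y * x ≠ j := by
  intro hyx
  obtain ⟨n, hn⟩ := hx
  have key : ∀ m : ℕ, ∃ z : Loc hM G, z * x ^ (m + 1) = j := by
    intro m
    induction m with
    | zero => exact ⟨y, by rw [pow_one, hyx]⟩
    | succ m ih =>
      obtain ⟨z, hz⟩ := ih
      refine ⟨z * y, ?_⟩
      rw [pow_succ' x (m + 1), ← mul_assoc, mul_assoc z y x, hyx, mul_assoc, pow_succ', ← mul_assoc j,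
        hc.1, ← pow_succ', hz]
  obtain ⟨z, hz⟩ := key n
  refine prim_rd_ne_zero hj ?_
  rw [← hz, map_mul, map_pow, pow_succ, hn, zero_mul, mul_zero]

end Cfsg.Agent.Star
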