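import Cfsg.Agent.Lib.Star.Trace
import Cfsg.Agent.Lib.BrauerPairs.LocalDefect

/-!
# The pair of a local pointed group (Alperin–Broué)

`subpairLE_of_br_ne_zero`: if `i` is primitive among the `T`-fixed elements and
`br T i * e ≠ 0`, then for `Q ≤ T` every block `f` of `C(Q)` with `br Q i * f ≠ 0` gives a pair
below `(T, e)`.
-/

set_option autoImplicit false
set_option synthInstance.maxHeartbeats 200000
set_option maxHeartbeats 1000000

namespace Cfsg.Agent.Star

open Cfsg Cfsg.Agent.Blocks Cfsg.Agent.BrauerPairs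

variable {G : Type*} [Group G] [Finite G] {p : ℕ} [Fact p.Prime] {M : Ideal AlgInt}
  (hM : IsPModular p M)

theorem exists_block_mul_ne_zero (hM : IsPModular p M) (H : Subgroup G)
    {a : MonoidAlgebra (Res M) G} (ha : a ≠ 0) :
    ∃ b, IsPBlock M b ∧ a * bIdem M H b ≠ 0 := by
  classical
  by_contra hno
  push Not at hno
  refine ha ?_
  rw [← mul_one a, ← sum_bIdem hM H, Finset.mul_sum]
  exact Finset.sum_eq_zero fun b hb => hno b (mem_blocks.1 hb)

theorem self_le_centralizer_centralizer {T : Subgroup G} {a : MonoidAlgebra (Res M) G}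
    (ha : SuppIn (Subgroup.centralizer (T : Set G)) a) : Fixed T a :=
  fun _ hu => cj_eq_self_of_suppIn ha hu

theorem subpairLE_of_br_ne_zero {T : Subgroup G} (hT : IsPGroup p T) {i : Loc hM G}
    (hi : IsPrim T i) {e : Set (IrrCharacter (Subgroup.centralizer (T : Set G)))}
    (he : IsPBlock M e) (hne : br T (rd hM i) * cb M T e ≠ 0) {Q : Subgroup G} (hQT : Q ≤ T)
    {f : Set (IrrCharacter (Subgroup.centralizer (Q : Set G)))} (hf : IsPBlock M f)
    (hfne : br Q (rd hM i) * cb M Q f ≠ 0) : SubpairLE p M Q f T e := by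
  classical
  have := res_charP hM
  have := Fintype.ofFinite G
  have hif := fixed_rd hM hi.1
  have hii : rd hM i * rd hM i = rd hM i := by rw [← map_mul, hi.2.1]
  induction hn : Nat.card T - Nat.card Q using Nat.strong_induction_on generalizing Q with
  | _ n ih =>
  rcases eq_or_lt_of_le hQT with rfl | hlt
  · -- uniqueness at the top
    by_cases hfe : f = e
    · exact hfe ▸ Relation.ReflTransGen.refl
    exfalso
    have hcom : Commute (cb M Q e) (br Q (rd hM i)) := (bIdem_central _ e).2.commute (suppIn_br Q _)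
    have hbb : br Q (rd hM i) * br Q (rd hM i) = br Q (rd hM i) := by
      rw [← br_mul (p := p) hT hif hif, hii]
    have hsupp := (suppIn_br Q (rd hM i)).mul (bIdem_central (Subgroup.centralizer (Q : Set G)) e).1
    have hee := bIdem_mul_self hM he
    obtain ⟨g, hg, hgg, hgc, hbg⟩ := exists_lift_br hT hi.1 hi.2.1
      (self_le_centralizer_centralizer hsupp) hsupp
      (by rw [← mul_assoc, mul_assoc _ (cb M Q e) _, hcom.eq, ← mul_assoc, hbb, mul_assoc, hee])
      (by rw [← mul_assoc, hbb]) (by rw [mul_assoc, hcom.eq, ← mul_assoc, hbb])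
    rcases hi.2.2.2 g hg hgg hgc with h0 | h1
    · exact hne (by rw [← hbg, h0, map_zero, br_zero])
    · refine hfne ?_
      rw [h1] at hbg
      rw [hbg, mul_assoc, bIdem_mul_of_ne hM he hf (Ne.symm hfe), mul_zero]
  have hQ : IsPGroup p Q := hT.to_le hQT
  set N := T ⊓ Subgroup.normalizer (Q : Set G) with hN
  have hQN := lt_inf_normalizer hT hlt
  have hNC : ∀ n ∈ N, ∀ x, x ∈ Subgroup.centralizer (Q : Set G) ↔
      n * x * n⁻¹ ∈ Subgroup.centralizer (Q : Set G) :=
    fun n hn => mem_normalizer_iff_conj (mem_normalizer_centralizer hn.2)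
  let O : Finset (MonoidAlgebra (Res M) G) :=
    (Set.toFinite (Set.range fun n : N => cj (n : G) (cb M Q f))).toFinset
  have hO : ∀ z, z ∈ O ↔ ∃ n : N, cj (n : G) (cb M Q f) = z := fun z => by simp [O]
  have hblock : ∀ z ∈ O, ∃ g, IsPBlock M g ∧ z = cb M Q g ∧
      ∃ n : N, conjIdx (n : G) (⟨Q, f⟩ : BrauerPairIdx G) = ⟨Q, g⟩ := by
    intro z hz
    obtain ⟨n, rfl⟩ := (hO z).1 hz
    refine ⟨conjImg _ _ (n : G) (hNC n n.2) f, isPBlock_conjImg _ hf, cj_bIdem hM _ f, n, ?_⟩
    refine idx_ext hM (conjSub_eq_self_iff.2 n.2.2) (isPBlock_conjBlock _ _ hf) (isPBlock_conjImg _ hf) ?_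
    show cb M (conjSub (n : G) Q) (conjBlock Q n f) = cb M Q _
    rw [← cj_cb hM]
    exact cj_bIdem hM _ f
  set F := ∑ z ∈ O, z with hF
  have hFf : F * cb M Q f = cb M Q f := by
    rw [hF, Finset.sum_mul, Finset.sum_eq_single (cb M Q f), bIdem_mul_self hM hf]
    · intro z hz hzne
      obtain ⟨g, hg, rfl, -⟩ := hblock z hz
      exact bIdem_mul_of_ne hM hg hf fun h => hzne (by rw [h])
    · exact fun h => absurd ((hO _).2 ⟨1, by rw [Subgroup.coe_one, cj_one]⟩) h
  have hFFix : Fixed N F := by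
    intro u hu
    rw [hF, map_sum]
    refine Finset.sum_nbij (cj u) (fun z hz => ?_) ((cj u).injective.injOn) (fun z hz => ?_)
      fun _ _ => rfl
    · obtain ⟨n, rfl⟩ := (hO z).1 hz
      exact (hO _).2 ⟨⟨u, hu⟩ * n, by rw [Subgroup.coe_mul, cj_mul]⟩
    · obtain ⟨n, rfl⟩ := (hO z).1 hz
      refine ⟨cj (u⁻¹ * (n : G)) (cb M Q f), (hO _).2 ⟨⟨u⁻¹, N.inv_mem hu⟩ * n, by rw [Subgroup.coe_mul]⟩, ?_⟩
      rw [← cj_mul, mul_inv_cancel_left]
  have hFsupp : SuppIn (Subgroup.centralizer (Q : Set G)) F := SuppIn.sum _ fun z hz => by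
    obtain ⟨g, -, rfl, -⟩ := hblock z hz
    exact (bIdem_central _ g).1
  have hFF : F * F = F := by
    conv_lhs => arg 2; rw [hF]
    rw [Finset.mul_sum, hF]
    refine Finset.sum_congr rfl fun z hz => ?_
    obtain ⟨g, hg, rfl, -⟩ := hblock z hz
    rw [Finset.sum_mul, Finset.sum_eq_single (cb M Q g), bIdem_mul_self hM hg]
    · intro w hw hwne
      obtain ⟨g', hg', rfl, -⟩ := hblock w hw
      exact bIdem_mul_of_ne hM hg' hg fun h => hwne (by rw [h])
    · exact fun h => absurd hz h
  set ibr := br Q (rd hM i) with hibr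
  have hFc : Commute F ibr := by
    show (∑ z ∈ O, z) * ibr = ibr * ∑ z ∈ O, z
    rw [Finset.sum_mul, Finset.mul_sum]
    refine Finset.sum_congr rfl fun z hz => ?_
    obtain ⟨g, -, rfl, -⟩ := hblock z hz
    exact (bIdem_central _ g).2.commute (suppIn_br Q _)
  have hibrf : Fixed N ibr := Fixed.br (hif.mono inf_le_left) inf_le_right
  have hibb : ibr * ibr = ibr := by
    rw [hibr, ← br_mul (p := p) hQ (hif.mono hQT) (hif.mono hQT), hii]
  set z := ibr * F with hz
  have hzz : z * z = z := by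
    rw [hz, mul_assoc, ← mul_assoc F, hFc.eq, mul_assoc, hFF, ← mul_assoc, hibb]
  have hzfix : Fixed N z := hibrf.mul hFFix
  have hzsupp : SuppIn (Subgroup.centralizer (Q : Set G)) z := (suppIn_br Q _).mul hFsupp
  have hzf : z * cb M Q f ≠ 0 := by rwa [hz, mul_assoc, hFf]
  by_cases hX : ∃ X : Subgroup G, Q < X ∧ X ≤ N ∧ br X z ≠ 0
  · obtain ⟨X, hQX, hXN, hXz⟩ := hX
    have hXT : X ≤ T := hXN.trans inf_le_left
    have hXp : IsPGroup p X := hT.to_le hXT
    rw [hz, br_mul (p := p) hXp (hibrf.mono hXN) (hFFix.mono hXN), hibr, br_br hQX.le] at hXz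
    obtain ⟨h, hh, hne'⟩ := exists_block_mul_ne_zero hM (Subgroup.centralizer (X : Set G)) hXz
    have hcomh : Commute (cb M X h) (br X F) := (bIdem_central _ h).2.commute (suppIn_br X _)
    have hh1 : br X (rd hM i) * cb M X h ≠ 0 := fun h0 => hne' (by
      rw [mul_assoc, ← hcomh.eq, ← mul_assoc]
      exact mul_eq_zero_of_left h0 _)
    have hh2 : br X F * cb M X h ≠ 0 := fun h0 => hne' (by rw [mul_assoc]; exact mul_eq_zero_of_right _ h0)
    have hcard : Nat.card Q < Nat.card X := by
      by_contra hle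
      exact hQX.ne (Subgroup.eq_of_le_of_card_ge hQX.le (not_lt.1 hle))
    have hXle := ih (Nat.card T - Nat.card X) (by
      have := Subgroup.card_le_of_le hXT
      omega) hXT hh hh1 rfl
    -- a fixed member of the orbit lies below
    obtain ⟨w, hwO, hwfix, hwne⟩ : ∃ w ∈ O, Fixed X w ∧ br X w * cb M X h ≠ 0 := by
      by_contra hno
      push Not at hno
      refine hh2 ?_
      have hmem : ∀ (u : X) (w : O), cj (u : G) (w : MonoidAlgebra (Res M) G) ∈ O := fun u w => by
        obtain ⟨n, hn⟩ := (hO _).1 w.2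
        exact (hO _).2 ⟨⟨u, hXN u.2⟩ * n, by rw [Subgroup.coe_mul, cj_mul, hn]⟩
      let _ : MulAction X O :=
        { smul := fun u w => ⟨cj (u : G) (w : MonoidAlgebra (Res M) G), hmem u w⟩
          one_smul := fun w => Subtype.ext (by
            show cj ((1 : X) : G) (w : MonoidAlgebra (Res M) G) = w
            rw [Subgroup.coe_one, cj_one])
          mul_smul := fun u v w => Subtype.ext (by
            show cj ((u * v : X) : G) (w : MonoidAlgebra (Res M) G) = cj (u : G) (cj (v : G) _)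
            rw [Subgroup.coe_mul, cj_mul]) }
      have hiff : ∀ (u : X) (w : O), Fixed X ((u • w : O) : MonoidAlgebra (Res M) G) ↔
          Fixed X (w : MonoidAlgebra (Res M) G) := by
        intro u w
        show Fixed X (cj (u : G) (w : MonoidAlgebra (Res M) G)) ↔ _
        refine ⟨fun hfx => ?_, fun hfx => by rw [hfx _ u.2]; exact hfx⟩
        have h' := hfx _ (X.inv_mem u.2)
        rw [cj_inv_cj] at h'
        rwa [← h'] at hfx
      let nf : O → MonoidAlgebra (Res M) G := fun w =>
        if Fixed X (w : MonoidAlgebra (Res M) G) then 0 else w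
      have hnf : br X (∑ w : O, nf w) = 0 := by
        refine br_sum_eq_zero_of_no_fixed (p := p) hXp nf (fun u w => ?_)
          fun w hw => if_pos fun u hu => congrArg Subtype.val (hw ⟨u, hu⟩)
        by_cases hw : Fixed X (w : MonoidAlgebra (Res M) G)
        · simp only [nf, if_pos hw, if_pos ((hiff u w).2 hw), map_zero]
        · simp only [nf, if_neg hw, if_neg fun h' => hw ((hiff u w).1 h')]
          rfl
      have hsplit : F = (∑ w : O, nf w) + ∑ w : O,
          (if Fixed X (w : MonoidAlgebra (Res M) G) then (w : MonoidAlgebra (Res M) G) else 0) := by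
        rw [hF, ← Finset.sum_coe_sort O (fun w => w), ← Finset.sum_add_distrib]
        refine Finset.sum_congr rfl fun w _ => ?_
        by_cases hw : Fixed X (w : MonoidAlgebra (Res M) G) <;> simp [nf, hw]
      rw [hsplit, br_add, hnf, zero_add, br_sum, Finset.sum_mul]
      refine Finset.sum_eq_zero fun w _ => ?_
      by_cases hw : Fixed X (w : MonoidAlgebra (Res M) G)
      · rw [if_pos hw]; exact hno _ w.2 hw
      · rw [if_neg hw, br_zero, zero_mul]
    obtain ⟨f1, hf1, rfl, n1, hn1⟩ := hblock w hwO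
    have hCC : Subgroup.centralizer (X : Set G) ≤ Subgroup.centralizer (Q : Set G) :=
      Subgroup.centralizer_le hQX.le
    have hsub : IsNormalSubpair p M Q f1 X h := (isNormalSubpair_iff hM).2
      ⟨⟨hQ, hf1⟩, ⟨hXp, hh⟩, hQX.le, hXN.trans inf_le_right, hwfix,
        (cb_mul_eq_zero_or hM (br_bIdem_central hM hCC f1) (br_bIdem_mul_self hM hXp hf1 hwfix)
          hh).resolve_right hwne⟩
    have hle1 : SubpairLE p M Q f1 T e :=
      Relation.ReflTransGen.head (b := (⟨X, h⟩ : BrauerPairIdx G)) hsub hXle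
    have hle2 := subpairLE_conj hM hle1 ((n1⁻¹ : N) : G)
    have hTe : conjIdx ((n1⁻¹ : N) : G) (⟨T, e⟩ : BrauerPairIdx G) = ⟨T, e⟩ := by
      refine idx_ext hM (conjSub_eq_self_iff.2 (Subgroup.le_normalizer (n1⁻¹).2.1))
        (isPBlock_conjBlock _ _ he) he ?_
      show cb M (conjSub _ T) (conjBlock T _ e) = cb M T e
      rw [← cj_cb hM]
      exact cj_eq_self_of_suppIn (bIdem_central _ e).1 (n1⁻¹).2.1
    have hQf : conjIdx ((n1⁻¹ : N) : G) (⟨Q, f1⟩ : BrauerPairIdx G) = ⟨Q, f⟩ := by
      rw [← hn1, conjIdx_conjIdx hM _ _ (a := (⟨Q, f⟩ : BrauerPairIdx G)) hf, ← Subgroup.coe_mul,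
        inv_mul_cancel, Subgroup.coe_one, conjIdx_one hM (a := (⟨Q, f⟩ : BrauerPairIdx G)) hf]
    unfold SubpairLE at hle2 ⊢
    rw [← hTe, ← hQf]
    exact hle2
  · exfalso
    push Not at hX
    have hstab : ∀ x, z.coeff x ≠ 0 → ∀ t ∈ N, t * x * t⁻¹ = x → t ∈ Q := by
      intro x hx t ht htx
      by_contra htQ
      let X := N ⊓ Subgroup.centralizer ({x} : Set G)
      have hxQ : Q ≤ X := le_inf hQN.le (le_centralizer_singleton.2 (hzsupp.mem_of_ne hx))
      have htX : t ∈ X := ⟨ht, Subgroup.mem_centralizer_singleton_iff.2 (by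
        calc t * x = t * x * t⁻¹ * t := by group
          _ = x * t := by rw [htx])⟩
      have hlt' : Q < X := lt_of_le_of_ne hxQ fun h => htQ (h ▸ htX)
      have h0 := congrArg (fun w : MonoidAlgebra (Res M) G => w.coeff x) (hX X hlt' inf_le_left)
      simp only [coeff_br, MonoidAlgebra.coeff_zero, Finsupp.zero_apply] at h0
      rw [if_pos (le_centralizer_singleton.1 inf_le_right)] at h0
      exact hx h0
    obtain ⟨c, hc, hct, hcs⟩ := exists_relTr hzfix hQN.le hstab
    have hcsupp : SuppIn (Subgroup.centralizer (Q : Set G)) c := fun x hx => hcs x (hzsupp x hx)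
    have hwf : Fixed Q (i * liftEl hM c * i) :=
      ((hi.1.mono hQT).mul (fixed_liftEl hM hc)).mul (hi.1.mono hQT)
    set w := relTr Q T (i * liftEl hM c * i) with hw
    have hwc : InCorner i w :=
      ⟨by rw [hw, mul_relTr hi.1, (InCorner.sandwich hi.2.1 _).1],
        by rw [hw, relTr_mul hi.1, (InCorner.sandwich hi.2.1 _).2]⟩
    have hwT : Fixed T w := fixed_relTr hwf
    have hbw : br Q (rd hM w) = z := by
      rw [hw, rd_relTr, br_relTr_self hQ hQT (fixed_rd hM hwf), map_mul, map_mul, rd_liftEl,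
        br_mul (p := p) hQ ((hif.mono hQT).mul hc) (hif.mono hQT),
        br_mul (p := p) hQ (hif.mono hQT) hc, br_eq_self hcsupp, ← hibr, ← hN,
        ← relTr_mul hibrf, ← mul_relTr hibrf, hct, hz, ← mul_assoc, hibb, mul_assoc, hFc.eq,
        ← mul_assoc, hibb]
    rcases prim_dichotomy hi hwT hwc with ⟨m, hm⟩ | ⟨y, hy, -, -, hyw⟩
    · have h1 := congrArg (br Q) hm
      rw [br_zero, br_pow (p := p) hQ ((fixed_rd hM hwT).mono hQT), hbw] at h1
      rcases Nat.eq_zero_or_pos m with rfl | hm0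
      · rw [pow_zero] at h1
        exact hzf (by rw [← mul_one z, h1, mul_zero, zero_mul])
      · have h2 : z ^ m = z := by
          obtain ⟨m, rfl⟩ := Nat.exists_eq_succ_of_ne_zero hm0.ne'
          exact (show IsIdempotentElem z from hzz).pow_succ_eq m
        rw [h2] at h1
        exact hzf (by rw [h1, zero_mul])
    · refine hne ?_
      have hno : ∀ t ∈ T, ∃ s ∈ T, t⁻¹ * s * t ∉ Q := by
        intro t ht
        obtain ⟨x, hx, hxQ⟩ := SetLike.exists_of_lt hlt
        exact ⟨t * x * t⁻¹, mul_mem (mul_mem ht hx) (inv_mem ht), by simpa [mul_assoc] using hxQ⟩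
      rw [← hyw, map_mul, br_mul (p := p) hT (fixed_rd hM hy) (fixed_rd hM hwT), hw, rd_relTr,
        br_relTr_eq_zero (p := p) hT le_rfl (fixed_rd hM hwf) hno, mul_zero, zero_mul]

end Cfsg.Agent.Star
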