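import Cfsg.Agent.Lib.Star.Construct
import Cfsg.Agent.Lib.Blocks.HeightZero

/-!
# The star construction as an action on a block

* `sum_piece_mul` (orthogonality of the pieces), `exists_star_irr`, `star_star`, `star_one`;
* `star_eq_self_imp` (a fixed character forces `l = 1` where its pieces do not vanish).
-/

set_option autoImplicit false
set_option synthInstance.maxHeartbeats 200000
set_option maxHeartbeats 1000000

open scoped ComplexConjugate

namespace Cfsg.Agent.Star

open Cfsg Cfsg.Agent.Blocks Cfsg.Agent.BrauerPairs Cfsg.Agent.SecondMain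

variable {G : Type*} [Group G] [Finite G] {p : ℕ} [Fact p.Prime] {M : Ideal AlgInt}
  (hM : IsPModular p M) {B : Set (IrrCharacter G)} {P : Subgroup G}
  {e : Set (IrrCharacter (Subgroup.centralizer (P : Set G)))} {F : FusionSystem P}
  {l m : P →* ℂˣ}

open scoped Classical in
/-- The `p'`-elements commuting with `u`. -/
noncomputable def regSet (p : ℕ) (u : G) : Finset G :=
  (Set.toFinite {s : G | Commute u s ∧ ¬ p ∣ orderOf s}).toFinset

omit [Fact p.Prime] in
theorem mem_regSet {u s : G} : s ∈ regSet p u ↔ Commute u s ∧ ¬ p ∣ orderOf s := by simp [regSet]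

/-- The norm of a piece on a section. -/
noncomputable def pieceNorm (p : ℕ) (a : BrauerPairIdx G) (χ : G → ℂ) (u : G) : ℂ :=
  ∑ s ∈ regSet p u, piece a χ (u * s) * conj (piece a χ (u * s))

omit [Fact p.Prime] in
open scoped Classical in
theorem sum_regSet (u : G) [Fintype (Subgroup.centralizer (Subgroup.zpowers u : Set G))]
    (f : G → ℂ) : ∑ s ∈ regSet p u, f s =
      ∑ s ∈ (Finset.univ : Finset (Subgroup.centralizer (Subgroup.zpowers u : Set G))).filter
        (fun s => ¬ p ∣ orderOf s), f (s : G) := by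
  symm
  refine Finset.sum_nbij Subtype.val (fun s hs => mem_regSet.2 ⟨mem_centralizer_zpowers_iff.1 s.2,
    by rw [Subgroup.orderOf_coe]; exact (Finset.mem_filter.1 hs).2⟩) Subtype.val_injective.injOn
    (fun s hs => ?_) fun _ _ => rfl
  obtain ⟨h1, h2⟩ := mem_regSet.1 hs
  exact ⟨⟨s, mem_centralizer_zpowers_iff.2 h1⟩, Finset.mem_filter.2 ⟨Finset.mem_univ _,
    by rwa [← Subgroup.orderOf_coe]⟩, rfl⟩

section blocks

variable {H : Type*} [Group H] [Finite H]

theorem blockPart_eq_sum_classInner [Fintype H] (b : Set (IrrCharacter H)) [Fintype b]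
    (θ : H → ℂ) (y : H) :
    blockPart b θ y = ∑ η : b, classInner θ ((η : IrrCharacter H) : H → ℂ) *
      ((η : IrrCharacter H) : H → ℂ) y := by
  classical
  rw [blockPart_apply, finsum_mem_eq_toFinset_sum, Finset.sum_subtype b.toFinset (fun _ => Set.mem_toFinset)]

open scoped Classical in
include hM in
theorem sum_reg_blockPart_mul_eq_zero [Fintype H] {b b' : Set (IrrCharacter H)}
    (hb : IsPBlock M b) (hb' : IsPBlock M b') (hne : b ≠ b') (θ θ' : H → ℂ) :
    ∑ s ∈ (Finset.univ : Finset H).filter (fun s => ¬ p ∣ orderOf s),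
      blockPart b θ s * conj (blockPart b' θ' s) = 0 := by
  have := Fintype.ofFinite (IrrCharacter H)
  simp only [blockPart_eq_sum_classInner, Finset.sum_mul, map_sum, map_mul, Finset.mul_sum]
  rw [Finset.sum_comm]
  refine Finset.sum_eq_zero fun η' _ => ?_
  rw [Finset.sum_comm]
  refine Finset.sum_eq_zero fun η _ => ?_
  have h0 : ∑ s ∈ (Finset.univ : Finset H).filter (fun s => ¬ p ∣ orderOf s),
      ((η : IrrCharacter H) : H → ℂ) s * conj (((η' : IrrCharacter H) : H → ℂ) s) = 0 := by
    have h := regInner_eq_zero hM hb η.2 (ζ := (η' : IrrCharacter H))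
      fun h => hne (isPBlock_eq_of_mem hM hb hb' h η'.2)
    rw [regInner_eq_sum] at h
    exact (mul_eq_zero.1 h).resolve_left (inv_ne_zero card_ne_zero_C)
  calc ∑ s ∈ (Finset.univ : Finset H).filter (fun s => ¬ p ∣ orderOf s),
        classInner θ ((η : IrrCharacter H) : H → ℂ) * ((η : IrrCharacter H) : H → ℂ) s *
          (conj (classInner θ' ((η' : IrrCharacter H) : H → ℂ)) *
            conj (((η' : IrrCharacter H) : H → ℂ) s))
      = classInner θ ((η : IrrCharacter H) : H → ℂ) *
          conj (classInner θ' ((η' : IrrCharacter H) : H → ℂ)) *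
          ∑ s ∈ (Finset.univ : Finset H).filter (fun s => ¬ p ∣ orderOf s),
            ((η : IrrCharacter H) : H → ℂ) s * conj (((η' : IrrCharacter H) : H → ℂ) s) := by
        rw [Finset.mul_sum]
        exact Finset.sum_congr rfl fun s _ => by ring
    _ = 0 := by rw [h0, mul_zero]

end blocks

include hM in
/-- The pieces are orthogonal on each section. -/
theorem sum_piece_mul {u : G} (S : Finset (BrauerPairIdx G)) (hS : S ⊆ pairsAt M u)
    (c : BrauerPairIdx G → ℂ) {χ : G → ℂ} (hχ : IsClassFunction G χ) {b : BrauerPairIdx G}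
    (hb : b ∈ S) :
    ∑ s ∈ regSet p u, (∑ a ∈ S, c a * piece a χ (u * s)) * conj (piece b χ (u * s)) =
      c b * pieceNorm p b χ u := by
  classical
  simp only [Finset.sum_mul]
  rw [Finset.sum_comm, Finset.sum_eq_single b]
  · rw [pieceNorm, Finset.mul_sum]
    exact Finset.sum_congr rfl fun s _ => mul_assoc _ _ _
  · intro a ha hab
    obtain ⟨h1, h2⟩ := mem_pairsAt.1 (hS ha)
    obtain ⟨h3, h4⟩ := mem_pairsAt.1 (hS hb)
    obtain ⟨V, A⟩ := a
    obtain rfl : V = Subgroup.zpowers u := h1
    obtain ⟨W, A'⟩ := b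
    obtain rfl : W = Subgroup.zpowers u := h3
    have := Fintype.ofFinite (Subgroup.centralizer (Subgroup.zpowers u : Set G))
    rw [sum_regSet u]
    simp only [piece_eq_blockPart _ hχ, mul_assoc]
    rw [← Finset.mul_sum, sum_reg_blockPart_mul_eq_zero hM h2 h4
      (fun h => hab (by rw [show A = A' from h])), mul_zero]
  · exact fun h => absurd hb h

omit [Fact p.Prime] in
theorem pieceNorm_eq_zero_iff (a : BrauerPairIdx G) (χ : G → ℂ) (u : G) :
    pieceNorm p a χ u = 0 ↔ ∀ s ∈ regSet p u, piece a χ (u * s) = 0 := by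
  constructor
  · intro h
    have h' : ∑ s ∈ regSet p u, Complex.normSq (piece a χ (u * s)) = 0 := by
      apply Complex.ofReal_injective
      push_cast
      rw [← h]
      exact Finset.sum_congr rfl fun s _ => (Complex.mul_conj _).symm
    exact fun s hs => Complex.normSq_eq_zero.1
      ((Finset.sum_eq_zero_iff_of_nonneg fun s _ => Complex.normSq_nonneg _).1 h' s hs)
  · intro h
    exact Finset.sum_eq_zero fun s hs => by rw [h s hs, zero_mul]

omit [Finite G] [Fact p.Prime] in
theorem unit_norm [Finite P] (x : P) : (l x : ℂ) * conj (l x : ℂ) = 1 := by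
  have h : ‖(l x : ℂ)‖ = 1 := by
    refine Complex.norm_eq_one_of_pow_eq_one (n := Nat.card P) ?_ Nat.card_pos.ne'
    rw [← Units.val_pow_eq_pow_val, ← map_pow, pow_card_eq_one', map_one, Units.val_one]
  rw [Complex.mul_conj, Complex.normSq_eq_norm_sq, h, one_pow, Complex.ofReal_one]

include hM in
theorem section_norm (hmax : IsMaximalBrauerPair p M B P e) (hF : IsBlockFusionSystemOn p M B P e F)
    (hl : IsFocTrivial F l) {χ : IrrCharacter G} (hχ : χ ∈ B) {u : G}
    (hu : ∃ k, orderOf u = p ^ k) :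
    ∑ s ∈ regSet p u, star p M P e l (χ : G → ℂ) (u * s) * conj (star p M P e l (χ : G → ℂ) (u * s)) =
      ∑ s ∈ regSet p u, (χ : G → ℂ) (u * s) * conj ((χ : G → ℂ) (u * s)) := by
  classical
  set S := (pairsAt M u).filter fun a => IsBrauerPairOf p M B a.1 a.2 with hS
  have hsub : S ⊆ pairsAt M u := Finset.filter_subset _ _
  have key : ∀ c : BrauerPairIdx G → ℂ,
      ∑ s ∈ regSet p u, (∑ a ∈ S, c a * piece a (χ : G → ℂ) (u * s)) *
          conj (∑ a ∈ S, c a * piece a (χ : G → ℂ) (u * s)) =
        ∑ a ∈ S, (c a * conj (c a)) * pieceNorm p a (χ : G → ℂ) u := by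
    intro c
    simp only [map_sum, map_mul, Finset.mul_sum]
    rw [Finset.sum_comm]
    refine Finset.sum_congr rfl fun b hb => ?_
    rw [mul_comm (c b), mul_assoc, ← sum_piece_mul hM S hsub c (irr_class χ) hb, Finset.mul_sum]
    exact Finset.sum_congr rfl fun s _ => by ring
  have h1 : ∀ s ∈ regSet p u, star p M P e l (χ : G → ℂ) (u * s) =
      ∑ a ∈ S, wgt p M P e l u a * piece a (χ : G → ℂ) (u * s) := fun s hs =>
    star_apply hM hmax hF hl _ hu (mem_regSet.1 hs).2 (mem_regSet.1 hs).1
  have h2 : ∀ s ∈ regSet p u, (χ : G → ℂ) (u * s) =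
      ∑ a ∈ S, (1 : ℂ) * piece a (χ : G → ℂ) (u * s) := fun s hs => by
    simp only [one_mul]
    exact (sum_piece_pairs hM hu (mem_regSet.1 hs).2 (mem_regSet.1 hs).1 hmax.1.2.1 hχ).symm
  rw [Finset.sum_congr rfl fun s hs => by rw [h1 s hs],
    Finset.sum_congr rfl fun s hs => show (χ : G → ℂ) (u * s) * conj ((χ : G → ℂ) (u * s)) = _ by
      rw [h2 s hs]]
  rw [key, key]
  refine Finset.sum_congr rfl fun a ha => ?_
  obtain ⟨ha, haB⟩ := Finset.mem_filter.1 ha
  obtain ⟨x, -, hw⟩ := (wgt_cases hM hmax hF hl ha).1 haB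
  rw [hw, unit_norm, map_one, mul_one]

/-- Sums over the group, split by the `p`-part. -/
theorem sum_by_sections [Fintype G] (f : G → ℂ) :
    ∑ g, f g = ∑ u ∈ (Set.toFinite {u : G | ∃ k, orderOf u = p ^ k}).toFinset,
      ∑ s ∈ regSet p u, f (u * s) := by
  classical
  rw [← Finset.sum_fiberwise_of_maps_to (s := (Finset.univ : Finset G)) (g := fun g => g ^ ppExp p G)
    (t := (Set.toFinite {u : G | ∃ k, orderOf u = p ^ k}).toFinset) (f := f)
    (fun g _ => by
      obtain ⟨u, s, -, hu, -, -, he⟩ := exists_parts (p := p) g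
      simpa [he] using hu)]
  refine Finset.sum_congr rfl fun u hu => ?_
  replace hu : ∃ k, orderOf u = p ^ k := by simpa using hu
  symm
  refine Finset.sum_nbij (u * ·) (fun s hs => ?_) (mul_right_injective u).injOn (fun g hg => ?_)
    fun _ _ => rfl
  · obtain ⟨hc, hr⟩ := mem_regSet.1 hs
    simp [pow_ppExp hu hr hc]
  · obtain ⟨v, s, rfl, hv, hr, hc, he⟩ := exists_parts (p := p) g
    have : v = u := by
      have := (Finset.mem_filter.1 hg).2
      exact he.symm.trans this
    subst this
    exact ⟨s, mem_regSet.2 ⟨hc, hr⟩, rfl⟩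

include hM in
/-- The star construction gives a character of the block of the same height. -/
theorem exists_star_irr (hmax : IsMaximalBrauerPair p M B P e)
    (hF : IsBlockFusionSystemOn p M B P e F) (hl : IsFocTrivial F l) {χ : IrrCharacter G}
    (hχ : χ ∈ B) : ∃ ψ : IrrCharacter G, (ψ : G → ℂ) = star p M P e l (χ : G → ℂ) ∧ ψ ∈ B ∧
      blockHeight p B (ψ : G → ℂ) = blockHeight p B (χ : G → ℂ) := by
  classical
  have := Fintype.ofFinite G
  have hp : p.Prime := Fact.out
  set f := star p M P e l (χ : G → ℂ) with hf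
  have hgen := isGeneralizedCharacter_star hM hmax hF hl
    (Char.IsIrrCharacter.isCharacter χ.2) (χ := (χ : G → ℂ))
  have hnorm : classInner f f = 1 := by
    rw [← Char.classInner_irr_self χ.2]
    simp only [classInner]
    rw [sum_by_sections (p := p), sum_by_sections (p := p)]
    congr 1
    exact Finset.sum_congr rfl fun u hu => section_norm hM hmax hF hl hχ (by simpa using hu)
  have hone : f 1 = (χ : G → ℂ) 1 :=
    star_apply_regular hM hmax hF hl hχ (by rw [orderOf_one]; exact hp.one_lt.ne' ∘ Nat.dvd_one.1)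
  obtain ⟨ψ, hψ, hpm⟩ := Char.IsGeneralizedCharacter.exists_irr_of_norm_one hgen hnorm
  have heq : f = ψ := by
    rcases hpm with h | h
    · exact h
    · exfalso
      have h1 : f 1 = -(ψ 1) := by rw [hf, h]; rfl
      have hψ1 : (charDegree ψ : ℂ) = ψ 1 := charDegree_cast (⟨ψ, hψ⟩ : IrrCharacter G)
      rw [hone, ← charDegree_cast χ, ← hψ1] at h1
      have h2 : ((charDegree (χ : G → ℂ) + charDegree ψ : ℕ) : ℂ) = 0 := by
        push_cast
        rw [h1]
        ring
      have := charDegree_pos χ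
      rw [Nat.cast_eq_zero] at h2
      omega
  refine ⟨⟨ψ, hψ⟩, heq.symm, ?_, ?_⟩
  · by_contra hn
    have h0 := regInner_eq_zero hM hmax.1.2.1 hχ (ζ := ⟨ψ, hψ⟩) hn
    rw [regInner_eq_sum] at h0
    replace h0 := (mul_eq_zero.1 h0).resolve_left (inv_ne_zero card_ne_zero_C)
    have h1 : ∑ g ∈ Finset.univ.filter (fun g : G => ¬ p ∣ orderOf g),
        (χ : G → ℂ) g * conj ((χ : G → ℂ) g) = 0 := by
      rw [← h0]
      refine Finset.sum_congr rfl fun g hg => ?_
      show _ = _ * conj (ψ g)
      rw [← heq, hf, star_apply_regular hM hmax hF hl hχ (Finset.mem_filter.1 hg).2]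
    have h2 : ∑ g ∈ Finset.univ.filter (fun g : G => ¬ p ∣ orderOf g),
        Complex.normSq ((χ : G → ℂ) g) = 0 := by
      apply Complex.ofReal_injective
      push_cast
      rw [← h1]
      exact Finset.sum_congr rfl fun s _ => (Complex.mul_conj _).symm
    have h3 := (Finset.sum_eq_zero_iff_of_nonneg fun s _ => Complex.normSq_nonneg _).1 h2 1
      (Finset.mem_filter.2 ⟨Finset.mem_univ _, by
        rw [orderOf_one]; exact hp.one_lt.ne' ∘ Nat.dvd_one.1⟩)
    exact irr_one_ne_zero χ (Complex.normSq_eq_zero.1 h3)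
  · have hd : charDegree ψ = charDegree (χ : G → ℂ) := by
      have h1 := charDegree_cast χ
      have h2 := charDegree_cast (⟨ψ, hψ⟩ : IrrCharacter G)
      have h3 : (charDegree ψ : ℂ) = (charDegree (χ : G → ℂ) : ℂ) := by
        rw [h1, ← hone, heq]; exact h2
      exact_mod_cast h3
    show blockHeight p B ψ = _
    rw [blockHeight, blockHeight, hd]

theorem isFocTrivial_mul (hl : IsFocTrivial F l) (hm : IsFocTrivial F m) :
    IsFocTrivial F (l * m) := fun x hx => by
  rw [MonoidHom.mul_apply, hl x hx, hm x hx, one_mul]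

theorem isFocTrivial_one : IsFocTrivial F (1 : P →* ℂˣ) := fun _ _ => rfl

include hM in
theorem star_one (hmax : IsMaximalBrauerPair p M B P e) (hF : IsBlockFusionSystemOn p M B P e F)
    {χ : IrrCharacter G} (hχ : χ ∈ B) : star p M P e 1 (χ : G → ℂ) = (χ : G → ℂ) := by
  classical
  funext g
  obtain ⟨u, s, rfl, hu, hs, hc, -⟩ := exists_parts (p := p) g
  rw [star_apply hM hmax hF isFocTrivial_one _ hu hs hc,
    ← sum_piece_pairs hM hu hs hc hmax.1.2.1 hχ]
  refine Finset.sum_congr rfl fun a ha => ?_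
  obtain ⟨ha, haB⟩ := Finset.mem_filter.1 ha
  obtain ⟨x, -, hw⟩ := (wgt_cases hM hmax hF isFocTrivial_one ha).1 haB
  rw [hw, MonoidHom.one_apply, Units.val_one, one_mul]

include hM in
/-- The star construction is an action. -/
theorem star_star (hmax : IsMaximalBrauerPair p M B P e) (hF : IsBlockFusionSystemOn p M B P e F)
    (hl : IsFocTrivial F l) (hm : IsFocTrivial F m) {χ : IrrCharacter G} :
    star p M P e l (star p M P e m (χ : G → ℂ)) = star p M P e (l * m) (χ : G → ℂ) := by
  classical
  funext g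
  obtain ⟨u, s, rfl, hu, hs, hc, -⟩ := exists_parts (p := p) g
  rw [star_apply hM hmax hF hl _ hu hs hc, star_apply hM hmax hF (isFocTrivial_mul hl hm) _ hu hs hc]
  refine Finset.sum_congr rfl fun a ha => ?_
  obtain ⟨ha, haB⟩ := Finset.mem_filter.1 ha
  have hmem := mem_pairsAt.1 ha
  have hw : wgt p M P e (l * m) u a = wgt p M P e l u a * wgt p M P e m u a := by
    obtain ⟨x, hx⟩ := exists_conj_le_maximal hM hmax haB
    rw [wgt_eq hM hF (isFocTrivial_mul hl hm) hmem.1 hmem.2 (x := x) hx,
      wgt_eq hM hF hl hmem.1 hmem.2 (x := x) hx, wgt_eq hM hF hm hmem.1 hmem.2 (x := x) hx]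
    simp only [lval]
    split_ifs <;> simp
  have hpiece : piece a (star p M P e m (χ : G → ℂ)) (u * s) =
      wgt p M P e m u a * piece a (χ : G → ℂ) (u * s) := by
    obtain ⟨V, A⟩ := a
    obtain rfl : V = Subgroup.zpowers u := hmem.1
    have := Fintype.ofFinite (Subgroup.centralizer (Subgroup.zpowers u : Set G))
    have := Fintype.ofFinite (IrrCharacter (Subgroup.centralizer (Subgroup.zpowers u : Set G)))
    let s' : (Subgroup.centralizer (Subgroup.zpowers u : Set G)) := ⟨s, mem_centralizer_zpowers_iff.2 hc⟩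
    have hs' : ¬ p ∣ orderOf s' := by rw [← Subgroup.orderOf_coe]; exact hs
    have hθ : ∀ A' : Set (IrrCharacter (Subgroup.centralizer (Subgroup.zpowers u : Set G))), IsClassFunction (Subgroup.centralizer (Subgroup.zpowers u : Set G))
        fun c : (Subgroup.centralizer (Subgroup.zpowers u : Set G)) => (χ : G → ℂ) (u * (c : G)) := fun _ =>
      isClassFunction_shift (fun h hh => mem_centralizer_zpowers_iff.1 hh) (irr_class χ)
    set θ := fun c : (Subgroup.centralizer (Subgroup.zpowers u : Set G)) => (χ : G → ℂ) (u * (c : G)) with hθdef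
    rw [show s = (s' : G) from rfl,
      piece_eq_blockPart A (isClassFunction_star hM hF hm (irr_class χ)) s',
      piece_eq_blockPart A (irr_class χ) s']
    rw [blockPart_congr_regular hM hmem.2 (θ' := ∑ b ∈ (blocks M (Subgroup.centralizer (Subgroup.zpowers u : Set G))).filter
        (fun b => IsBrauerPairOf p M B (Subgroup.zpowers u) b),
        wgt p M P e m u ⟨Subgroup.zpowers u, b⟩ • fun c => blockPart b θ c) (fun c hc' => ?_) hs']
    · rw [blockPart_sum_smul, Finset.sum_eq_single A]
      · congr 1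
        rw [blockPart_eq_sum_classInner, blockPart_eq_sum_classInner]
        refine Finset.sum_congr rfl fun η _ => ?_
        congr 1
        rw [show (fun c => blockPart A θ c) = ∑ ζ ∈ A.toFinset, classInner θ (ζ : (Subgroup.centralizer (Subgroup.zpowers u : Set G)) → ℂ) • (ζ : (Subgroup.centralizer (Subgroup.zpowers u : Set G)) → ℂ)
          from ?_, Char.classInner_sum_smul _ _ _ (Set.mem_toFinset.2 η.2)]
        funext c
        rw [blockPart_apply, finsum_mem_eq_toFinset_sum, Finset.sum_apply]
        rfl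
      · intro b hb hne
        refine mul_eq_zero_of_right _ ?_
        rw [blockPart_eq_sum_classInner]
        refine Finset.sum_eq_zero fun η _ => mul_eq_zero_of_left ?_ _
        have hbb : IsPBlock M b := mem_blocks.1 (Finset.mem_filter.1 hb).1
        rw [show (fun c => blockPart b θ c) = ∑ ζ ∈ b.toFinset, classInner θ (ζ : (Subgroup.centralizer (Subgroup.zpowers u : Set G)) → ℂ) • (ζ : (Subgroup.centralizer (Subgroup.zpowers u : Set G)) → ℂ)
          from ?_]
        · rw [Char.classInner_sum_left]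
          refine Finset.sum_eq_zero fun ζ hζ => ?_
          rw [Char.classInner_smul_left, Char.classInner_irr_of_ne ζ.2 (η : IrrCharacter (Subgroup.centralizer (Subgroup.zpowers u : Set G))).2
            (fun h => hne (isPBlock_eq_of_mem hM hbb hmem.2 (Set.mem_toFinset.1 hζ)
              (by rw [Subtype.ext h]; exact η.2))), mul_zero]
        funext c
        rw [blockPart_apply, finsum_mem_eq_toFinset_sum, Finset.sum_apply]
        rfl
      · exact fun h => absurd (Finset.mem_filter.2 ⟨mem_blocks.2 hmem.2, haB⟩) h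
    · show star p M P e m (χ : G → ℂ) (u * (c : G)) = _
      rw [star_apply hM hmax hF hm _ hu (by rw [Subgroup.orderOf_coe]; exact hc')
        (mem_centralizer_zpowers_iff.1 c.2), Finset.sum_filter, sum_pairsAt, ← Finset.sum_filter,
        Finset.sum_apply]
      refine Finset.sum_congr rfl fun b _ => ?_
      rw [Pi.smul_apply, smul_eq_mul, piece_eq_blockPart b (irr_class χ) c]
  rw [hw, hpiece, mul_assoc]

include hM in
/-- If `l` fixes `χ` then `l = 1` at every pair where the piece of `χ` is non-zero. -/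
theorem wgt_eq_one_of_fixed (hmax : IsMaximalBrauerPair p M B P e)
    (hF : IsBlockFusionSystemOn p M B P e F) (hl : IsFocTrivial F l) {χ : IrrCharacter G}
    (hχ : χ ∈ B) (hfix : star p M P e l (χ : G → ℂ) = (χ : G → ℂ)) {u : G}
    (hu : ∃ k, orderOf u = p ^ k) {a : BrauerPairIdx G} (ha : a ∈ pairsAt M u)
    (haB : IsBrauerPairOf p M B a.1 a.2)
    (hne : ∃ s ∈ regSet p u, piece a (χ : G → ℂ) (u * s) ≠ 0) : wgt p M P e l u a = 1 := by
  classical
  set S := (pairsAt M u).filter fun a => IsBrauerPairOf p M B a.1 a.2 with hS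
  have hmem : a ∈ S := Finset.mem_filter.2 ⟨ha, haB⟩
  have key := sum_piece_mul hM (p := p) S (Finset.filter_subset _ _)
    (fun a => wgt p M P e l u a - 1) (irr_class χ) hmem
  have hz : ∀ s ∈ regSet p u,
      ∑ a ∈ S, (wgt p M P e l u a - 1) * piece a (χ : G → ℂ) (u * s) = 0 := fun s hs => by
    obtain ⟨hc, hr⟩ := mem_regSet.1 hs
    simp only [sub_mul, one_mul, Finset.sum_sub_distrib]
    rw [← star_apply hM hmax hF hl _ hu hr hc, hfix,
      sum_piece_pairs hM hu hr hc hmax.1.2.1 hχ, sub_self]
  rw [Finset.sum_eq_zero fun s hs => by rw [hz s hs, zero_mul]] at key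
  refine sub_eq_zero.1 ((mul_eq_zero.1 key.symm).resolve_right fun h => ?_)
  obtain ⟨s, hs, hsne⟩ := hne
  exact hsne ((pieceNorm_eq_zero_iff a _ u).1 h s hs)

end Cfsg.Agent.Star
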