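import Cfsg.Agent.Lib.Star.Twist
import Cfsg.Agent.Lib.SecondMain.BrauerPair
import Cfsg.Agent.Lib.SecondMain.Columns
import Cfsg.Agent.Lib.SecondMain.Heights
import Cfsg.Agent.Lib.Char.Monomial
import Cfsg.Agent.Lib.Char.PRegular
import Cfsg.Agent.Lib.Char.Virtual

/-!
# The star construction of Broué and Puig

For a block `B` with maximal Brauer pair `(P, e)` and a linear character `l` of `P` trivial on the
focal subgroup, `star M P e l χ` is again an irreducible character of `B` of the same height: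
`exists_star_irr`; the construction is an action: `star_star`, `star_one`.
-/

set_option autoImplicit false
set_option synthInstance.maxHeartbeats 200000
set_option maxHeartbeats 1000000

open scoped ComplexConjugate

namespace Cfsg.Agent.Star

open Cfsg Cfsg.Agent.Blocks Cfsg.Agent.BrauerPairs Cfsg.Agent.SecondMain

variable {G : Type*} [Group G] [Finite G] {p : ℕ} [Fact p.Prime] {M : Ideal AlgInt}

section parts

/-- An exponent taking every element to its `p`-part. -/
noncomputable def ppExp (p : ℕ) (G : Type*) [Group G] : ℕ :=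
  haveI : Inhabited ℕ := ⟨0⟩
  Classical.epsilon fun m => m ≡ 1 [MOD p ^ (Nat.card G).factorization p] ∧
    Nat.card G / p ^ (Nat.card G).factorization p ∣ m

theorem ppExp_spec : ppExp p G ≡ 1 [MOD p ^ (Nat.card G).factorization p] ∧
    Nat.card G / p ^ (Nat.card G).factorization p ∣ ppExp p G := by
  refine Classical.epsilon_spec (p := fun m => m ≡ 1 [MOD p ^ (Nat.card G).factorization p] ∧
    Nat.card G / p ^ (Nat.card G).factorization p ∣ m) ?_
  obtain ⟨m, h1, h2⟩ := Nat.chineseRemainder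
    ((Nat.coprime_ordCompl (Fact.out : p.Prime) (Nat.card_pos (α := G)).ne').pow_left
      ((Nat.card G).factorization p)) 1 0
  exact ⟨m, h1, Nat.modEq_zero_iff_dvd.1 h2⟩

theorem orderOf_dvd_pow {u : G} (hu : ∃ k, orderOf u = p ^ k) :
    orderOf u ∣ p ^ (Nat.card G).factorization p := by
  obtain ⟨k, hk⟩ := hu
  rw [hk]
  refine pow_dvd_pow p (((Fact.out : p.Prime).pow_dvd_iff_le_factorization Nat.card_pos.ne').1 ?_)
  rw [← hk]
  exact orderOf_dvd_natCard u

theorem orderOf_dvd_compl {s : G} (hs : ¬ p ∣ orderOf s) :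
    orderOf s ∣ Nat.card G / p ^ (Nat.card G).factorization p := by
  refine Nat.Coprime.dvd_of_dvd_mul_left ?_
    ((Nat.ordProj_mul_ordCompl_eq_self (Nat.card G) p).symm ▸ orderOf_dvd_natCard s)
  exact (((Fact.out : p.Prime).coprime_iff_not_dvd.2 hs).pow_left _).symm

/-- The `p`-part is the power by `ppExp`. -/
theorem pow_ppExp {u s : G} (hu : ∃ k, orderOf u = p ^ k) (hs : ¬ p ∣ orderOf s)
    (hc : Commute u s) : (u * s) ^ ppExp p G = u := by
  obtain ⟨h1, h2⟩ := ppExp_spec (p := p) (G := G)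
  rw [hc.mul_pow, orderOf_dvd_iff_pow_eq_one.1 ((orderOf_dvd_compl hs).trans h2), mul_one]
  conv_rhs => rw [← pow_one u]
  exact pow_eq_pow_iff_modEq.2 (h1.of_dvd (orderOf_dvd_pow hu))

theorem exists_parts (g : G) : ∃ u s : G, g = u * s ∧ (∃ k, orderOf u = p ^ k) ∧
    ¬ p ∣ orderOf s ∧ Commute u s ∧ g ^ ppExp p G = u := by
  obtain ⟨u, s, hus, hu, hs, hk, hco⟩ := Transfer.exists_pPart_mul (p := p) g
  have hc : Commute u s := by
    obtain ⟨i, hi⟩ := Subgroup.mem_zpowers_iff.1 hu
    obtain ⟨i', hi'⟩ := Subgroup.mem_zpowers_iff.1 hs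
    have := (Commute.refl g).zpow_zpow i i'
    rwa [hi, hi'] at this
  have hs' : ¬ p ∣ orderOf s := (Fact.out : p.Prime).coprime_iff_not_dvd.1 hco.symm
  exact ⟨u, s, hus, hk, hs', hc, by rw [hus, pow_ppExp hk hs' hc]⟩

end parts

/-- A linear character of `P` trivial on the focal subgroup. -/
def IsFocTrivial {P : Subgroup G} (F : FusionSystem P) (l : P →* ℂˣ) : Prop :=
  ∀ x : P, (x : G) ∈ F.focalSubgroup → l x = 1

open scoped Classical in
/-- A linear character of `P`, extended by zero. -/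
noncomputable def lval (P : Subgroup G) (l : P →* ℂˣ) (x : G) : ℂ :=
  if h : x ∈ P then (l ⟨x, h⟩ : ℂ) else 0

theorem lval_coe (P : Subgroup G) (l : P →* ℂˣ) (x : P) : lval P l (x : G) = (l x : ℂ) := by
  rw [lval, dif_pos x.2]

open scoped Classical in
/-- The weight of a pair for a function on the top group. -/
noncomputable def gwgt (p : ℕ) (M : Ideal AlgInt) (P : Subgroup G)
    (e : Set (IrrCharacter (Subgroup.centralizer (P : Set G)))) (φ : G → ℂ) (u : G)
    (a : BrauerPairIdx G) : ℂ :=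
  if h : ∃ x : G, SubpairLE p M (conjIdx x a).1 (conjIdx x a).2 P e then
    φ (h.choose * u * h.choose⁻¹) else 0

/-- The weight of a pair. -/
noncomputable def wgt (p : ℕ) (M : Ideal AlgInt) (P : Subgroup G)
    (e : Set (IrrCharacter (Subgroup.centralizer (P : Set G)))) (l : P →* ℂˣ) (u : G)
    (a : BrauerPairIdx G) : ℂ :=
  gwgt p M P e (lval P l) u a

/-- The function respects the conjugations between subpairs of `(P, e)`. -/
def IsStable (p : ℕ) (M : Ideal AlgInt) (P : Subgroup G)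
    (e : Set (IrrCharacter (Subgroup.centralizer (P : Set G)))) (φ : G → ℂ) : Prop :=
  ∀ (a : BrauerPairIdx G) (u x y : G), a.1 = Subgroup.zpowers u → IsPBlock M a.2 →
    SubpairLE p M (conjIdx x a).1 (conjIdx x a).2 P e →
    SubpairLE p M (conjIdx y a).1 (conjIdx y a).2 P e → φ (x * u * x⁻¹) = φ (y * u * y⁻¹)

/-- The piece of `χ` at the pair `a` and the element `g`. -/
noncomputable def piece (a : BrauerPairIdx G) (χ : G → ℂ) (g : G) : ℂ :=
  ∑ᶠ k : G, subgroupBlockCoeff (Subgroup.centralizer (a.1 : Set G)) a.2 k * χ (k * g)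

theorem piece_def [Fintype G] (a : BrauerPairIdx G) (χ : G → ℂ) (g : G) : piece a χ g =
    ∑ k : G, subgroupBlockCoeff (Subgroup.centralizer (a.1 : Set G)) a.2 k * χ (k * g) :=
  finsum_eq_sum_of_fintype _

/-- The star construction for a function on the top group. -/
noncomputable def gstar (p : ℕ) (M : Ideal AlgInt) (P : Subgroup G)
    (e : Set (IrrCharacter (Subgroup.centralizer (P : Set G)))) (φ : G → ℂ) (χ : G → ℂ)
    (g : G) : ℂ :=
  ∑ a ∈ pairsAt M (g ^ ppExp p G), gwgt p M P e φ (g ^ ppExp p G) a * piece a χ g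

/-- The star construction. -/
noncomputable def star (p : ℕ) (M : Ideal AlgInt) (P : Subgroup G)
    (e : Set (IrrCharacter (Subgroup.centralizer (P : Set G)))) (l : P →* ℂˣ) (χ : G → ℂ)
    (g : G) : ℂ :=
  gstar p M P e (lval P l) χ g

variable (hM : IsPModular p M) {B : Set (IrrCharacter G)} {P : Subgroup G}
  {e : Set (IrrCharacter (Subgroup.centralizer (P : Set G)))} {F : FusionSystem P}
  {l : P →* ℂˣ} {φ : G → ℂ}

theorem conjIdx_mem_P {u x : G} {a : BrauerPairIdx G} (ha : a.1 = Subgroup.zpowers u)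
    (h : SubpairLE p M (conjIdx x a).1 (conjIdx x a).2 P e) : x * u * x⁻¹ ∈ P := by
  have hle : (conjIdx x a).1 ≤ P := subgroup_le_of_subpairLE (b := (⟨P, e⟩ : BrauerPairIdx G)) h
  exact hle (mem_conjSub.2 (by rw [ha]; simp [mul_assoc]))

include hM in
theorem gwgt_eq (hst : IsStable p M P e φ) {u x : G} {a : BrauerPairIdx G}
    (ha : a.1 = Subgroup.zpowers u) (hab : IsPBlock M a.2)
    (hx : SubpairLE p M (conjIdx x a).1 (conjIdx x a).2 P e) :
    gwgt p M P e φ u a = φ (x * u * x⁻¹) := by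
  have hex : ∃ x : G, SubpairLE p M (conjIdx x a).1 (conjIdx x a).2 P e := ⟨x, hx⟩
  rw [gwgt, dif_pos hex]
  exact hst a u _ x ha hab hex.choose_spec hx

include hM in
theorem isStable_lval (hF : IsBlockFusionSystemOn p M B P e F) (hl : IsFocTrivial F l) :
    IsStable p M P e (lval P l) := by
  intro a u x y ha hab hx hy
  symm
  set Q := (conjIdx x a).1
  have hQ : Q ≤ P := subgroup_le_of_subpairLE (b := (⟨P, e⟩ : BrauerPairIdx G)) hx
  have hg : conjIdx (y * x⁻¹) (conjIdx x a) = conjIdx y a := by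
    rw [conjIdx_conjIdx hM _ _ hab, inv_mul_cancel_right]
  have hle2 : SubpairLE p M (conjIdx (y * x⁻¹) (conjIdx x a)).1
      (conjIdx (y * x⁻¹) (conjIdx x a)).2 P e := by
    rw [hg]; exact hy
  have hφ : conjHom Q (y * x⁻¹) ∈ F.Hom Q :=
    (hF.2 Q _).2 ⟨hQ, y * x⁻¹, fun w => rfl,
      subgroup_le_of_subpairLE (b := (⟨P, e⟩ : BrauerPairIdx G)) hle2, (conjIdx x a).2, hx, hle2⟩
  have hmx := conjIdx_mem_P (p := p) ha hx
  have hmy := conjIdx_mem_P (p := p) ha hy
  have hmQ : x * u * x⁻¹ ∈ Q := mem_conjSub.2 (by rw [ha]; simp [mul_assoc])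
  have hfoc : (x * u * x⁻¹)⁻¹ * (y * u * y⁻¹) ∈ F.focalSubgroup := by
    refine Subgroup.subset_closure ⟨Q, conjHom Q (y * x⁻¹), ⟨_, hmQ⟩, hφ, ?_⟩
    show _ = (x * u * x⁻¹)⁻¹ * (y * x⁻¹ * (x * u * x⁻¹) * (y * x⁻¹)⁻¹)
    group
  have h1 := hl ((⟨_, hmx⟩ : P)⁻¹ * ⟨_, hmy⟩) hfoc
  rw [map_mul, map_inv, inv_mul_eq_one] at h1
  rw [lval, dif_pos hmy, lval, dif_pos hmx, h1]

include hM in
theorem wgt_eq (hF : IsBlockFusionSystemOn p M B P e F) (hl : IsFocTrivial F l) {u x : G}
    {a : BrauerPairIdx G} (ha : a.1 = Subgroup.zpowers u) (hab : IsPBlock M a.2)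
    (hx : SubpairLE p M (conjIdx x a).1 (conjIdx x a).2 P e) :
    wgt p M P e l u a = lval P l (x * u * x⁻¹) :=
  gwgt_eq hM (isStable_lval hM hF hl) ha hab hx

include hM in
theorem isBrauerPairOf_of_le (hmax : IsMaximalBrauerPair p M B P e) {x : G} {a : BrauerPairIdx G}
    (hab : IsPBlock M a.2) (hx : SubpairLE p M (conjIdx x a).1 (conjIdx x a).2 P e) :
    IsBrauerPairOf p M B a.1 a.2 := by
  have h := (isBrauerPairOf_iff_of_le hM hmax.1.2.1 hx).1 hmax.1
  have h2 := isBrauerPairOf_conj hM h x⁻¹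
  have e1 : conjIdx x⁻¹ (conjIdx x a) = a := by
    rw [conjIdx_conjIdx hM _ _ hab, inv_mul_cancel, conjIdx_one hM hab]
  have h3 : IsBrauerPairOf p M B (conjIdx x⁻¹ (conjIdx x a)).1 (conjIdx x⁻¹ (conjIdx x a)).2 := h2
  rwa [e1] at h3

include hM in
theorem gwgt_conj (hst : IsStable p M P e φ) (g u : G)
    (a : BrauerPairIdx G) (ha : a ∈ pairsAt M u) :
    gwgt p M P e φ (g * u * g⁻¹) (conjIdx g a) = gwgt p M P e φ u a := by
  obtain ⟨h1, h2⟩ := mem_pairsAt.1 ha
  by_cases h : ∃ x : G, SubpairLE p M (conjIdx x a).1 (conjIdx x a).2 P e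
  · obtain ⟨x, hx⟩ := h
    have hx' : SubpairLE p M (conjIdx (x * g⁻¹) (conjIdx g a)).1 (conjIdx (x * g⁻¹) (conjIdx g a)).2 P e := by
      rw [conjIdx_conjIdx hM _ _ h2, inv_mul_cancel_right]; exact hx
    rw [gwgt_eq hM hst h1 h2 hx, gwgt_eq hM hst (u := g * u * g⁻¹) (a := conjIdx g a)
      ((congrArg (conjSub g) h1).trans (MonoidHom.map_zpowers _ u)) (isPBlock_conjBlock _ _ h2) hx']
    congr 1
    group
  · rw [gwgt, dif_neg, gwgt, dif_neg h]
    rintro ⟨x, hx⟩
    rw [conjIdx_conjIdx hM _ _ h2] at hx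
    exact h ⟨_, hx⟩

include hM in
theorem gwgt_char (hmax : IsMaximalBrauerPair p M B P e) (hst : IsStable p M P e φ)
    (hφ : IsGeneralizedCharacter P fun x : P => φ x) (T : Subgroup G)
    (eT : Set (IrrCharacter (Subgroup.centralizer (T : Set G)))) (hT : IsBrauerPair p M T eT) :
    ∃ θ : T → ℂ, IsGeneralizedCharacter T θ ∧ ∀ (u : T) (a : BrauerPairIdx G),
      a ∈ pairsAt M (u : G) → SubpairLE p M a.1 a.2 T eT → gwgt p M P e φ (u : G) a = θ u := by
  by_cases hB : IsBrauerPairOf p M B T eT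
  · obtain ⟨x, hx⟩ := exists_conj_le_maximal hM hmax hB
    have hxT : conjSub x T ≤ P := subgroup_le_of_subpairLE
      (a := (⟨conjSub x T, conjBlock T x eT⟩ : BrauerPairIdx G)) (b := (⟨P, e⟩ : BrauerPairIdx G)) hx
    let ι : T →* P := ((MulAut.conj x).toMonoidHom.comp T.subtype).codRestrict P
      fun t => hxT ⟨t, t.2, rfl⟩
    refine ⟨fun t => φ (ι t : G), Char.IsGeneralizedCharacter.comp_hom hφ ι, fun u a ha hle => ?_⟩
    obtain ⟨h1, h2⟩ := mem_pairsAt.1 ha
    have hle2 : SubpairLE p M (conjIdx x a).1 (conjIdx x a).2 P e :=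
      (subpairLE_conj hM hle x).trans hx
    exact gwgt_eq hM hst h1 h2 hle2
  · refine ⟨0, Char.IsGeneralizedCharacter.zero, fun u a ha hle => ?_⟩
    rw [Pi.zero_apply, gwgt, dif_neg]
    rintro ⟨x, hx⟩
    exact hB ((isBrauerPairOf_iff_of_le hM hmax.1.2.1 hle).2
      (isBrauerPairOf_of_le hM hmax (mem_pairsAt.1 ha).2 hx))

include hM in
theorem wgt_conj (hF : IsBlockFusionSystemOn p M B P e F) (hl : IsFocTrivial F l) (g u : G)
    (a : BrauerPairIdx G) (ha : a ∈ pairsAt M u) :
    wgt p M P e l (g * u * g⁻¹) (conjIdx g a) = wgt p M P e l u a :=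
  gwgt_conj hM (isStable_lval hM hF hl) g u a ha

include hM in
theorem isClassFunction_gstar (hst : IsStable p M P e φ)
    {χ : G → ℂ} (hχ : IsClassFunction G χ) : IsClassFunction G (gstar p M P e φ χ) := by
  have := Fintype.ofFinite G
  intro g x
  have hpow : (x * g * x⁻¹) ^ ppExp p G = x * g ^ ppExp p G * x⁻¹ := by simp [conj_pow]
  set u := g ^ ppExp p G
  show ∑ a ∈ pairsAt M _, _ = ∑ a ∈ pairsAt M u, _
  rw [hpow]
  symm
  refine Finset.sum_nbij' (conjIdx x) (conjIdx x⁻¹) (fun a ha => ?_) (fun a ha => ?_)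
    (fun a ha => ?_) (fun a ha => ?_) fun a ha => ?_
  · obtain ⟨h1, h2⟩ := mem_pairsAt.1 ha
    exact mem_pairsAt.2 ⟨(congrArg (conjSub x) h1).trans (MonoidHom.map_zpowers _ u),
      isPBlock_conjBlock _ _ h2⟩
  · obtain ⟨h1, h2⟩ := mem_pairsAt.1 ha
    refine mem_pairsAt.2 ⟨((congrArg (conjSub x⁻¹) h1).trans (MonoidHom.map_zpowers _ _)).trans ?_,
      isPBlock_conjBlock _ _ h2⟩
    congr 1
    show x⁻¹ * (x * u * x⁻¹) * x⁻¹⁻¹ = u
    group
  · rw [conjIdx_conjIdx hM _ _ (mem_pairsAt.1 ha).2, inv_mul_cancel, conjIdx_one hM (mem_pairsAt.1 ha).2]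
  · rw [conjIdx_conjIdx hM _ _ (mem_pairsAt.1 ha).2, mul_inv_cancel, conjIdx_one hM (mem_pairsAt.1 ha).2]
  · rw [gwgt_conj hM hst x u a ha]
    congr 1
    rw [piece_def, piece_def]
    refine Fintype.sum_equiv (MulAut.conj x).toEquiv _ _ fun k => ?_
    have e1 : (MulAut.conj x).toEquiv k = x * k * x⁻¹ := rfl
    rw [e1]
    congr 1
    · show _ = subgroupBlockCoeff (Subgroup.centralizer (conjSub x a.1 : Set G)) (conjBlock a.1 x a.2) _
      rw [conjBlock_eq_conjImg, subgroupBlockCoeff_conjImg]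
      congr 1
      group
    · rw [← hχ (k * g) x]
      congr 1
      group

include hM in
theorem isClassFunction_star (hF : IsBlockFusionSystemOn p M B P e F) (hl : IsFocTrivial F l)
    {χ : G → ℂ} (hχ : IsClassFunction G χ) : IsClassFunction G (star p M P e l χ) :=
  isClassFunction_gstar hM (isStable_lval hM hF hl) hχ

section pieces

theorem sum_pairsAt (M : Ideal AlgInt) (u : G) (f : BrauerPairIdx G → ℂ) :
    ∑ a ∈ pairsAt M u, f a =
      ∑ b ∈ blocks M (Subgroup.centralizer (Subgroup.zpowers u : Set G)),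
        f ⟨Subgroup.zpowers u, b⟩ := by
  symm
  refine Finset.sum_bij (fun b _ => (⟨Subgroup.zpowers u, b⟩ : BrauerPairIdx G))
    (fun b hb => mem_pairsAt.2 ⟨rfl, mem_blocks.1 hb⟩)
    (fun b _ b' _ h => eq_of_heq (Sigma.mk.inj h).2) (fun a ha => ?_) fun _ _ => rfl
  obtain ⟨V, b⟩ := a
  obtain ⟨h1, h2⟩ := mem_pairsAt.1 ha
  obtain rfl : V = Subgroup.zpowers u := h1
  exact ⟨b, mem_blocks.2 h2, rfl⟩

/-- A piece as a block component on the centraliser. -/
theorem piece_eq_blockPart {u : G}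
    (b : Set (IrrCharacter (Subgroup.centralizer (Subgroup.zpowers u : Set G))))
    {χ : G → ℂ} (hχ : IsClassFunction G χ)
    (s : Subgroup.centralizer (Subgroup.zpowers u : Set G)) :
    piece ⟨Subgroup.zpowers u, b⟩ χ (u * (s : G)) =
      blockPart b (fun c : Subgroup.centralizer (Subgroup.zpowers u : Set G) => χ (u * (c : G))) s := by
  classical
  have := Fintype.ofFinite G
  have := Fintype.ofFinite (Subgroup.centralizer (Subgroup.zpowers u : Set G))
  rw [piece_def, blockPart_eq_sum b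
    (isClassFunction_shift (fun h hh => mem_centralizer_zpowers_iff.1 hh) hχ)]
  rw [← Finset.sum_filter_add_sum_filter_not Finset.univ
      (· ∈ Subgroup.centralizer (Subgroup.zpowers u : Set G)),
    Finset.sum_eq_zero
      (s := Finset.univ.filter fun k => ¬ k ∈ Subgroup.centralizer (Subgroup.zpowers u : Set G)) fun k hk => by
      rw [subgroupBlockCoeff, dif_neg (Finset.mem_filter.1 hk).2, zero_mul],
    add_zero, Finset.sum_subtype (p := (· ∈ Subgroup.centralizer (Subgroup.zpowers u : Set G))) _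
      (fun k => by simp)]
  refine Finset.sum_congr rfl fun k _ => ?_
  rw [subgroupBlockCoeff, dif_pos k.2]
  congr 1
  rw [Subgroup.coe_mul, ← mul_assoc, ← mul_assoc, (mem_centralizer_zpowers_iff.1 k.2).eq]

include hM in
theorem mem_inducedSet_iff {u : G} (hu : ∃ k, orderOf u = p ^ k) (hB : IsPBlock M B)
    {b : Set (IrrCharacter (Subgroup.centralizer (Subgroup.zpowers u : Set G)))} :
    b ∈ inducedSet M (Subgroup.centralizer (Subgroup.zpowers u : Set G)) B ↔
      IsBrauerPairOf p M B (Subgroup.zpowers u) b := by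
  constructor
  · intro h
    have hpair : IsBrauerPair p M (Subgroup.zpowers u) b := ⟨by
      obtain ⟨k, hk⟩ := hu
      exact IsPGroup.of_card (n := k) (by rw [Nat.card_zpowers, hk]), h.1⟩
    obtain ⟨B', hB', -⟩ := existsUnique_block_of_pair hM hpair
    rwa [induced_unique hM h (induced_of_brauerPair hM hu hB')]
  · exact induced_of_brauerPair hM hu

open scoped Classical in
include hM in
theorem sum_piece_pairs {u : G} (hu : ∃ k, orderOf u = p ^ k) {s : G} (hs : ¬ p ∣ orderOf s)
    (hc : Commute u s) (hB : IsPBlock M B) {χ : IrrCharacter G} (hχ : χ ∈ B) :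
    ∑ a ∈ (pairsAt M u).filter (fun a => IsBrauerPairOf p M B a.1 a.2), piece a (χ : G → ℂ) (u * s) =
      (χ : G → ℂ) (u * s) := by
  have hH : ∀ g, g ∈ Subgroup.centralizer (Subgroup.zpowers u : Set G) ↔ Commute u g :=
    fun _ => mem_centralizer_zpowers_iff
  let s' : Subgroup.centralizer (Subgroup.zpowers u : Set G) := ⟨s, (hH s).2 hc⟩
  have := Fintype.ofFinite (inducedSet M (Subgroup.centralizer (Subgroup.zpowers u : Set G)) B)
  rw [Finset.sum_filter, sum_pairsAt, ← sum_induced_shift_of_mem hM hu hH hB hχ (s := s')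
    (by rw [← Subgroup.orderOf_coe]; exact hs), ← Finset.sum_filter,
    finsum_mem_eq_toFinset_sum]
  refine Finset.sum_congr (Finset.ext fun b => ?_) fun b _ =>
    piece_eq_blockPart b (irr_class χ) s'
  rw [Finset.mem_filter, Set.mem_toFinset]
  exact ⟨fun h => (mem_inducedSet_iff hM hu hB).2 h.2,
    fun h => ⟨mem_blocks.2 h.1, (mem_inducedSet_iff hM hu hB).1 h⟩⟩

end pieces

include hM in
/-- The weight vanishes exactly off the pairs of `B`; on them it is a root of unity. -/
theorem wgt_cases (hmax : IsMaximalBrauerPair p M B P e) (hF : IsBlockFusionSystemOn p M B P e F)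
    (hl : IsFocTrivial F l) {u : G} {a : BrauerPairIdx G} (ha : a ∈ pairsAt M u) :
    (IsBrauerPairOf p M B a.1 a.2 → ∃ x : P, (∃ z : G, z * u * z⁻¹ = (x : G)) ∧
        wgt p M P e l u a = (l x : ℂ)) ∧
      (¬ IsBrauerPairOf p M B a.1 a.2 → wgt p M P e l u a = 0) := by
  obtain ⟨h1, h2⟩ := mem_pairsAt.1 ha
  refine ⟨fun hB => ?_, fun hB => ?_⟩
  · obtain ⟨x, hx⟩ := exists_conj_le_maximal hM hmax hB
    have hm := conjIdx_mem_P (p := p) (x := x) h1 hx
    refine ⟨⟨_, hm⟩, ⟨x, rfl⟩, ?_⟩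
    rw [wgt_eq hM hF hl h1 h2 (x := x) hx]
    exact lval_coe P l ⟨_, hm⟩
  · rw [wgt, gwgt, dif_neg]
    rintro ⟨x, hx⟩
    exact hB (isBrauerPairOf_of_le hM hmax h2 hx)

include hM in
open scoped Classical in
theorem star_apply (hmax : IsMaximalBrauerPair p M B P e) (hF : IsBlockFusionSystemOn p M B P e F)
    (hl : IsFocTrivial F l) (χ : G → ℂ) {u s : G} (hu : ∃ k, orderOf u = p ^ k)
    (hs : ¬ p ∣ orderOf s) (hc : Commute u s) :
    star p M P e l χ (u * s) = ∑ a ∈ (pairsAt M u).filter (fun a => IsBrauerPairOf p M B a.1 a.2),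
      wgt p M P e l u a * piece a χ (u * s) := by
  rw [star, gstar, pow_ppExp hu hs hc]
  refine (Finset.sum_subset (Finset.filter_subset _ _) fun a ha hn => ?_).symm
  rw [show gwgt p M P e (lval P l) u a = wgt p M P e l u a from rfl, (wgt_cases hM hmax hF hl ha).2 fun h => hn (Finset.mem_filter.2 ⟨ha, h⟩), zero_mul]

include hM in
theorem star_apply_regular (hmax : IsMaximalBrauerPair p M B P e)
    (hF : IsBlockFusionSystemOn p M B P e F) (hl : IsFocTrivial F l) {χ : IrrCharacter G}
    (hχ : χ ∈ B) {s : G} (hs : ¬ p ∣ orderOf s) :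
    star p M P e l (χ : G → ℂ) s = (χ : G → ℂ) s := by
  classical
  have h1 : ∃ k, orderOf (1 : G) = p ^ k := ⟨0, by rw [orderOf_one, pow_zero]⟩
  have key := star_apply hM hmax hF hl (χ : G → ℂ) h1 hs (Commute.one_left s)
  have key2 := sum_piece_pairs hM h1 hs (Commute.one_left s) hmax.1.2.1 hχ
  rw [one_mul] at key key2
  rw [key, ← key2]
  refine Finset.sum_congr rfl fun a ha => ?_
  obtain ⟨ha, haB⟩ := Finset.mem_filter.1 ha
  obtain ⟨x, ⟨z, hz⟩, hw⟩ := (wgt_cases hM hmax hF hl ha).1 haB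
  have : x = 1 := Subtype.ext (by rw [← hz]; simp)
  rw [hw, this, map_one, Units.val_one, one_mul]

include hM in
/-- The scalar product with a linear character of a nilpotent subgroup is an integer. -/
theorem gstar_inner_linear (hmax : IsMaximalBrauerPair p M B P e)
    (hst : IsStable p M P e φ) (hφP : IsGeneralizedCharacter P fun x : P => φ x) {χ : G → ℂ}
    (hχ : IsCharacter G χ) {H : Type*} [Group H] [Fintype H] [Group.IsNilpotent H]
    (ι : H →* G) (hι : Function.Injective ι) (lam : H →* ℂˣ) :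
    ∃ n : ℤ, classInner (fun h => gstar p M P e φ χ (ι h)) (fun h => (lam h : ℂ)) = n := by
  classical
  have hp : p.Prime := Fact.out
  have := Fintype.ofFinite G
  set N := Nat.card H with hN
  obtain ⟨R, S, ψe, hψe, hR, hS, hRc, hSc⟩ := Char.exists_split (G := H)
    (A := p ^ N.factorization p) (B := N / p ^ N.factorization p)
    ((Nat.coprime_ordCompl hp Nat.card_pos.ne').pow_left _)
    (Nat.ordProj_mul_ordCompl_eq_self N p).symm
  have := Fintype.ofFinite R
  have := Fintype.ofFinite S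
  set T : Subgroup G := R.map ι with hT
  have := Fintype.ofFinite T
  have hTp : IsPGroup p T := by
    refine IsPGroup.of_card (n := N.factorization p) ?_
    rw [hT, ← hRc]
    exact Nat.card_congr (Subgroup.equivMapOfInjective R ι hι).symm.toEquiv
  have hSn : ¬ p ∣ Nat.card S := hSc ▸ Nat.not_dvd_ordCompl hp Nat.card_pos.ne'
  have hSord : ∀ v : S, ¬ p ∣ orderOf (ι v) := fun v hd => hSn (by
    rw [orderOf_injective ι hι] at hd
    exact hd.trans (by rw [Subgroup.orderOf_coe]; exact orderOf_dvd_natCard v))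
  have hcomm : ∀ (u : R) (v : S), Commute (ι u) (ι v) := fun u v => by
    refine Commute.map ?_ ι
    show (u : H) * v = v * u
    rw [← hψe u v]
    calc ψe (u, v) = ψe ((1, v) * (u, 1)) := by simp
      _ = (v : H) * u := by rw [map_mul, hψe, hψe]; simp
  let ψ : R ≃* T := Subgroup.equivMapOfInjective R ι hι
  have hψ : ∀ u : R, (ψ u : G) = ι u := fun u => rfl
  let α : T →* ℂˣ := (lam⁻¹).comp ((R.subtype).comp ψ.symm.toMonoidHom)
  -- the idempotent of `lam` on `S`
  have hroot : ∀ v : H, IsIntegral ℤ ((lam⁻¹ : H →* ℂˣ) v : ℂ) := fun v => by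
    refine IsIntegral.of_pow (n := N) Nat.card_pos ?_
    rw [← Units.val_pow_eq_pow_val, ← map_pow, hN, pow_card_eq_one', map_one, Units.val_one]
    exact isIntegral_one
  let coef : S → locRing hM := fun v => ⟨(Nat.card S : ℂ)⁻¹ * ((lam⁻¹ : H →* ℂˣ) (v : H) : ℂ),
    memR_mul hM (memR_natCast_inv hM hSn) (memR_of_isIntegral hM (hroot _))⟩
  let ε : Loc hM G := ∑ v : S, MonoidAlgebra.single (ι v) (coef v)
  have hεsupp : ∀ x, ε.coeff x ≠ 0 → ∃ v : S, ι v = x := fun x hx => by
    by_contra hno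
    push Not at hno
    refine hx ?_
    simp only [ε, MonoidAlgebra.coeff_sum, Finsupp.finsetSum_apply, MonoidAlgebra.coeff_single]
    exact Finset.sum_eq_zero fun v _ => Finsupp.single_eq_of_ne (hno v).symm
  have hεfix : Fixed T ε := by
    rintro _ ⟨u, hu, rfl⟩
    simp only [ε, map_sum, cj_single]
    refine Finset.sum_congr rfl fun v _ => ?_
    rw [(hcomm ⟨u, hu⟩ v).eq, mul_inv_cancel_right]
  have hεε : ε * ε = ε := by
    have hterm : ∀ v : S, MonoidAlgebra.single (ι v) (coef v) * ε =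
        (⟨(Nat.card S : ℂ)⁻¹, memR_natCast_inv hM hSn⟩ : locRing hM) • ε := by
      intro v
      simp only [ε, Finset.mul_sum, Finset.smul_sum, MonoidAlgebra.single_mul_single,
        MonoidAlgebra.smul_single]
      refine Fintype.sum_equiv (Equiv.mulLeft v) _ _ fun w => ?_
      rw [Equiv.coe_mulLeft, Subgroup.coe_mul, map_mul, smul_eq_mul]
      congr 1
      apply Subtype.ext
      simp only [coef, Subring.coe_mul, Subgroup.coe_mul, map_mul, Units.val_mul]
      ring
    conv_lhs => arg 1; simp only [ε]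
    rw [Finset.sum_mul, Finset.sum_congr rfl fun v _ => hterm v, Finset.sum_const, Finset.card_univ,
      ← Nat.card_eq_fintype_card, ← Nat.cast_smul_eq_nsmul (locRing hM), smul_smul]
    rw [show ((Nat.card S : ℕ) : locRing hM) *
        (⟨(Nat.card S : ℂ)⁻¹, memR_natCast_inv hM hSn⟩ : locRing hM) = 1 from
      Subtype.ext (by simp [mul_inv_cancel₀ (Nat.cast_ne_zero.2 (Nat.card_pos (α := S)).ne' :
        (Nat.card S : ℂ) ≠ 0)]), one_smul]
  obtain ⟨n, hn⟩ := twist_int hM hχ (w := gwgt p M P e φ) (gwgt_conj hM hst)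
    (gwgt_char hM hmax hst hφP) T hTp ε hεfix hεε α
  refine ⟨n, ?_⟩
  rw [← hn, twist_def]
  -- the pieces
  have hphi : ∀ u : R, phi hM χ (gwgt p M P e φ) (ι u) ε =
      ∑ v : S, (coef v : ℂ) * gstar p M P e φ χ (ι u * ι v) := by
    intro u
    have huT : ι u ∈ T := ⟨u, u.2, rfl⟩
    have hu : ∃ k, orderOf (ι u) = p ^ k := exists_order_pow hTp ⟨_, huT⟩
    have hεC : SuppIn (Subgroup.centralizer (Subgroup.zpowers (ι u) : Set G)) ε := by
      intro x hx
      by_contra hne
      obtain ⟨v, rfl⟩ := hεsupp x hne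
      exact hx (mem_centralizer_zpowers_iff.2 (hcomm u v))
    rw [phi, Finset.sum_congr rfl fun v _ => show (coef v : ℂ) * gstar p M P e φ χ (ι u * ι v) =
      (coef v : ℂ) * ∑ a ∈ pairsAt M (ι u), gwgt p M P e φ (ι u) a * piece a χ (ι u * ι v) by
        unfold gstar; rw [pow_ppExp hu (hSord v) (hcomm u v)]]
    simp only [Finset.mul_sum]
    rw [Finset.sum_comm]
    refine Finset.sum_congr rfl fun a ha => ?_
    obtain ⟨h1, h2⟩ := mem_pairsAt.1 ha
    set C := Subgroup.centralizer (a.1 : Set G) with hC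
    let E : Loc hM G := MonoidAlgebra.ofCoeff (Finsupp.equivFunOnFinite.symm fun x =>
      (⟨subgroupBlockCoeff C a.2 x, memR_subgroupBlockCoeff hM h2 x⟩ : locRing hM))
    have hEc : ∀ x, ((E.coeff x : locRing hM) : ℂ) = subgroupBlockCoeff C a.2 x := fun x => by simp [E]
    have hrdE : rd hM E = cb M a.1 a.2 := by
      ext x
      rw [coeff_rd, hEc, coeff_bIdem hM]
    have hEfix : Fixed C E := fun c hc => by
      ext x
      rw [coeff_cj]
      simp only [hEc]
      exact subgroupBlockCoeff_conj_of_fixed hM h2 (Subgroup.le_normalizer hc)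
        ((bIdem_central _ a.2).2 c hc) x
    have hEC : SuppIn C E := fun x hx => Subtype.ext (by
      rw [hEc, subgroupBlockCoeff, dif_neg hx]; rfl)
    have hEE : E * E = E := by
      ext x
      rw [MonoidAlgebra.coeff_mul_apply_left, Finsupp.sum_fintype _ _ (fun _ => by simp)]
      push_cast
      simp only [hEc]
      by_cases hx : x ∈ C
      · have := Fintype.ofFinite C
        have hconv : conv (blockCoeff a.2) (blockCoeff a.2) = blockCoeff a.2 := by
          simp only [blockCoeff_eq_ofOmega, ← ofOmega_mul, blockInd_mul_self]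
        rw [show subgroupBlockCoeff C a.2 x = blockCoeff a.2 ⟨x, hx⟩ from dif_pos hx]
        conv_rhs => rw [← hconv, conv_eq_sum]
        rw [← Finset.sum_filter_add_sum_filter_not Finset.univ (· ∈ C),
          Finset.sum_eq_zero (s := Finset.univ.filter fun k => ¬ k ∈ C) fun k hk => by
            rw [subgroupBlockCoeff, dif_neg (Finset.mem_filter.1 hk).2, zero_mul],
          add_zero, Finset.sum_subtype (p := (· ∈ C)) _ (fun k => by simp)]
        refine Finset.sum_congr rfl fun k _ => ?_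
        rw [subgroupBlockCoeff, dif_pos k.2, subgroupBlockCoeff,
          dif_pos (C.mul_mem (C.inv_mem k.2) hx)]
        rfl
      · rw [show subgroupBlockCoeff C a.2 x = 0 from dif_neg hx]
        refine Finset.sum_eq_zero fun k _ => ?_
        by_cases hk : k ∈ C
        · rw [show subgroupBlockCoeff C a.2 (k⁻¹ * x) = 0 from
            dif_neg fun h => hx (by simpa using C.mul_mem hk h), mul_zero]
        · rw [show subgroupBlockCoeff C a.2 k = 0 from dif_neg hk, zero_mul]
    have hεC' : SuppIn C ε := by rw [hC, h1]; exact hεC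
    have hcommE : E * ε = ε * E := hEfix.commute hεC'
    have hzC : Subgroup.zpowers (ι u) ≤ C := by
      rw [hC, h1]
      exact Subgroup.zpowers_le.2 (mem_centralizer_zpowers_iff.2 (Commute.refl _))
    have hzT : Subgroup.zpowers (ι u) ≤ T := Subgroup.zpowers_le.2 huT
    have hpiece : IsPiece hM (ι u) (cb M a.1 a.2) ε (E * ε) := by
      refine ⟨(hEfix.mono hzC).mul (hεfix.mono hzT), ?_, ?_⟩
      · rw [mul_assoc, ← mul_assoc ε, ← hcommE, mul_assoc, hεε, ← mul_assoc, hEE]
      · have hsε : SuppIn (Subgroup.centralizer (Subgroup.zpowers (ι u) : Set G)) (rd hM ε) :=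
          fun x hx => by rw [coeff_rd, hεC x hx]; exact res_zero hM
        have hsE : SuppIn (Subgroup.centralizer (Subgroup.zpowers (ι u) : Set G)) (rd hM E) := by
          rw [hrdE, ← h1]; exact (bIdem_central _ a.2).1
        rw [map_mul, br_eq_self (hsE.mul hsε), br_eq_self hsε, ← map_mul, hcommE, map_mul, hrdE]
    rw [psi_eq hM (Char.IsCharacter.isClassFunction hχ) hu hpiece, trL_el_mul]
    have hcoeff : ∀ m, (((E * ε).coeff m : locRing hM) : ℂ) =
        ∑ v : S, subgroupBlockCoeff C a.2 (m * (ι v)⁻¹) * (coef v : ℂ) := by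
      intro m
      simp only [ε, Finset.mul_sum, MonoidAlgebra.coeff_sum, Finsupp.finsetSum_apply]
      push_cast
      refine Finset.sum_congr rfl fun v _ => ?_
      rw [MonoidAlgebra.coeff_mul_single_eq_coeff_mul (m * (ι v)⁻¹)
        (fun m' _ => eq_mul_inv_iff_mul_eq.symm)]
      push_cast
      rw [hEc]
    simp only [hcoeff, Finset.sum_mul, Finset.mul_sum, piece_def]
    rw [Finset.sum_comm]
    refine Finset.sum_congr rfl fun v _ => ?_
    refine (Fintype.sum_equiv (Equiv.mulRight (ι v)) _ _ fun k => ?_).symm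
    rw [Equiv.coe_mulRight, mul_inv_cancel_right]
    have hcls := isClassFunction_comm (Char.IsCharacter.isClassFunction hχ)
    have e1 : χ (ι u * (k * ι v)) = χ (k * (ι u * ι v)) := by
      rw [hcls, mul_assoc k, (hcomm u v).eq]
    rw [e1]
    show _ * (_ * (subgroupBlockCoeff C a.2 k * _)) = _ * (subgroupBlockCoeff C a.2 k * _ * _)
    ring
  have hsum : ∀ f : H → ℂ, ∑ h, f h = ∑ u : R, ∑ v : S, f ((u : H) * v) := fun f => by
    rw [← Fintype.sum_equiv ψe.toEquiv (fun q => f (ψe q)) f fun _ => rfl, Fintype.sum_prod_type]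
    simp only [hψe]
  rw [classInner, hsum, ← Fintype.sum_equiv ψ.toEquiv
    (fun u => (α (ψ u) : ℂ) * phi hM χ (gwgt p M P e φ) ((ψ u : T) : G) ε) _ fun _ => rfl,
    Finset.mul_sum, Finset.mul_sum]
  refine Finset.sum_congr rfl fun u _ => ?_
  rw [hψ, hphi, Finset.mul_sum, Finset.mul_sum, Finset.mul_sum]
  refine Finset.sum_congr rfl fun v _ => ?_
  have hαu : α (ψ u) = (lam⁻¹ : H →* ℂˣ) (u : H) := by simp [α]
  have hconj : conj ((lam ((u : H) * v) : ℂˣ) : ℂ) = ((lam⁻¹ : H →* ℂˣ) ((u : H) * v) : ℂ) := by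
    rw [MonoidHom.inv_apply, Units.val_inv_eq_inv_val]
    refine (Complex.inv_eq_conj ?_).symm
    refine Complex.norm_eq_one_of_pow_eq_one (n := N) ?_ Nat.card_pos.ne'
    rw [← Units.val_pow_eq_pow_val, ← map_pow, hN, pow_card_eq_one', map_one, Units.val_one]
  have hcard : (Nat.card H : ℂ) = (Nat.card T : ℂ) * (Nat.card S : ℂ) := by
    rw [hT, ← Nat.card_congr (Subgroup.equivMapOfInjective R ι hι).toEquiv, ← Nat.cast_mul,
      ← Nat.card_prod, Nat.card_congr ψe.toEquiv]
  rw [map_mul, hconj, hαu, hcard, map_mul, Units.val_mul, mul_inv]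
  show _ = _ * (_ * ((Nat.card S : ℂ)⁻¹ * _ * _))
  ring

include hM in
theorem isGeneralizedCharacter_gstar (hmax : IsMaximalBrauerPair p M B P e)
    (hst : IsStable p M P e φ) (hφP : IsGeneralizedCharacter P fun x : P => φ x) {χ : G → ℂ}
    (hχ : IsCharacter G χ) : IsGeneralizedCharacter G (gstar p M P e φ χ) := by
  classical
  have hcl := isClassFunction_gstar hM hst (Char.IsCharacter.isClassFunction hχ)
  refine Char.brauer_characterization hcl fun E q hq hE => ?_
  have := Fintype.ofFinite E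
  have hnil : Group.IsNilpotent E := Char.isNilpotent_of_isElementary hq hE
  refine Char.isGeneralizedCharacter_iff_classInner.2 ⟨fun a b => ?_, fun θ => ?_⟩
  · simpa using hcl (a : G) (b : G)
  obtain ⟨K, lam, hK⟩ := Char.monomial_of_isNilpotent θ.2
  have := Fintype.ofFinite K
  rw [hK, Char.frobenius_reciprocity' K _ (fun a b => by simpa using hcl (a : G) (b : G))]
  exact gstar_inner_linear hM hmax hst hφP hχ (E.subtype.comp K.subtype)
    (E.subtype_injective.comp K.subtype_injective) lam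

include hM in
theorem isGeneralizedCharacter_star (hmax : IsMaximalBrauerPair p M B P e)
    (hF : IsBlockFusionSystemOn p M B P e F) (hl : IsFocTrivial F l) {χ : G → ℂ}
    (hχ : IsCharacter G χ) : IsGeneralizedCharacter G (star p M P e l χ) := by
  refine isGeneralizedCharacter_gstar hM hmax (isStable_lval hM hF hl) ?_ hχ
  have h : (fun x : P => lval P l (x : G)) =
      ((Char.linearCharEquiv P l).1 : P → ℂ) := funext fun x => lval_coe P l x
  rw [h]
  exact Char.isGeneralizedCharacter_of_isCharacter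
    (Char.IsIrrCharacter.isCharacter ((Char.linearCharEquiv P l).1).2)

end Cfsg.Agent.Star
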