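import Cfsg.Agent.Lib.Star.Free
import Cfsg.Agent.Lib.RegPart.Contribution
import Mathlib.NumberTheory.LegendreSymbol.Basic

/-!
# Counting characters of height zero modulo the star action

* `sum_contribution`: for `χ₀` of height zero the squares of the contributions `c χ₀ ψ`, over the
  characters `ψ` of height zero, sum to zero modulo `p ^ 2` once the defect is at least two;
* `exists_free_orbits`: when the focal subgroup is proper the characters of height zero fall into
  orbits of length `p` on which the regular parts are constant;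
* `dvd_of_small`, `three_mul_le`.
-/

set_option autoImplicit false
set_option synthInstance.maxHeartbeats 200000
set_option linter.style.haveILetI false

open scoped ComplexConjugate

namespace Cfsg.Agent.Star

theorem zmod_two_sq : ∀ z : ZMod 2, z ≠ 0 → z ^ 2 = 1 := by decide

theorem zmod_three_sq : ∀ z : ZMod 3, z ≠ 0 → z ^ 2 = 1 := by decide

open Cfsg Cfsg.Agent.Blocks Cfsg.Agent.BrauerPairs

variable {G : Type*} [Group G] [Fintype G] {p : ℕ} [Fact p.Prime] {M : Ideal AlgInt}
  (hM : IsPModular p M) {B : Set (IrrCharacter G)}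

/-- The characters of height zero of `B`. -/
abbrev HZero (p : ℕ) (B : Set (IrrCharacter G)) : Type _ :=
  {χ : IrrCharacter G // χ ∈ B ∧ blockHeight p B (χ : G → ℂ) = 0}

include hM in
/-- Contributions of height zero characters: units whose squares sum to zero. -/
theorem exists_contribution_row (hB : IsPBlock M B) [Fintype (HZero p B)] :
    ∃ f : HZero p B → ℤ, (∀ x, ¬ (p : ℤ) ∣ f x) ∧
      (∀ x y : HZero p B, pRegularPart p ((x : IrrCharacter G) : G → ℂ) =
        pRegularPart p ((y : IrrCharacter G) : G → ℂ) → f x = f y) ∧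
      ∀ n ≤ 2, n ≤ blockDefect p B → (p : ℤ) ^ n ∣ ∑ x, f x ^ 2 := by
  classical
  haveI := Fintype.ofFinite B
  obtain ⟨χ₀, hχ₀, h0⟩ := exists_blockHeight_eq_zero (G := G) p (isPBlock_nonempty hM hB)
  obtain ⟨c, hc, hsymm, hsq, hdvd⟩ := RegPart.exists_contribution (p := p) hM hB
  let a : B := ⟨χ₀, hχ₀⟩
  let ι : HZero p B → B := fun x => ⟨x.1, x.2.1⟩
  refine ⟨fun x => c a (ι x), fun x h => ?_, fun x y hxy => ?_, fun n hn hnd => ?_⟩
  · have h1 := (hdvd a (ι x)).2
    rw [show blockHeight p B (((ι x : B) : IrrCharacter G) : G → ℂ) = 0 from x.2.2,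
      zero_add, pow_one] at h1
    exact (Nat.pos_iff_ne_zero.1 (h1.1 h)) h0
  · show c a (ι x) = c a (ι y)
    rw [hsymm a (ι x), hsymm a (ι y)]
    have h : ((c (ι x) a : ℤ) : ℂ) = c (ι y) a := by rw [← hc, ← hc, hxy]
    exact_mod_cast h
  · have hrest : ∀ ψ ∈ (Finset.univ.filter fun ψ : B =>
        ¬ blockHeight p B (((ψ : B) : IrrCharacter G) : G → ℂ) = 0), (p : ℤ) ^ n ∣ c a ψ ^ 2 := by
      intro ψ hψ
      have hh := (Finset.mem_filter.1 hψ).2
      have h1 : (p : ℤ) ∣ c a ψ := by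
        refine dvd_trans ?_ (hdvd a ψ).1
        exact dvd_pow_self _ hh
      exact (pow_dvd_pow _ hn).trans (pow_dvd_pow_of_dvd h1 2)
    have hsum := hsq a
    rw [← Finset.sum_filter_add_sum_filter_not Finset.univ (fun ψ : B =>
      blockHeight p B (((ψ : B) : IrrCharacter G) : G → ℂ) = 0)] at hsum
    have hall : (p : ℤ) ^ n ∣ (p : ℤ) ^ blockDefect p B * c a a :=
      (pow_dvd_pow _ hnd).mul_right _
    rw [← hsum] at hall
    have h2 := (dvd_add_left (Finset.dvd_sum hrest)).1 hall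
    let E : HZero p B ≃ {ψ : B // blockHeight p B (((ψ : B) : IrrCharacter G) : G → ℂ) = 0} :=
      { toFun := fun x => ⟨ι x, x.2.2⟩
        invFun := fun ψ => ⟨ψ.1.1, ψ.1.2, ψ.2⟩
        left_inv := fun _ => rfl
        right_inv := fun _ => rfl }
    rw [Finset.sum_subtype _ (p := fun ψ : B =>
      blockHeight p B (((ψ : B) : IrrCharacter G) : G → ℂ) = 0) (fun ψ => by simp),
      ← E.sum_comp] at h2
    exact h2

/-- The squares of units add up to zero: for `p ≤ 3` their number is divisible by `p`. -/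
theorem dvd_of_small (hp : p = 2 ∨ p = 3) {X : Type*} [Fintype X] {f : X → ℤ}
    (hf : ∀ x, ¬ (p : ℤ) ∣ f x) (h : (p : ℤ) ∣ ∑ x, f x ^ 2) : p ∣ Nat.card X := by
  have h1 : ∀ x, ((f x ^ 2 : ℤ) : ZMod p) = 1 := fun x => by
    have hne : (f x : ZMod p) ≠ 0 := fun h0 => hf x ((ZMod.intCast_zmod_eq_zero_iff_dvd _ _).1 h0)
    push_cast
    rcases hp with rfl | rfl
    · exact zmod_two_sq _ hne
    · exact zmod_three_sq _ hne
  have h2 := (ZMod.intCast_zmod_eq_zero_iff_dvd _ _).2 h
  rw [Int.cast_sum, Finset.sum_congr rfl fun x _ => h1 x, Finset.sum_const, nsmul_one,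
    ZMod.natCast_eq_zero_iff] at h2
  rwa [Nat.card_eq_fintype_card, ← Finset.card_univ]

/-- Units constant on orbits of length `p` whose squares sum to zero modulo `p ^ 2`. -/
theorem orbit_bounds {Δ X : Type*} [Group Δ] [Finite Δ] [MulAction Δ X] [Fintype X] [Nonempty X]
    (hΔ : Nat.card Δ = p) (hfree : ∀ (g : Δ) (x : X), g • x = x → g = 1) {f : X → ℤ}
    (hinv : ∀ (g : Δ) (x : X), f (g • x) = f x) (hf : ∀ x, ¬ (p : ℤ) ∣ f x)
    (h : (p : ℤ) ^ 2 ∣ ∑ x, f x ^ 2) :
    p ∣ Nat.card X ∧ 2 * p ≤ Nat.card X ∧ (p % 4 = 3 → 3 * p ≤ Nat.card X) := by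
  classical
  let Q := MulAction.orbitRel.Quotient Δ X
  haveI : Fintype Q := Fintype.ofFinite Q
  have horb : ∀ x : X, Nat.card (MulAction.orbit Δ x) = p := fun x => by
    rw [Nat.card_congr (MulAction.orbitEquivQuotientStabilizer Δ x), ← Subgroup.index_eq_card,
      show MulAction.stabilizer Δ x = ⊥ from
        (Subgroup.eq_bot_iff_forall _).2 fun g hg => hfree g x hg, Subgroup.index_bot, hΔ]
  haveI : ∀ q : Q, Fintype (MulAction.orbit Δ q.out) := fun q => Fintype.ofFinite _
  have hsum : ∑ x, f x ^ 2 = (p : ℤ) * ∑ q : Q, f q.out ^ 2 := by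
    rw [← (MulAction.selfEquivSigmaOrbits Δ X).symm.sum_comp, Fintype.sum_sigma, Finset.mul_sum]
    refine Finset.sum_congr rfl fun q _ => ?_
    have hval : ∀ y : MulAction.orbit Δ q.out,
        f ((MulAction.selfEquivSigmaOrbits Δ X).symm ⟨q, y⟩) = f q.out := by
      rintro ⟨y, g, rfl⟩
      exact hinv g q.out
    simp only [hval, Finset.sum_const, Finset.card_univ, ← Nat.card_eq_fintype_card, horb,
      nsmul_eq_mul]
  have hcard : Nat.card X = p * Nat.card Q := by
    rw [Nat.card_congr (MulAction.selfEquivSigmaOrbits Δ X), Nat.card_sigma,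
      Finset.sum_congr rfl fun q _ => horb q.out, Finset.sum_const, Finset.card_univ, smul_eq_mul,
      ← Nat.card_eq_fintype_card, mul_comm]
  have hp : p.Prime := Fact.out
  have h1 : (p : ℤ) ∣ ∑ q : Q, f q.out ^ 2 := by
    rw [hsum, sq] at h
    exact (mul_dvd_mul_iff_left (by exact_mod_cast hp.ne_zero)).1 h
  have h2 := (ZMod.intCast_zmod_eq_zero_iff_dvd _ _).2 h1
  push_cast at h2
  have hne : ∀ x, (f x : ZMod p) ≠ 0 := fun x h0 => hf x ((ZMod.intCast_zmod_eq_zero_iff_dvd _ _).1 h0)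
  haveI : Nonempty Q := ⟨Quotient.mk'' (Classical.arbitrary X)⟩
  have hpos : 0 < Nat.card Q := Nat.card_pos
  have hne1 : Nat.card Q ≠ 1 := fun hq => by
    rw [Nat.card_eq_one_iff_unique] at hq
    obtain ⟨_, ⟨q⟩⟩ := hq
    rw [Fintype.sum_eq_single q fun b hb => absurd (Subsingleton.elim b q) hb] at h2
    exact hne _ (pow_eq_zero_iff two_ne_zero |>.1 h2)
  refine ⟨hcard ▸ dvd_mul_right p _, ?_, fun h4 => ?_⟩
  · rw [hcard, mul_comm 2]; exact Nat.mul_le_mul_left p (by omega)
  · rw [hcard, mul_comm 3]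
    refine Nat.mul_le_mul_left p ?_
    by_contra hlt
    have hq2 : Fintype.card Q = 2 := by rw [← Nat.card_eq_fintype_card]; omega
    obtain ⟨a, b, hab, huniv⟩ := Finset.card_eq_two.1 (Finset.card_univ.trans hq2)
    rw [huniv, Finset.sum_pair hab] at h2
    refine (ZMod.exists_sq_eq_neg_one_iff.1 ⟨((f a.out : ℤ) : ZMod p) / ((f b.out : ℤ) : ZMod p), ?_⟩) h4
    rw [div_mul_div_comm, eq_div_iff (mul_ne_zero (hne _) (hne _))]
    linear_combination -h2

variable {P : Subgroup G} {e : Set (IrrCharacter (Subgroup.centralizer (P : Set G)))}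
  {F : FusionSystem P}

include hM in
/-- When the focal subgroup is proper, a group of order `p` of linear characters acts freely on the
characters of height zero and fixes their regular parts. -/
theorem exists_free_orbits (hmax : IsMaximalBrauerPair p M B P e)
    (hF : IsBlockFusionSystemOn p M B P e F) (hfoc : F.focalSubgroup < P) [Fintype (HZero p B)]
    (f : HZero p B → ℤ)
    (hf : ∀ x y : HZero p B, pRegularPart p ((x : IrrCharacter G) : G → ℂ) =
        pRegularPart p ((y : IrrCharacter G) : G → ℂ) → f x = f y)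
    (hunit : ∀ x, ¬ (p : ℤ) ∣ f x) (hsum : (p : ℤ) ^ 2 ∣ ∑ x, f x ^ 2) :
    p ∣ Nat.card (HZero p B) ∧ 2 * p ≤ Nat.card (HZero p B) ∧
      (p % 4 = 3 → 3 * p ≤ Nat.card (HZero p B)) := by
  classical
  have hp : p.Prime := Fact.out
  have hP : IsPGroup p P := hmax.1.1.1
  set K := F.focalSubgroup.subgroupOf P with hK
  have hcomm : ∀ x y : P, x * y * x⁻¹ * y⁻¹ ∈ K := by
    intro x y
    rw [hK, Subgroup.mem_subgroupOf]
    refine Subgroup.subset_closure ⟨P, conjHom P (y : G), x⁻¹, F.conj_mem le_rfl y.2, ?_⟩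
    show _ = ((x⁻¹ : P) : G)⁻¹ * ((y : G) * ((x⁻¹ : P) : G) * (y : G)⁻¹)
    push_cast
    group
  have hKn : K.Normal := ⟨fun k hk g => by simpa using K.mul_mem (hcomm g k) hk⟩
  let _ : CommGroup (P ⧸ K) :=
    { (inferInstance : Group (P ⧸ K)) with
      mul_comm := fun a b => by
        induction a using QuotientGroup.induction_on with | H x =>
        induction b using QuotientGroup.induction_on with | H y =>
        rw [← QuotientGroup.mk_mul, ← QuotientGroup.mk_mul, QuotientGroup.eq]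
        simpa [mul_assoc] using hcomm y⁻¹ x⁻¹ }
  haveI : NeZero (Monoid.exponent (P ⧸ K) : ℂ) :=
    ⟨Nat.cast_ne_zero.mpr Monoid.exponent_ne_zero_of_finite⟩
  let dual := (CommGroup.monoidHom_mulEquiv_of_hasEnoughRootsOfUnity (P ⧸ K) ℂ).some
  haveI : Finite ((P ⧸ K) →* ℂˣ) := Finite.of_equiv (P ⧸ K) dual.symm.toEquiv
  let lof : ((P ⧸ K) →* ℂˣ) → (P →* ℂˣ) := fun γ => γ.comp (QuotientGroup.mk' K)
  have hlof : ∀ γ, IsFocTrivial F (lof γ) := fun γ x hx => by
    show γ (QuotientGroup.mk x) = 1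
    rw [(QuotientGroup.eq_one_iff x).2 (Subgroup.mem_subgroupOf.2 hx), map_one]
  have hex : ∀ (γ : (P ⧸ K) →* ℂˣ) (x : HZero p B), ∃ y : HZero p B,
      ((y : IrrCharacter G) : G → ℂ) = star p M P e (lof γ) ((x : IrrCharacter G) : G → ℂ) := by
    intro γ x
    obtain ⟨ψ, h1, h2, h3⟩ := exists_star_irr hM hmax hF (hlof γ) x.2.1
    exact ⟨⟨ψ, h2, h3.trans x.2.2⟩, h1⟩
  choose act hact using hex
  letI : MulAction ((P ⧸ K) →* ℂˣ) (HZero p B) :=
    { smul := act
      one_smul := fun x => Subtype.ext (Subtype.ext (by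
        show ((act 1 x : HZero p B) : IrrCharacter G).1 = _
        rw [hact, show lof 1 = 1 from MonoidHom.one_comp _, star_one hM hmax hF x.2.1]))
      mul_smul := fun γ δ x => Subtype.ext (Subtype.ext (by
        show ((act (γ * δ) x : HZero p B) : IrrCharacter G).1 =
          ((act γ (act δ x) : HZero p B) : IrrCharacter G).1
        rw [hact, hact, hact, star_star hM hmax hF (hlof γ) (hlof δ),
          show lof (γ * δ) = lof γ * lof δ from MonoidHom.mul_comp _ _ _])) }
  have hfree : ∀ (γ : (P ⧸ K) →* ℂˣ) (x : HZero p B), γ • x = x → γ = 1 := by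
    intro γ x hx
    refine MonoidHom.ext fun q => ?_
    obtain ⟨z, rfl⟩ := QuotientGroup.mk'_surjective K q
    obtain ⟨b, hb, hble⟩ := exists_subpair hM (P := P) (e := e) hmax.1.1
      (Subgroup.zpowers_le.2 z.2)
    let a : BrauerPairIdx G := ⟨Subgroup.zpowers (z : G), b⟩
    have ha : a ∈ pairsAt M (z : G) := mem_pairsAt.2 ⟨rfl, hb⟩
    have hzp : ∃ k, orderOf (z : G) = p ^ k := exists_order_pow hP z
    have haB := (isBrauerPairOf_iff_of_le hM hmax.1.2.1 hble).1 hmax.1
    have hfix : star p M P e (lof γ) ((x : IrrCharacter G) : G → ℂ) =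
        ((x : IrrCharacter G) : G → ℂ) :=
      (hact γ x).symm.trans (congrArg (fun y : HZero p B => ((y : IrrCharacter G) : G → ℂ)) hx)
    have hw := wgt_eq_one_of_fixed hM hmax hF (hlof γ) x.2.1 hfix hzp ha haB
      (exists_piece_ne_zero_of_height_zero hM hzp ha haB x.2.1 x.2.2)
    have hx1 : SubpairLE p M (conjIdx 1 a).1 (conjIdx 1 a).2 P e := by
      rw [conjIdx_one hM (a := a) hb]; exact hble
    rw [wgt_eq hM hF (hlof γ) rfl hb hx1, one_mul, inv_one, mul_one, lval_coe] at hw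
    exact Units.val_eq_one.1 hw
  -- a subgroup of order `p`
  have hdvd : p ∣ Nat.card ((P ⧸ K) →* ℂˣ) := by
    rw [Nat.card_congr dual.toEquiv]
    obtain ⟨k, hk⟩ := (hP.to_quotient K).exists_card_eq
    rcases Nat.eq_zero_or_pos k with rfl | hk0
    · rw [pow_zero, ← Subgroup.index_eq_card, Subgroup.index_eq_one, hK,
        Subgroup.subgroupOf_eq_top] at hk
      exact absurd hk (not_le_of_gt hfoc)
    · rw [hk]; exact dvd_pow_self p hk0.ne'
  obtain ⟨γ₀, hγ₀⟩ := exists_prime_orderOf_dvd_card' p hdvd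
  haveI : Nonempty (HZero p B) := by
    obtain ⟨χ, hχ, h⟩ := exists_blockHeight_eq_zero (G := G) p (isPBlock_nonempty hM hmax.1.2.1)
    exact ⟨⟨χ, hχ, h⟩⟩
  refine orbit_bounds (Δ := Subgroup.zpowers γ₀) ((Nat.card_zpowers γ₀).trans hγ₀)
    (fun g x hx => Subtype.ext (hfree _ x hx)) (fun g x => hf _ _ ?_) hunit hsum
  funext s
  unfold pRegularPart
  split_ifs with hs
  · show ((act (g : (P ⧸ K) →* ℂˣ) x : HZero p B) : IrrCharacter G).1 s = _
    rw [hact]
    exact star_apply_regular hM hmax hF (hlof _) x.2.1 hs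
  · rfl

end Cfsg.Agent.Star
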