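import Cfsg.Agent.Lib.BrauerPairs.Pairs
import Cfsg.Agent.Lib.Blocks.Trace
import Mathlib.RingTheory.Polynomial.ScaleRoots
import Mathlib.RingTheory.IntegralClosure.IsIntegralClosure.Basic
import Mathlib.RingTheory.Polynomial.IntegralNormalization

/-!
# The group algebra over the local ring: spectral idempotents and lifting

* `rd : Loc hM G →+* MonoidAlgebra (Res M) G` (reduction), `liftEl`;
* `mem_locRing_of_root` (the local ring is integrally closed in `ℂ`);
* `exists_spectral`: every `w` has a polynomial `q` with `π = w * q(w)` idempotent and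
  `rd w ^ m * (1 - rd π) = 0`;
* `eq_zero_of_rd_eq_zero`, `exists_lift_idem`: lifting of idempotents.
-/

set_option autoImplicit false

open Polynomial

namespace Cfsg.Agent.Star

open Cfsg Cfsg.Agent.Blocks Cfsg.Agent.BrauerPairs

variable {G : Type*} [Group G] {p : ℕ} {M : Ideal AlgInt}

section ring

variable (hM : IsPModular p M)

/-- Reduction of local integers, as a ring homomorphism. -/
noncomputable def resHom : locRing hM →+* Res M where
  toFun z := res M z
  map_one' := res_one hM
  map_mul' x y := res_mul hM x.2 y.2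
  map_zero' := res_zero hM
  map_add' x y := res_add hM x.2 y.2

theorem resHom_apply (z : locRing hM) : resHom hM z = res M (z : ℂ) := rfl

/-- The local ring is integrally closed in `ℂ`. -/
theorem mem_locRing_of_root {P : (locRing hM)[X]} (hP : P.Monic) {z : ℂ}
    (hz : P.eval₂ (locRing hM).subtype z = 0) : MemLocalRing M z := by
  classical
  have hc : ∀ i, ∃ a b : AlgInt, b ∉ M ∧ (a : ℂ) / (b : ℂ) = (P.coeff i : ℂ) := fun i => (P.coeff i).2
  choose a b hb hab using hc
  set n := P.natDegree with hn
  let d : AlgInt := ∏ i ∈ Finset.range n, b i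
  have hd : d ∉ M := Finset.prod_induction b (· ∉ M) (fun x y => pmod_mul_notMem hM)
    (pmod_one_notMem hM) fun i _ => hb i
  have hb0 : ∀ i, (b i : ℂ) ≠ 0 := fun i h => hb i (by rw [show b i = 0 from Subtype.ext h]; exact M.zero_mem)
  have hd0 : (d : ℂ) ≠ 0 := fun h => hd (by rw [show d = 0 from Subtype.ext h]; exact M.zero_mem)
  -- clear the denominators
  have hint : IsIntegral ℤ ((d : ℂ) * z) := by
    let c : ℕ → AlgInt := fun i => a i * (∏ j ∈ (Finset.range n).erase i, b j) * d ^ (n - i - 1)
    let Q : AlgInt[X] := X ^ n + ∑ i ∈ Finset.range n, C (c i) * X ^ i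
    have hQ : Q.Monic := monic_X_pow_add ((degree_sum_le _ _).trans_lt (by
      refine (Finset.sup_lt_iff (WithBot.bot_lt_coe n)).mpr fun i hi => ?_
      exact (degree_C_mul_X_pow_le i (c i)).trans_lt (WithBot.coe_lt_coe.mpr (Finset.mem_range.1 hi))))
    have hQz : Q.eval₂ (algebraMap AlgInt ℂ) ((d : ℂ) * z) = 0 := by
      rw [eval₂_eq_sum_range, ← hn, Finset.sum_range_succ, hn, hP.coeff_natDegree, ← hn,
        map_one, one_mul] at hz
      have e : Q.eval₂ (algebraMap AlgInt ℂ) ((d : ℂ) * z) =
          (d : ℂ) ^ n * (∑ i ∈ Finset.range n, ((P.coeff i : locRing hM) : ℂ) * z ^ i + z ^ n) := by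
        simp only [Q, eval₂_add, eval₂_X_pow, eval₂_finsetSum, eval₂_mul, eval₂_C, mul_add,
          Finset.mul_sum, mul_pow]
        rw [add_comm]
        congr 1
        refine Finset.sum_congr rfl fun i hi => ?_
        have hdi : (d : ℂ) = (b i : ℂ) * ((∏ j ∈ (Finset.range n).erase i, b j : AlgInt) : ℂ) := by
          show ((∏ j ∈ Finset.range n, b j : AlgInt) : ℂ) = _
          rw [← Finset.mul_prod_erase _ _ hi]
          rfl
        have hni : n = (n - i - 1) + 1 + i := by have := Finset.mem_range.1 hi; omega
        show ((c i : AlgInt) : ℂ) * _ = _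
        conv_rhs => rw [hni, pow_add, pow_succ, ← hab i]
        show (a i : ℂ) * ((∏ j ∈ (Finset.range n).erase i, b j : AlgInt) : ℂ) * (d : ℂ) ^ (n - i - 1) *
          _ = _
        field_simp [hb0 i]
        rw [hdi]
        ring
      rw [e]
      exact mul_eq_zero_of_right _ hz
    exact isIntegral_trans _ ⟨Q, hQ, hQz⟩
  have h : z = ((⟨_, hint⟩ : AlgInt) : ℂ) / (d : ℂ) := by
    show z = (d : ℂ) * z / (d : ℂ)
    rw [mul_div_cancel_left₀ z hd0]
  exact ⟨_, d, hd, h.symm⟩

/-- A monic polynomial over the local ring splits there. -/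
theorem exists_roots {P : (locRing hM)[X]} (hP : P.Monic) :
    ∃ r : Multiset (locRing hM), P = (r.map fun a => X - C a).prod := by
  have hPm := hP.map (locRing hM).subtype
  have hs := IsAlgClosed.splits (P.map (locRing hM).subtype)
  have hmem : ∀ a ∈ (P.map (locRing hM).subtype).roots, a ∈ locRing hM := fun a ha => by
    refine mem_locRing_of_root hM hP ?_
    rw [← eval_map]
    exact (mem_roots hPm.ne_zero).1 ha
  refine ⟨(P.map (locRing hM).subtype).roots.pmap Subtype.mk hmem, ?_⟩
  refine map_injective _ (locRing hM).subtype_injective ?_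
  rw [Polynomial.map_multiset_prod, Multiset.map_map]
  conv_lhs => rw [hs.eq_prod_roots_of_monic hPm]
  congr 1
  conv_lhs => rw [← Multiset.attach_map_val (P.map (locRing hM).subtype).roots, Multiset.map_map]
  rw [Multiset.pmap_eq_map_attach, Multiset.map_map]
  simp [Function.comp_def]

end ring

/-- The group algebra over the local ring. -/
abbrev Loc (hM : IsPModular p M) (G : Type*) : Type _ := MonoidAlgebra (locRing hM) G

variable (hM : IsPModular p M)

/-- Reduction of the group algebra. -/
noncomputable def rd : Loc hM G →+* MonoidAlgebra (Res M) G :=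
  MonoidAlgebra.mapRingHom G (resHom hM)

theorem coeff_rd (a : Loc hM G) (x : G) : (rd hM a).coeff x = res M ((a.coeff x : ℂ)) := by
  rw [rd, MonoidAlgebra.coeff_mapRingHom, resHom_apply]

theorem rd_cj (g : G) (a : Loc hM G) : rd hM (cj g a) = cj g (rd hM a) := by
  ext x
  rw [coeff_rd, coeff_cj, coeff_cj, coeff_rd]

theorem fixed_rd {S : Subgroup G} {a : Loc hM G} (ha : Fixed S a) : Fixed S (rd hM a) :=
  fun u hu => by rw [← rd_cj, ha u hu]

/-- The subalgebra of fixed points. -/
noncomputable def fixedAlg (T : Subgroup G) : Subalgebra (locRing hM) (Loc hM G) where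
  carrier := {a | Fixed T a}
  mul_mem' := Fixed.mul
  one_mem' := Fixed.one
  add_mem' := Fixed.add
  zero_mem' := fun _ _ => map_zero _
  algebraMap_mem' := fun r u _ => by
    rw [MonoidAlgebra.coe_algebraMap]
    simp [cj_single]

theorem fixed_aeval {T : Subgroup G} {w : Loc hM G} (hw : Fixed T w) (q : (locRing hM)[X]) :
    Fixed T (aeval w q) := by
  show aeval w q ∈ fixedAlg hM T
  induction q using Polynomial.induction_on' with
  | add a b ha hb => rw [map_add]; exact Subalgebra.add_mem _ ha hb
  | monomial n a =>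
    rw [aeval_monomial]
    exact Subalgebra.mul_mem _ (Subalgebra.algebraMap_mem _ a) (Subalgebra.pow_mem _ hw n)

variable [Finite G]

/-- A lift of an element of the residue algebra, equivariant for conjugation. -/
noncomputable def liftEl (a : MonoidAlgebra (Res M) G) : Loc hM G :=
  MonoidAlgebra.ofCoeff (Finsupp.equivFunOnFinite.symm fun x =>
    (⟨unres (a.coeff x), memR_unres hM _⟩ : locRing hM))

theorem rd_liftEl (a : MonoidAlgebra (Res M) G) : rd hM (liftEl hM a) = a := by
  ext x
  rw [coeff_rd]
  simp [liftEl, res_unres hM]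

theorem fixed_liftEl {S : Subgroup G} {a : MonoidAlgebra (Res M) G} (ha : Fixed S a) :
    Fixed S (liftEl hM a) := fun u hu => by
  ext x
  have h := congrArg (fun w : MonoidAlgebra (Res M) G => w.coeff x) (ha u hu)
  simp only [coeff_cj] at h
  simp [coeff_cj, liftEl, h]

/-- An idempotent reducing to zero is zero. -/
theorem eq_zero_of_rd_eq_zero {f : Loc hM G} (hf : f * f = f) (h0 : rd hM f = 0) : f = 0 := by
  classical
  have := Fintype.ofFinite G
  let L : Matrix G G ℂ := fun g h => (f.coeff (g * h⁻¹) : ℂ)
  have hL : L * L = L := by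
    ext g h
    show ∑ m, L g m * L m h = L g h
    conv_rhs => rw [show L g h = (((f * f).coeff (g * h⁻¹) : locRing hM) : ℂ) by rw [hf]]
    rw [MonoidAlgebra.coeff_mul_apply_left, Finsupp.sum_fintype _ _ (fun _ => by simp)]
    push_cast
    refine Fintype.sum_equiv ((Equiv.inv G).trans (Equiv.mulLeft g)) _ _ fun m => ?_
    simp [L, mul_assoc]
  have hI : ∀ i j, MemLocalIdeal M (L i j) := fun i j => by
    have := congrArg (fun w : MonoidAlgebra (Res M) G => w.coeff (i * j⁻¹)) h0
    simp only [coeff_rd, MonoidAlgebra.coeff_zero, Finsupp.zero_apply] at this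
    exact (res_eq_zero_iff hM (f.coeff _).2).1 this
  have hdet : (1 - L).det ≠ 0 := det_ne_zero_of_congr_one hM _ fun i j => by
    simpa using memI_neg (hI i j)
  have hz : L = 0 := by
    have h1 : (1 - L) * L = 0 := by rw [sub_mul, one_mul, hL, sub_self]
    have h2 := congrArg ((1 - L)⁻¹ * ·) h1
    simp only [← mul_assoc, Matrix.nonsing_inv_mul _ (isUnit_iff_ne_zero.2 hdet), one_mul,
      mul_zero] at h2
    exact h2
  ext x
  have := congrFun (congrFun hz x) 1
  simpa [L] using this

/-- The spectral idempotent of an element. -/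
theorem exists_spectral (w : Loc hM G) :
    ∃ (q : (locRing hM)[X]) (m : ℕ), (w * aeval w q) * (w * aeval w q) = w * aeval w q ∧
      rd hM w ^ m * (1 - rd hM (w * aeval w q)) = 0 := by
  classical
  obtain ⟨P, hP, hPw⟩ := IsIntegral.of_finite (locRing hM) w
  change aeval w P = 0 at hPw
  obtain ⟨r, hr⟩ := exists_roots hM hP
  let Z := r.filter fun a : locRing hM => MemLocalIdeal M (a : ℂ)
  let N := r.filter fun a : locRing hM => ¬ MemLocalIdeal M (a : ℂ)
  have hPZN : (Z.map fun a => X - C a).prod * (N.map fun a => X - C a).prod = P := by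
    rw [← Multiset.prod_add, ← Multiset.map_add, Multiset.filter_add_not, hr]
  have hunit : ∀ a b : locRing hM, MemLocalIdeal M (a : ℂ) → ¬ MemLocalIdeal M (b : ℂ) →
      IsCoprime (X - C a) (X - C b) := by
    intro a b ha hb
    have hne : ¬ MemLocalIdeal M ((b : ℂ) - a) := fun h => hb (by simpa using memI_add hM h ha)
    have hu : IsUnit (b - a) := by
      refine ⟨⟨b - a, ⟨((b : ℂ) - a)⁻¹, memR_inv hM (b - a).2 hne⟩, ?_, ?_⟩, rfl⟩
      · exact Subtype.ext (mul_inv_cancel₀ (ne_zero_of_not_memI hM hne))
      · exact Subtype.ext (inv_mul_cancel₀ (ne_zero_of_not_memI hM hne))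
    obtain ⟨v, hv⟩ := hu.exists_left_inv
    exact ⟨C v, -C v, by rw [← C_1, ← hv, C_mul, C_sub]; ring⟩
  have hco : IsCoprime (X * (Z.map fun a => X - C a).prod) (N.map fun a => X - C a).prod := by
    have hN : ∀ a : locRing hM, MemLocalIdeal M (a : ℂ) →
        IsCoprime (X - C a) (N.map fun b => X - C b).prod := by
      intro a ha
      refine Multiset.prod_induction _ _ (fun x y hx hy => hx.mul_right hy) isCoprime_one_right ?_
      intro f hf
      obtain ⟨b, hb, rfl⟩ := Multiset.mem_map.1 hf
      exact hunit a b ha (Multiset.mem_filter.1 hb).2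
    refine IsCoprime.mul_left ?_ ?_
    · simpa using hN 0 (by simpa using memI_zero hM)
    · refine Multiset.prod_induction (fun f => IsCoprime f (N.map fun b => X - C b).prod) _
        (fun x y hx hy => hx.mul_left hy) isCoprime_one_left ?_
      intro f hf
      obtain ⟨b, hb, rfl⟩ := Multiset.mem_map.1 hf
      exact hN b (Multiset.mem_filter.1 hb).2
  obtain ⟨u, v, huv⟩ := hco
  refine ⟨u * (Z.map fun a => X - C a).prod, Multiset.card Z + 1, ?_, ?_⟩
  all_goals
    have hπ : w * aeval w (u * (Z.map fun a => X - C a).prod) =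
        aeval w (u * (X * (Z.map fun a => X - C a).prod)) := by
      rw [show u * (X * (Z.map fun a => X - C a).prod) = X * (u * (Z.map fun a => X - C a).prod) by
        ring, map_mul (aeval w) X, aeval_X]
    rw [hπ]
    have hzero : ∀ g : (locRing hM)[X], aeval w (g * P) = 0 := fun g => by
      rw [map_mul, hPw, mul_zero]
  · rw [← map_mul, ← sub_eq_zero, ← map_sub]
    rw [show u * (X * (Z.map fun a => X - C a).prod) * (u * (X * (Z.map fun a => X - C a).prod)) -
        u * (X * (Z.map fun a => X - C a).prod) =
        -(u * v * X) * ((Z.map fun a => X - C a).prod * (N.map fun a => X - C a).prod) by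
      linear_combination (u * (X * (Z.map fun a => X - C a).prod)) * huv]
    rw [hPZN, hzero]
  · have hres : ∀ s : Multiset (locRing hM), (∀ a ∈ s, MemLocalIdeal M (a : ℂ)) →
        rd hM (aeval w (s.map fun a => X - C a).prod) = rd hM w ^ Multiset.card s := by
      intro s hs
      induction s using Multiset.induction_on with
      | empty => simp
      | cons a s ih =>
        rw [Multiset.map_cons, Multiset.prod_cons, map_mul, map_mul,
          ih fun b hb => hs b (Multiset.mem_cons_of_mem hb), Multiset.card_cons, pow_succ']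
        congr 1
        rw [map_sub, aeval_X, aeval_C, map_sub, sub_eq_self]
        ext x
        rw [coeff_rd, MonoidAlgebra.coe_algebraMap]
        have ha := hs a (Multiset.mem_cons_self a s)
        by_cases hx : x = 1
        · simpa [hx] using (res_eq_zero_iff hM a.2).2 ha
        · simp [MonoidAlgebra.coeff_single, Ne.symm hx, res_zero hM]
    rw [pow_succ', ← hres Z (fun a ha => (Multiset.mem_filter.1 ha).2), ← map_mul,
      ← map_one (rd hM), ← map_sub, ← map_mul]
    have e : w * aeval w (Z.map fun a => X - C a).prod *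
        (1 - aeval w (u * (X * (Z.map fun a => X - C a).prod))) =
        aeval w (X * (Z.map fun a => X - C a).prod *
          (1 - u * (X * (Z.map fun a => X - C a).prod))) := by
      simp only [map_mul, map_sub, map_one, aeval_X]
    rw [e, show X * (Z.map fun a => X - C a).prod * (1 - u * (X * (Z.map fun a => X - C a).prod)) =
        (v * X) * ((Z.map fun a => X - C a).prod * (N.map fun a => X - C a).prod) by
      linear_combination -(X * (Z.map fun a => X - C a).prod) * huv]
    rw [hPZN, hzero, map_zero]

end Cfsg.Agent.Star
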