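import Cfsg.Agent.Lib.Star.Free
import Cfsg.Agent.Lib.BlocksNormal.MajorHeight
import Cfsg.Agent.Lib.BrauerPairs.Fusion
import Cfsg.Agent.Lib.BrauerPairs.NilpotentFusion

/-!
# Pieces, conjugation and contributions

* `pieceW`, `pieceW_conj`, `pieceW_eq_contribution`;
* `classInner_gstar`: scalar products of star constructions as sums over the pairs of the block.
-/

set_option autoImplicit false
set_option synthInstance.maxHeartbeats 200000
set_option maxHeartbeats 1000000

open scoped ComplexConjugate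

namespace Cfsg.Agent.Star

open Cfsg Cfsg.Agent.Blocks Cfsg.Agent.BrauerPairs Cfsg.Agent.SecondMain

variable {G : Type*} [Group G] [Finite G] {p : ℕ} [Fact p.Prime] {M : Ideal AlgInt}
  (hM : IsPModular p M) {B : Set (IrrCharacter G)} {P : Subgroup G}
  {e : Set (IrrCharacter (Subgroup.centralizer (P : Set G)))} {φ φ' : G → ℂ}

/-- The mean square of a piece on the section of `u`. -/
noncomputable def pieceW (p : ℕ) (a : BrauerPairIdx G) (χ : G → ℂ) (u : G) : ℝ :=
  (∑ s ∈ regSet p u, Complex.normSq (piece a χ (u * s))) /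
    (Nat.card (Subgroup.centralizer (Subgroup.zpowers u : Set G)) : ℝ)

omit [Fact p.Prime] in
theorem pieceNorm_eq (a : BrauerPairIdx G) (χ : G → ℂ) (u : G) :
    pieceNorm p a χ u =
      (Nat.card (Subgroup.centralizer (Subgroup.zpowers u : Set G)) : ℂ) * (pieceW p a χ u : ℂ) := by
  have h : (Nat.card (Subgroup.centralizer (Subgroup.zpowers u : Set G)) : ℂ) ≠ 0 := card_ne_zero_C
  rw [pieceW, Complex.ofReal_div, Complex.ofReal_natCast, mul_div_cancel₀ _ h, Complex.ofReal_sum]
  exact Finset.sum_congr rfl fun s _ => Complex.mul_conj _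

omit [Fact p.Prime] in
theorem pieceW_pos {a : BrauerPairIdx G} {χ : G → ℂ} {u : G}
    (h : ∃ s ∈ regSet p u, piece a χ (u * s) ≠ 0) : 0 < pieceW p a χ u := by
  obtain ⟨s, hs, hne⟩ := h
  refine div_pos ?_ (Nat.cast_pos.2 Nat.card_pos)
  exact Finset.sum_pos' (fun t _ => Complex.normSq_nonneg _) ⟨s, hs, Complex.normSq_pos.2 hne⟩

theorem piece_conj (a : BrauerPairIdx G) {χ : G → ℂ} (hχ : IsClassFunction G χ) (g h : G) :
    piece (conjIdx g a) χ (g * h * g⁻¹) = piece a χ h := by
  have := Fintype.ofFinite G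
  rw [piece_def, piece_def]
  symm
  refine Fintype.sum_equiv (MulAut.conj g).toEquiv _ _ fun k => ?_
  rw [show (MulAut.conj g).toEquiv k = g * k * g⁻¹ from rfl]
  congr 1
  · show _ = subgroupBlockCoeff (Subgroup.centralizer (conjSub g a.1 : Set G)) (conjBlock a.1 g a.2) _
    rw [conjBlock_eq_conjImg, subgroupBlockCoeff_conjImg]
    congr 1
    group
  · rw [← hχ (k * h) g]
    congr 1
    group

omit [Fact p.Prime] in
theorem card_centralizer_conj (g u : G) :
    Nat.card (Subgroup.centralizer (Subgroup.zpowers (g * u * g⁻¹) : Set G)) =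
      Nat.card (Subgroup.centralizer (Subgroup.zpowers u : Set G)) := by
  rw [show Subgroup.zpowers (g * u * g⁻¹) = conjSub g (Subgroup.zpowers u) from
    (MonoidHom.map_zpowers (MulAut.conj g).toMonoidHom u).symm, ← conjSub_centralizer_map, card_conjSub]

theorem pieceW_conj (a : BrauerPairIdx G) {χ : G → ℂ} (hχ : IsClassFunction G χ) (g u : G) :
    pieceW p (conjIdx g a) χ (g * u * g⁻¹) = pieceW p a χ u := by
  rw [pieceW, pieceW, card_centralizer_conj]
  congr 1
  symm
  refine Finset.sum_nbij (fun s => g * s * g⁻¹) (fun s hs => ?_)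
    (fun s _ t _ h => by simpa using h) (fun t ht => ?_) fun s _ => ?_
  · obtain ⟨hc, hr⟩ := mem_regSet.1 hs
    refine mem_regSet.2 ⟨?_, by rw [orderOf_conj]; exact hr⟩
    show (g * u * g⁻¹) * (g * s * g⁻¹) = (g * s * g⁻¹) * (g * u * g⁻¹)
    rw [conj_mul, conj_mul, hc.eq]
  · obtain ⟨hc, hr⟩ := mem_regSet.1 ht
    refine ⟨g⁻¹ * t * g, mem_regSet.2 ⟨?_, ?_⟩, by simp [mul_assoc]⟩
    · have h := hc.map (MulAut.conj g⁻¹).toMonoidHom
      simpa [mul_assoc] using h
    · have h := orderOf_conj g⁻¹ t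
      rw [inv_inv] at h
      rwa [h]
  · rw [← piece_conj a hχ g (u * s), ← conj_mul]

/-- A piece as a block component, for an element with the same centraliser. -/
theorem piece_eq_blockPart' {u v : G}
    (hH : ∀ g, g ∈ Subgroup.centralizer (Subgroup.zpowers v : Set G) ↔ Commute u g)
    (b : Set (IrrCharacter (Subgroup.centralizer (Subgroup.zpowers v : Set G))))
    {χ : G → ℂ} (hχ : IsClassFunction G χ)
    (s : Subgroup.centralizer (Subgroup.zpowers v : Set G)) :
    piece ⟨Subgroup.zpowers v, b⟩ χ (u * (s : G)) =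
      blockPart b (fun c : Subgroup.centralizer (Subgroup.zpowers v : Set G) => χ (u * (c : G))) s := by
  classical
  have := Fintype.ofFinite G
  have := Fintype.ofFinite (Subgroup.centralizer (Subgroup.zpowers v : Set G))
  rw [piece_def, blockPart_eq_sum b (isClassFunction_shift (fun h hh => (hH h).1 hh) hχ)]
  rw [← Finset.sum_filter_add_sum_filter_not Finset.univ
      (· ∈ Subgroup.centralizer (Subgroup.zpowers v : Set G)),
    Finset.sum_eq_zero
      (s := Finset.univ.filter fun k => ¬ k ∈ Subgroup.centralizer (Subgroup.zpowers v : Set G)) fun k hk => by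
      rw [subgroupBlockCoeff, dif_neg (Finset.mem_filter.1 hk).2, zero_mul],
    add_zero, Finset.sum_subtype (p := (· ∈ Subgroup.centralizer (Subgroup.zpowers v : Set G))) _
      (fun k => by simp)]
  refine Finset.sum_congr rfl fun k _ => ?_
  rw [subgroupBlockCoeff, dif_pos k.2]
  congr 1
  rw [Subgroup.coe_mul, ← mul_assoc, ← mul_assoc, ((hH _).1 k.2).eq]

include hM in
open scoped Classical in
theorem contribution_eq_pieceW {u v : G}
    [Fintype (Subgroup.centralizer (Subgroup.zpowers v : Set G))]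
    (hH : ∀ g, g ∈ Subgroup.centralizer (Subgroup.zpowers v : Set G) ↔ Commute u g)
    {b : Set (IrrCharacter (Subgroup.centralizer (Subgroup.zpowers v : Set G)))} [Fintype b]
    (hb : IsPBlock M b) (χ : IrrCharacter G) :
    contribution p b u χ χ =
      (p : ℂ) ^ blockDefect p b * (pieceW p ⟨Subgroup.zpowers v, b⟩ (χ : G → ℂ) u : ℂ) := by
  have := Fintype.ofFinite G
  set θ := fun c : Subgroup.centralizer (Subgroup.zpowers v : Set G) => (χ : G → ℂ) (u * (c : G))
  have hθ : IsClassFunction _ θ := isClassFunction_shift (fun h hh => (hH h).1 hh) (irr_class χ)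
  set F := (Finset.univ : Finset (Subgroup.centralizer (Subgroup.zpowers v : Set G))).filter
    (fun s => ¬ p ∣ orderOf s) with hF
  have hCeq : Nat.card (Subgroup.centralizer (Subgroup.zpowers u : Set G)) =
      Nat.card (Subgroup.centralizer (Subgroup.zpowers v : Set G)) := by
    congr 2
    ext g
    rw [hH, mem_centralizer_zpowers_iff]
  have hreg : ∀ f : G → ℂ, ∑ s ∈ regSet p u, f s = ∑ s ∈ F, f (s : G) := by
    intro f
    symm
    refine Finset.sum_nbij Subtype.val (fun s hs => mem_regSet.2 ⟨(hH _).1 s.2,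
      by rw [Subgroup.orderOf_coe]; exact (Finset.mem_filter.1 hs).2⟩) Subtype.val_injective.injOn
      (fun s hs => ?_) fun _ _ => rfl
    obtain ⟨h1, h2⟩ := mem_regSet.1 hs
    exact ⟨⟨s, (hH s).2 h1⟩, Finset.mem_filter.2 ⟨Finset.mem_univ _,
      by rwa [← Subgroup.orderOf_coe]⟩, rfl⟩
  rw [MajorSub.contribution_expand hM hH hb]
  have hnorm : pieceNorm p ⟨Subgroup.zpowers v, b⟩ (χ : G → ℂ) u =
      (Nat.card (Subgroup.centralizer (Subgroup.zpowers v : Set G)) : ℂ) * ∑ η ∈ b.toFinset,
        regInner p θ (η : _ → ℂ) * conj (classInner θ (η : _ → ℂ)) := by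
    rw [pieceNorm, hreg]
    simp only [piece_eq_blockPart' hH b (irr_class χ)]
    calc ∑ s ∈ F, blockPart b θ s * conj (blockPart b θ s)
        = ∑ η ∈ b.toFinset, (∑ ζ ∈ b.toFinset, classInner θ (ζ : _ → ℂ) *
            ∑ s ∈ F, (ζ : _ → ℂ) s * conj ((η : _ → ℂ) s)) * conj (classInner θ (η : _ → ℂ)) := by
          simp only [blockPart_apply, finsum_mem_eq_toFinset_sum, map_sum, map_mul, Finset.mul_sum,
            Finset.sum_mul]
          rw [Finset.sum_comm]
          refine Finset.sum_congr rfl fun η _ => ?_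
          rw [Finset.sum_comm]
          exact Finset.sum_congr rfl fun ζ _ => Finset.sum_congr rfl fun s _ => by ring
      _ = _ := by
          rw [Finset.mul_sum]
          refine Finset.sum_congr rfl fun η hη => ?_
          rw [regInner_eq_sum_toFinset hM hb hθ (Set.mem_toFinset.1 hη), ← mul_assoc, Finset.mul_sum]
          congr 1
          refine Finset.sum_congr rfl fun ζ _ => ?_
          rw [regInner_eq_sum, mul_left_comm,
            mul_inv_cancel_left₀ card_ne_zero_C]
  rw [pieceNorm_eq, hCeq] at hnorm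
  rw [mul_left_cancel₀ card_ne_zero_C hnorm, Finset.mul_sum]
  exact Finset.sum_congr rfl fun η _ => mul_assoc _ _ _

theorem isStable_one : IsStable p M P e (fun _ : G => (1 : ℂ)) := fun _ _ _ _ _ _ _ _ => rfl

include hM in
open scoped Classical in
theorem gstar_apply (hmax : IsMaximalBrauerPair p M B P e) (χ : G → ℂ) {u s : G}
    (hu : ∃ k, orderOf u = p ^ k) (hs : ¬ p ∣ orderOf s) (hc : Commute u s) :
    gstar p M P e φ χ (u * s) = ∑ a ∈ (pairsAt M u).filter (fun a => IsBrauerPairOf p M B a.1 a.2),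
      gwgt p M P e φ u a * piece a χ (u * s) := by
  rw [gstar, pow_ppExp hu hs hc]
  refine (Finset.sum_subset (Finset.filter_subset _ _) fun a ha hn => ?_).symm
  rw [gwgt, dif_neg, zero_mul]
  rintro ⟨x, hx⟩
  exact hn (Finset.mem_filter.2 ⟨ha, isBrauerPairOf_of_le hM hmax (mem_pairsAt.1 ha).2 hx⟩)

include hM in
/-- On the `p'`-elements the construction is multiplication by the value at `1`. -/
theorem gstar_apply_regular (hmax : IsMaximalBrauerPair p M B P e) {χ : IrrCharacter G}
    (hχ : χ ∈ B) {s : G} (hs : ¬ p ∣ orderOf s) :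
    gstar p M P e φ (χ : G → ℂ) s = φ 1 * (χ : G → ℂ) s := by
  classical
  have h1 : ∃ k, orderOf (1 : G) = p ^ k := ⟨0, by rw [orderOf_one, pow_zero]⟩
  have key := gstar_apply hM hmax (φ := φ) (χ : G → ℂ) h1 hs (Commute.one_left s)
  have key2 := sum_piece_pairs hM h1 hs (Commute.one_left s) hmax.1.2.1 hχ
  rw [one_mul] at key key2
  rw [key, ← key2, Finset.mul_sum]
  refine Finset.sum_congr rfl fun a ha => ?_
  obtain ⟨ha, haB⟩ := Finset.mem_filter.1 ha
  obtain ⟨x, hx⟩ := exists_conj_le_maximal hM hmax haB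
  have hex : ∃ x : G, SubpairLE p M (conjIdx x a).1 (conjIdx x a).2 P e := ⟨x, hx⟩
  rw [gwgt, dif_pos hex]
  simp

open scoped Classical in
/-- The `p`-elements with the pairs of `B` at them. -/
noncomputable def secIdx (p : ℕ) (M : Ideal AlgInt) (B : Set (IrrCharacter G)) :
    Finset ((_ : G) × BrauerPairIdx G) :=
  (Set.toFinite {u : G | ∃ k, orderOf u = p ^ k}).toFinset.sigma fun u =>
    (pairsAt M u).filter fun a => IsBrauerPairOf p M B a.1 a.2

omit [Fact p.Prime] in
theorem mem_secIdx {u : G} {a : BrauerPairIdx G} :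
    (⟨u, a⟩ : (_ : G) × BrauerPairIdx G) ∈ secIdx p M B ↔
      (∃ k, orderOf u = p ^ k) ∧ a ∈ pairsAt M u ∧ IsBrauerPairOf p M B a.1 a.2 := by
  simp [secIdx]

include hM in
/-- Scalar products of two constructions on the same character. -/
theorem classInner_gstar [Fintype G] (hmax : IsMaximalBrauerPair p M B P e) {χ : G → ℂ}
    (hχ : IsClassFunction G χ) :
    classInner (gstar p M P e φ χ) (gstar p M P e φ' χ) = (Nat.card G : ℂ)⁻¹ *
      ∑ q ∈ secIdx p M B, gwgt p M P e φ q.1 q.2 * conj (gwgt p M P e φ' q.1 q.2) *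
        pieceNorm p q.2 χ q.1 := by
  classical
  rw [classInner, sum_by_sections (p := p)]
  congr 1
  rw [secIdx, Finset.sum_sigma]
  refine Finset.sum_congr rfl fun u hu => ?_
  replace hu : ∃ k, orderOf u = p ^ k := by simpa using hu
  set S := (pairsAt M u).filter fun a => IsBrauerPairOf p M B a.1 a.2
  have hsub : S ⊆ pairsAt M u := Finset.filter_subset _ _
  rw [Finset.sum_congr rfl fun s hs => show _ =
      (∑ a ∈ S, gwgt p M P e φ u a * piece a χ (u * s)) *
        conj (∑ a ∈ S, gwgt p M P e φ' u a * piece a χ (u * s)) by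
    obtain ⟨hc, hr⟩ := mem_regSet.1 hs
    rw [gstar_apply hM hmax χ hu hr hc, gstar_apply hM hmax χ hu hr hc]]
  simp only [map_sum, map_mul, Finset.mul_sum]
  rw [Finset.sum_comm]
  refine Finset.sum_congr rfl fun b hb => ?_
  rw [mul_comm (gwgt p M P e φ u b), mul_assoc, ← sum_piece_mul hM S hsub _ hχ hb, Finset.mul_sum]
  exact Finset.sum_congr rfl fun s _ => by ring

end Cfsg.Agent.Star
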