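import Cfsg.Agent.Lib.Star.Prim

/-!
# The residue scalar of a primitive idempotent; Rosenberg's lemma

* `tau hM j x`: the scalar `c` with `j x j - c j` nilpotent modulo `M`; `tau_spec`, `tau_eq`,
  `tau_add`, `tau_sum`, `tau_self`, `tau_mul_comm`, `exists_assoc_of_tau`, `tau_cj`;
* `exists_eq_relTr_of_br_eq_zero`: a primitive idempotent in the kernel of the Brauer map at `T`
  is a relative trace from a subgroup of index `p`.
-/

set_option autoImplicit false
set_option synthInstance.maxHeartbeats 200000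
set_option maxHeartbeats 1000000

open Polynomial

namespace Cfsg.Agent.Star

open Cfsg Cfsg.Agent.Blocks Cfsg.Agent.BrauerPairs

variable {G : Type*} [Group G] [Finite G] {p : ℕ} {M : Ideal AlgInt} (hM : IsPModular p M)

theorem nilp_add {T : Subgroup G} {j x y : Loc hM G} (hj : IsPrim T j)
    (hx : Fixed T x) (hcx : InCorner j x) (hnx : IsNilpotent (rd hM x))
    (hy : Fixed T y) (hcy : InCorner j y) (hny : IsNilpotent (rd hM y)) :
    IsNilpotent (rd hM (x + y)) := by
  refine (prim_dichotomy hj (hx.add hy) (hcx.add hcy)).resolve_right ?_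
  rintro ⟨z, hz, hcz, -, hzs⟩
  have hnil : ∀ w : Loc hM G, Fixed T w → InCorner j w → IsNilpotent (rd hM w) →
      IsNilpotent (rd hM (z * w)) := by
    intro w hw hcw hnw
    refine (prim_dichotomy hj (hz.mul hw) (hcz.mul hcw)).resolve_right ?_
    rintro ⟨v, -, -, -, hv⟩
    exact corner_not_invertible hj hcw hnw (y := v * z) (by rw [mul_assoc, hv])
  have hsum : z * x + z * y = j := by rw [← mul_add, hzs]
  have hcom : Commute (rd hM (z * x)) (rd hM (z * y)) := by
    refine Commute.map ?_ (rd hM)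
    have h1 : z * y = j - z * x := eq_sub_of_add_eq' hsum
    rw [h1]
    exact Commute.sub_right ((hcz.mul hcx).2.trans (hcz.mul hcx).1.symm) (Commute.refl _)
  have := hcom.isNilpotent_add (hnil x hx hcx hnx) (hnil y hy hcy hny)
  rw [← map_add, hsum] at this
  exact prim_not_nilpotent hj this

theorem nilp_sum {ι : Type*} (s : Finset ι) {T : Subgroup G} {j : Loc hM G} (hj : IsPrim T j)
    (f : ι → Loc hM G) (h : ∀ i ∈ s, Fixed T (f i) ∧ InCorner j (f i) ∧ IsNilpotent (rd hM (f i))) :
    Fixed T (∑ i ∈ s, f i) ∧ InCorner j (∑ i ∈ s, f i) ∧ IsNilpotent (rd hM (∑ i ∈ s, f i)) :=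
  Finset.sum_induction f (fun x => Fixed T x ∧ InCorner j x ∧ IsNilpotent (rd hM x))
    (fun a b ha hb => ⟨ha.1.add hb.1, ha.2.1.add hb.2.1,
      nilp_add hM hj ha.1 ha.2.1 ha.2.2 hb.1 hb.2.1 hb.2.2⟩)
    ⟨fixed_zero, ⟨mul_zero _, zero_mul _⟩, by rw [map_zero]; exact IsNilpotent.zero⟩ h

/-- The residue scalar of `j x j` in the corner of `j`. -/
noncomputable def tau (j x : Loc hM G) : Res M :=
  haveI : Inhabited (Res M) := ⟨0⟩
  Classical.epsilon fun c => IsNilpotent (rd hM (j * x * j) - c • rd hM j)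

theorem smul_corner {j : Loc hM G} (hj : j * j = j) (r : locRing hM) : InCorner j (r • j) :=
  ⟨by rw [mul_smul_comm, hj], by rw [smul_mul_assoc, hj]⟩

theorem tau_spec {T : Subgroup G} {j x : Loc hM G} (hj : IsPrim T j) (hx : Fixed T x) :
    IsNilpotent (rd hM (j * x * j) - tau hM j x • rd hM j) := by
  refine Classical.epsilon_spec (p := fun c => IsNilpotent (rd hM (j * x * j) - c • rd hM j)) ?_
  set w := j * x * j with hw
  have hwf : Fixed T w := (hj.1.mul hx).mul hj.1
  have hwc : InCorner j w := InCorner.sandwich hj.2.1 x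
  by_contra hno
  push Not at hno
  obtain ⟨P, hP, hPw⟩ := IsIntegral.of_finite (locRing hM) w
  change aeval w P = 0 at hPw
  obtain ⟨r, hr⟩ := exists_roots hM hP
  have key : ∀ s : Multiset (locRing hM), aeval w (s.map fun a => X - C a).prod * j ≠ 0 := by
    intro s
    induction s using Multiset.induction_on with
    | empty => simpa using hj.2.2.1
    | cons a s ih =>
      intro h0
      refine ih ?_
      have hca : InCorner j (w - a • j) :=
        ⟨by rw [mul_sub, hwc.1, (smul_corner hM hj.2.1 a).1],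
          by rw [sub_mul, hwc.2, (smul_corner hM hj.2.1 a).2]⟩
      obtain ⟨y, hy, hcy, -, hyx⟩ := (prim_dichotomy hj (fixed_sub hwf (fixed_smul hj.1 a)) hca).resolve_left
        fun hn => hno (res M (a : ℂ)) (by rwa [map_sub, rd_smul] at hn)
      set L := aeval w (s.map fun b => X - C b).prod * j with hL
      have hjw : Commute j w := hwc.1.trans hwc.2.symm
      have hjL : j * L = L := by
        have hcomm : Commute j (aeval w (s.map fun b => X - C b).prod) := by
          induction (s.map fun b => X - C b).prod using Polynomial.induction_on' with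
          | add f g hf hg => rw [map_add]; exact hf.add_right hg
          | monomial n b =>
            rw [aeval_monomial]
            exact (Algebra.commute_algebraMap_right b j).mul_right (hjw.pow_right n)
        rw [hL, ← mul_assoc, hcomm.eq, mul_assoc, hj.2.1]
      rw [Multiset.map_cons, Multiset.prod_cons, map_mul, mul_assoc, ← hL, map_sub, aeval_X,
        aeval_C] at h0
      have h1 : (w - a • j) * L = 0 := by
        rw [sub_mul, smul_mul_assoc, hjL]
        rw [sub_mul, ← Algebra.smul_def] at h0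
        exact h0
      rw [← hjL, ← hyx, mul_assoc, h1, mul_zero]
  exact key r (by rw [← hr, hPw, zero_mul])

theorem tau_eq {T : Subgroup G} {j x : Loc hM G} (hj : IsPrim T j) (hx : Fixed T x) {c : Res M}
    (h : IsNilpotent (rd hM (j * x * j) - c • rd hM j)) : tau hM j x = c := by
  by_contra hne
  have hs := tau_spec hM hj hx
  set X' := rd hM (j * x * j) with hX
  set J := rd hM j with hJ
  have hjw : Commute J X' := Commute.map
    ((InCorner.sandwich hj.2.1 x).1.trans (InCorner.sandwich hj.2.1 x).2.symm) (rd hM)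
  have hcom : Commute (X' - c • J) (X' - tau hM j x • J) :=
    ((Commute.refl X').sub_right (hjw.symm.smul_right _)).sub_left
      ((hjw.smul_left c).sub_right ((Commute.refl J).smul_left c |>.smul_right _))
  have h2 := hcom.isNilpotent_sub h hs
  rw [show X' - c • J - (X' - tau hM j x • J) = (tau hM j x - c) • J by rw [sub_smul]; abel] at h2
  obtain ⟨n, hn⟩ := h2
  obtain ⟨b, hb⟩ := res_exists_inv hM (sub_ne_zero.2 hne)
  refine prim_not_nilpotent hj ⟨n, ?_⟩
  have h3 := congrArg (fun z => b ^ n • z) hn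
  rw [smul_zero, _root_.smul_pow (M := Res M), smul_smul, ← mul_pow, mul_comm b, hb, one_pow,
    one_smul] at h3
  exact h3

theorem tau_add {T : Subgroup G} {j x y : Loc hM G} (hj : IsPrim T j) (hx : Fixed T x)
    (hy : Fixed T y) : tau hM j (x + y) = tau hM j x + tau hM j y := by
  refine tau_eq hM hj (hx.add hy) ?_
  let r : Res M → locRing hM := fun c => ⟨unres c, memR_unres hM c⟩
  have hr : ∀ c, res M ((r c : locRing hM) : ℂ) = c := res_unres hM
  have hmem : ∀ (z : Loc hM G) (c : Res M), Fixed T z →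
      IsNilpotent (rd hM (j * z * j) - c • rd hM j) →
      Fixed T (j * z * j - r c • j) ∧ InCorner j (j * z * j - r c • j) ∧
        IsNilpotent (rd hM (j * z * j - r c • j)) := fun z c hz h =>
    ⟨fixed_sub ((hj.1.mul hz).mul hj.1) (fixed_smul hj.1 _),
      ⟨by rw [mul_sub, (InCorner.sandwich hj.2.1 z).1, (smul_corner hM hj.2.1 (r c)).1],
        by rw [sub_mul, (InCorner.sandwich hj.2.1 z).2, (smul_corner hM hj.2.1 (r c)).2]⟩,
      by rwa [map_sub, rd_smul, hr]⟩
  obtain ⟨a1, a2, a3⟩ := hmem x _ hx (tau_spec hM hj hx)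
  obtain ⟨b1, b2, b3⟩ := hmem y _ hy (tau_spec hM hj hy)
  have h := nilp_add hM hj a1 a2 a3 b1 b2 b3
  rw [map_add, map_sub, map_sub, rd_smul, rd_smul, hr, hr] at h
  rw [mul_add, add_mul, map_add, add_smul]
  convert h using 1
  abel

theorem zero_smul_res (a : MonoidAlgebra (Res M) G) : (0 : Res M) • a = 0 := zero_smul (Res M) a

theorem tau_zero {T : Subgroup G} {j : Loc hM G} (hj : IsPrim T j) : tau hM j 0 = 0 :=
  tau_eq hM hj fixed_zero (by rw [mul_zero, zero_mul, map_zero, zero_smul_res, sub_zero]; exact IsNilpotent.zero)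

theorem tau_sum {ι : Type*} (s : Finset ι) {T : Subgroup G} {j : Loc hM G} (hj : IsPrim T j)
    (f : ι → Loc hM G) (h : ∀ i ∈ s, Fixed T (f i)) :
    tau hM j (∑ i ∈ s, f i) = ∑ i ∈ s, tau hM j (f i) := by
  classical
  induction s using Finset.induction_on with
  | empty => simpa using tau_zero hM hj
  | insert a s ha ih =>
    rw [Finset.sum_insert ha, Finset.sum_insert ha,
      tau_add hM hj (h a (Finset.mem_insert_self a s))
        (Fixed.sum s fun i hi => h i (Finset.mem_insert_of_mem hi)),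
      ih fun i hi => h i (Finset.mem_insert_of_mem hi)]

theorem tau_self {T : Subgroup G} {j : Loc hM G} (hj : IsPrim T j) : tau hM j j = 1 :=
  tau_eq hM hj hj.1 (by rw [hj.2.1, hj.2.1, one_smul, sub_self]; exact IsNilpotent.zero)

theorem tau_congr {j x y : Loc hM G} (h : j * x * j = j * y * j) : tau hM j x = tau hM j y := by
  unfold tau; rw [h]

theorem exists_inv_of_tau_ne_zero {T : Subgroup G} {j x : Loc hM G} (hj : IsPrim T j)
    (hx : Fixed T x) (hc : InCorner j x) (h : tau hM j x ≠ 0) :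
    ∃ y, Fixed T y ∧ InCorner j y ∧ x * y = j ∧ y * x = j :=
  (prim_dichotomy hj hx hc).resolve_left fun hn =>
    h (tau_eq hM hj hx (by rw [hc.eq, zero_smul_res, sub_zero]; exact hn))

theorem tau_mul_eq_of_ne {T : Subgroup G} {j k a b : Loc hM G} (hj : IsPrim T j) (hk : IsPrim T k)
    (ha : Fixed T a) (hb : Fixed T b) (ha1 : j * a = a) (ha2 : a * k = a) (hb1 : k * b = b)
    (hb2 : b * j = b) (hne : tau hM j (a * b) ≠ 0) : tau hM k (b * a) = tau hM j (a * b) := by
  have hcab : InCorner j (a * b) := ⟨by rw [← mul_assoc, ha1], by rw [mul_assoc, hb2]⟩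
  have hcba : InCorner k (b * a) := ⟨by rw [← mul_assoc, hb1], by rw [mul_assoc, ha2]⟩
  obtain ⟨y, hy, hcy, hxy, -⟩ := exists_inv_of_tau_ne_zero hM hj (ha.mul hb) hcab hne
  obtain ⟨n, hn⟩ := tau_spec hM hk (hb.mul ha)
  rw [hcba.eq] at hn
  set c := tau hM k (b * a)
  refine (tau_eq hM hj (ha.mul hb) ⟨n + 1, ?_⟩).symm
  rw [hcab.eq]
  set U := rd hM (a * b) - c • rd hM j with hU
  have hsc : SemiconjBy (rd hM a) (rd hM (b * a) - c • rd hM k) U := by
    show rd hM a * _ = U * rd hM a
    simp only [hU, mul_sub, sub_mul, mul_smul_comm, smul_mul_assoc, ← map_mul, ha1, ha2, mul_assoc]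
  have h1 := (hsc.pow_right n).eq
  rw [hn, mul_zero] at h1
  have hJU : rd hM j * U = U := by
    simp only [hU, mul_sub, mul_smul_comm, ← map_mul, hcab.1, hj.2.1]
  calc U ^ (n + 1) = U ^ n * (rd hM j * U) := by rw [hJU, pow_succ]
    _ = U ^ n * (rd hM a * rd hM b * rd hM y * U) := by
        rw [← map_mul, ← map_mul, hxy]
    _ = U ^ n * rd hM a * (rd hM b * rd hM y * U) := by simp only [mul_assoc]
    _ = 0 := by rw [← h1, zero_mul]

/-- `tau` is tracial. -/
theorem tau_mul_comm {T : Subgroup G} {j k a b : Loc hM G} (hj : IsPrim T j) (hk : IsPrim T k)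
    (ha : Fixed T a) (hb : Fixed T b) (ha1 : j * a = a) (ha2 : a * k = a) (hb1 : k * b = b)
    (hb2 : b * j = b) : tau hM j (a * b) = tau hM k (b * a) := by
  by_cases h : tau hM j (a * b) = 0
  · by_cases h' : tau hM k (b * a) = 0
    · rw [h, h']
    · exact tau_mul_eq_of_ne hM hk hj hb ha hb1 hb2 ha1 ha2 h'
  · exact (tau_mul_eq_of_ne hM hj hk ha hb ha1 ha2 hb1 hb2 h).symm

/-- A non-zero `tau` gives an isomorphism of idempotents. -/
theorem exists_assoc_of_tau {T : Subgroup G} {j k a b : Loc hM G} (hj : IsPrim T j) (hk : IsPrim T k)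
    (ha : Fixed T a) (hb : Fixed T b) (ha1 : j * a = a) (ha2 : a * k = a) (hb1 : k * b = b)
    (hb2 : b * j = b) (hne : tau hM j (a * b) ≠ 0) :
    ∃ b' : Loc hM G, Fixed T b' ∧ k * b' = b' ∧ b' * j = b' ∧ a * b' = j ∧ b' * a = k := by
  have hcab : InCorner j (a * b) := ⟨by rw [← mul_assoc, ha1], by rw [mul_assoc, hb2]⟩
  obtain ⟨y, hy, hcy, hxy, -⟩ := exists_inv_of_tau_ne_zero hM hj (ha.mul hb) hcab hne
  have hab : a * (b * y) = j := by rw [← mul_assoc, hxy]
  have hbj : b * y * j = b * y := by rw [mul_assoc, hcy.2]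
  refine ⟨b * y, hb.mul hy, by rw [← mul_assoc, hb1], hbj, hab, ?_⟩
  have hidem : b * y * a * (b * y * a) = b * y * a :=
    calc b * y * a * (b * y * a) = b * y * (a * (b * y)) * a := by simp only [mul_assoc]
      _ = b * y * a := by rw [hab, hbj]
  refine ((hk.2.2.2 _ ((hb.mul hy).mul ha) hidem ⟨by rw [← mul_assoc, ← mul_assoc, hb1],
    by rw [mul_assoc, ha2]⟩).resolve_left fun h0 => hj.2.2.1 ?_)
  calc j = j * j := hj.2.1.symm
    _ = a * (b * y * a) * (b * y) := by rw [← hab]; simp only [mul_assoc]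
    _ = 0 := by rw [h0, mul_zero, zero_mul]

/-- `tau` commutes with conjugation. -/
theorem tau_cj {T : Subgroup G} {j x : Loc hM G} (hj : IsPrim T j) (hx : Fixed T x) {g : G}
    (h : ∀ u, u ∈ T ↔ g⁻¹ * u * g ∈ T) :
    tau hM (BrauerPairs.cj g j) (BrauerPairs.cj g x) = tau hM j x := by
  refine tau_eq hM (hj.cj h) (fixed_conj hx fun u hu => (h u).1 hu) ?_
  rw [← map_mul, ← map_mul, rd_cj, rd_cj, ← cj_smul, ← map_sub]
  exact (tau_spec hM hj hx).map _

/-- Rosenberg's lemma for the kernel of the Brauer map. -/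
theorem exists_eq_relTr_of_br_eq_zero [Fact p.Prime] {T : Subgroup G} (hT : IsPGroup p T)
    {i : Loc hM G} (hi : IsPrim T i) (h0 : br T (rd hM i) = 0) :
    ∃ (R : Subgroup G) (c : Loc hM G), R ≤ T ∧ (R.subgroupOf T).Normal ∧
      (R.subgroupOf T).index = p ∧ Fixed R c ∧ i = relTr R T c := by
  classical
  let Good : Subgroup G → Prop := fun R => R ≤ T ∧ IsCoatom (R.subgroupOf T)
  suffices hex : ∃ (R : Subgroup G) (c : Loc hM G), Good R ∧ Fixed R c ∧
      InCorner i (relTr R T c) ∧ ¬ IsNilpotent (rd hM (relTr R T c)) by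
    obtain ⟨R, c, ⟨hRT, hco⟩, hc, hcor, hnn⟩ := hex
    obtain ⟨y, hy, -, -, hyx⟩ := (prim_dichotomy hi (fixed_relTr hc) hcor).resolve_left hnn
    exact ⟨R, y * c, hRT, BurnsideBasis.coatom_normal hT hco, BurnsideBasis.coatom_index hT hco,
      (hy.mono hRT).mul hc, by rw [← mul_relTr hy, hyx]⟩
  by_contra hno
  push Not at hno
  have := Fintype.ofFinite (Subgroup G)
  set z := rd hM i with hz
  have hzf : Fixed T z := fixed_rd hM hi.1
  let X : G → Subgroup G := fun x => T ⊓ Subgroup.centralizer ({x} : Set G)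
  let Rof : G → Subgroup G := fun x => Classical.epsilon fun R => Good R ∧ X x ≤ R
  have hRof : ∀ x, z.coeff x ≠ 0 → Good (Rof x) ∧ X x ≤ Rof x := by
    intro x hx
    refine Classical.epsilon_spec (p := fun R => Good R ∧ X x ≤ R) ?_
    have hne : (X x).subgroupOf T ≠ ⊤ := by
      rw [Ne, Subgroup.subgroupOf_eq_top]
      intro hle
      refine hx ?_
      have hxC : x ∈ Subgroup.centralizer (T : Set G) :=
        le_centralizer_singleton.1 (hle.trans inf_le_right)
      have := congrArg (fun w : MonoidAlgebra (Res M) G => w.coeff x) h0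
      simpa [coeff_br, hxC] using this
    obtain ⟨R₀, hR₀, hle⟩ := (eq_top_or_exists_le_coatom ((X x).subgroupOf T)).resolve_left hne
    refine ⟨R₀.map T.subtype, ⟨Subgroup.map_subtype_le _, ?_⟩, ?_⟩
    · rwa [Subgroup.subgroupOf, Subgroup.comap_map_eq_self_of_injective T.subtype_injective]
    · intro u hu
      exact ⟨⟨u, hu.1⟩, hle (Subgroup.mem_subgroupOf.2 hu), rfl⟩
  have hinv : ∀ t ∈ T, ∀ x, Rof (t⁻¹ * x * t) = Rof x := by
    intro t ht x
    simp only [Rof]
    congr 1
    funext R
    refine propext (and_congr_right fun hR => ?_)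
    have hnormal := BurnsideBasis.coatom_normal hT hR.2
    have hmove : ∀ {u : G}, u ∈ T → u ∈ R → ∀ w ∈ T, w * u * w⁻¹ ∈ R := fun {u} hu huR w hw => by
      have := hnormal.conj_mem ⟨u, hu⟩ (Subgroup.mem_subgroupOf.2 huR) ⟨w, hw⟩
      simpa [Subgroup.mem_subgroupOf] using this
    have hcj : ∀ {y w u : G}, w ∈ T → u ∈ X y → w * u * w⁻¹ ∈ X (w * y * w⁻¹) :=
      fun {y w u} hw hu => ⟨T.mul_mem (T.mul_mem hw hu.1) (T.inv_mem hw), by
        have h := Subgroup.mem_centralizer_singleton_iff.1 hu.2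
        refine Subgroup.mem_centralizer_singleton_iff.2 ?_
        calc w * u * w⁻¹ * (w * y * w⁻¹) = w * (u * y) * w⁻¹ := by group
          _ = w * (y * u) * w⁻¹ := by rw [h]
          _ = _ := by group⟩
    constructor
    · intro h u hu
      have h1 := hcj (inv_mem ht) hu
      rw [inv_inv] at h1
      have h2 := h h1
      simpa [mul_assoc] using hmove h1.1 h2 t ht
    · intro h u hu
      have h1 : t * u * t⁻¹ ∈ X x := by simpa [mul_assoc] using hcj ht hu
      have h2 := hmove h1.1 (h h1) t⁻¹ (inv_mem ht)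
      simpa [mul_assoc] using h2
  let part : Subgroup G → MonoidAlgebra (Res M) G := fun R =>
    MonoidAlgebra.ofCoeff (z.coeff.filter fun x => Rof x = R)
  have hpc : ∀ R x, (part R).coeff x = if Rof x = R then z.coeff x else 0 := fun R x => by
    simp [part, Finsupp.filter_apply]
  set S := (Finset.univ : Finset (Subgroup G)).filter Good
  have hsum : ∑ R ∈ S, part R = z := by
    ext x
    rw [MonoidAlgebra.coeff_sum, Finsupp.finsetSum_apply]
    simp only [hpc, Finset.sum_ite_eq]
    by_cases hx : z.coeff x = 0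
    · rw [hx, ite_self]
    · rw [if_pos (Finset.mem_filter.2 ⟨Finset.mem_univ _, (hRof x hx).1⟩)]
  have hc : ∀ R ∈ S, ∃ c : MonoidAlgebra (Res M) G, Fixed R c ∧ relTr R T c = part R := by
    intro R hR
    have hfix : Fixed T (part R) := fun t ht => by
      ext x
      rw [coeff_cj, hpc, hpc, hinv t ht]
      congr 1
      simpa using coeff_conj_of_fixed hzf (inv_mem ht) x
    obtain ⟨c, h1, h2, -⟩ := exists_relTr hfix (Finset.mem_filter.1 hR).2.1 (fun x hx t ht htx => by
      rw [hpc] at hx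
      by_cases hRx : Rof x = R
      · rw [if_pos hRx] at hx
        rw [← hRx]
        refine (hRof x hx).2 ⟨ht, Subgroup.mem_centralizer_singleton_iff.2 ?_⟩
        calc t * x = t * x * t⁻¹ * t := by group
          _ = x * t := by rw [htx]
      · exact absurd (if_neg hRx) hx)
    exact ⟨c, h1, h2⟩
  choose c hcf hct using hc
  have hall : ∀ R (hR : R ∈ S), Fixed T (relTr R T (i * liftEl hM (c R hR) * i)) ∧
      InCorner i (relTr R T (i * liftEl hM (c R hR) * i)) ∧
      IsNilpotent (rd hM (relTr R T (i * liftEl hM (c R hR) * i))) := by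
    intro R hR
    have hg := (Finset.mem_filter.1 hR).2
    have hf : Fixed R (i * liftEl hM (c R hR) * i) :=
      ((hi.1.mono hg.1).mul (fixed_liftEl hM (hcf R hR))).mul (hi.1.mono hg.1)
    have hcor : InCorner i (relTr R T (i * liftEl hM (c R hR) * i)) :=
      ⟨by rw [mul_relTr hi.1, (InCorner.sandwich hi.2.1 _).1],
        by rw [relTr_mul hi.1, (InCorner.sandwich hi.2.1 _).2]⟩
    exact ⟨fixed_relTr hf, hcor, hno R _ hg hf hcor⟩
  have hn := (nilp_sum hM S.attach hi (fun R => relTr R.1 T (i * liftEl hM (c R.1 R.2) * i))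
    fun R _ => hall R.1 R.2).2.2
  refine prim_not_nilpotent hi ?_
  convert hn using 1
  rw [map_sum]
  calc rd hM i = rd hM i * (∑ R ∈ S, part R) * rd hM i := by
        rw [hsum, hz, ← map_mul, ← map_mul, hi.2.1, hi.2.1]
    _ = _ := by
        rw [← Finset.sum_attach S part, Finset.mul_sum, Finset.sum_mul]
        refine Finset.sum_congr rfl fun R _ => ?_
        rw [rd_relTr, map_mul, map_mul, rd_liftEl, ← hct R.1 R.2, mul_relTr (fixed_rd hM hi.1),
          relTr_mul (fixed_rd hM hi.1)]

end Cfsg.Agent.Star
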